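import Mathlib
import Cfsg.Agent.Helper89.CosetTable2

/-!
# Small finite groups by generators and relations (helper40)

A finite group `Γ` with elements `γ i` and a verified coset table (checker `CT2` of
`Cfsg.Agent.Helper89`, trivial subgroup, `Nat.card Γ` rows) for a list of relators that hold in
`Γ` has the universal property of the presentation: elements `x i` of any group satisfying the
relators are the images of the `γ i` under a homomorphism.
-/

set_option autoImplicit false

namespace Cfsg.Agent.Helper40

open Cfsg.Agent.Helper89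

section presTool

variable {G : Type*} [Group G]

/-- The symbols of a family of elements: `2 i` is `x i` and `2 i + 1` is its inverse. -/
def sym {m : ℕ} (x : Fin m → G) (j : ℕ) : G :=
  if h : j / 2 < m then (if j % 2 = 0 then x ⟨j / 2, h⟩ else (x ⟨j / 2, h⟩)⁻¹) else 1

theorem iv_div_two (j : ℕ) : CT2.iv j / 2 = j / 2 := by
  unfold CT2.iv
  have h := Nat.shiftRight_xor_distrib (a := j) (b := 1) (i := 1)
  simp only [Nat.shiftRight_one] at h
  simpa using h

theorem iv_mod_two (j : ℕ) : CT2.iv j % 2 = 1 - j % 2 := by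
  unfold CT2.iv
  rcases Nat.mod_two_eq_zero_or_one j with h | h
  · have : (j ^^^ 1) % 2 = 1 := by
      rw [Nat.xor_mod_two_eq_one]
      omega
    omega
  · have : ¬ (j ^^^ 1) % 2 = 1 := by
      rw [Nat.xor_mod_two_eq_one]
      omega
    omega

theorem sym_inv {m : ℕ} (x : Fin m → G) (j : ℕ) : sym x j * sym x (CT2.iv j) = 1 := by
  unfold sym
  simp only [iv_div_two, iv_mod_two]
  by_cases h : j / 2 < m
  · rw [dif_pos h, dif_pos h]
    rcases Nat.mod_two_eq_zero_or_one j with h2 | h2
    · rw [if_pos h2, if_neg (by omega)]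
      exact mul_inv_cancel _
    · rw [if_neg (by omega), if_pos (by omega)]
      exact inv_mul_cancel _
  · rw [dif_neg h, dif_neg h, one_mul]

theorem map_sym {G' : Type*} [Group G'] (f : G →* G') {m : ℕ} (x : Fin m → G) (j : ℕ) :
    f (sym x j) = sym (fun i => f (x i)) j := by
  unfold sym
  by_cases h : j / 2 < m
  · rw [dif_pos h, dif_pos h]
    split_ifs
    · rfl
    · rw [map_inv]
  · rw [dif_neg h, dif_neg h, map_one]

theorem map_ev {G' : Type*} [Group G'] (f : G →* G') (g : ℕ → G) (w : List ℕ) :
    f (ev g w) = ev (fun j => f (g j)) w := by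
  induction w with
  | nil => simp [ev]
  | cons j w ih => simp [ev, ih]

theorem sym_mem_closure {m : ℕ} (x : Fin m → G) (j : ℕ) :
    sym x j ∈ Subgroup.closure (Set.range x) := by
  unfold sym
  by_cases h : j / 2 < m
  · rw [dif_pos h]
    split_ifs
    · exact Subgroup.subset_closure ⟨_, rfl⟩
    · exact Subgroup.inv_mem _ (Subgroup.subset_closure ⟨_, rfl⟩)
  · rw [dif_neg h]
    exact Subgroup.one_mem _

theorem closure_sym {m : ℕ} (x : Fin m → G) :
    Subgroup.closure (sym x '' Set.Iio (2 * m)) = Subgroup.closure (Set.range x) := by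
  apply le_antisymm
  · rw [Subgroup.closure_le]
    rintro _ ⟨j, _, rfl⟩
    exact sym_mem_closure x j
  · rw [Subgroup.closure_le]
    rintro _ ⟨i, rfl⟩
    apply Subgroup.subset_closure
    refine ⟨2 * i.val, ?_, ?_⟩
    · have := i.2
      show 2 * i.val < 2 * m
      omega
    · unfold sym
      have h : 2 * i.val / 2 < m := by
        rw [Nat.mul_div_cancel_left _ (by norm_num : 0 < 2)]
        exact i.2
      rw [dif_pos h, if_pos (by omega)]
      congr 1
      apply Fin.ext
      exact Nat.mul_div_cancel_left _ (by norm_num : 0 < 2)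

/-- A successful run of the `CT2` checker with trivial subgroup: every element of the group
generated by the symbols is one of the representatives. -/
theorem ct2_cover (g : ℕ → G) (hinv : ∀ j, g j * g (CT2.iv j) = 1) (n k : ℕ)
    (T : ℕ → ℕ → ℕ) (par gam : ℕ → ℕ) (rels : List (List ℕ)) (steps : List (ℕ × ℕ × ℕ))
    (E₀ : ℕ) (hpre : CT2.preChk n k T par gam [] = some E₀)
    (hrun : CT2.runSteps T k rels E₀ steps = some (2 ^ (n * k) - 1))
    (hrel : ∀ ρ ∈ rels, ev g ρ = 1) (hn : 0 < n) :
    (∀ u ∈ Subgroup.closure (g '' Set.Iio k), ∃ c < n, u = rep g par gam c) ∧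
    (∀ c, 0 < c → c < n → par c < c ∧ gam c < k) := by
  unfold CT2.preChk at hpre
  split at hpre
  · rename_i htab
    split at hpre
    · exact absurd hpre (by simp)
    · rename_i E₁ hloop
      have hI1 : Inv (⊥ : Subgroup G) g T (rep g par gam) k E₁ :=
        loop_sound (rep_zero g par gam) [] 0 E₁ (by simp) (inv_zero ⊥ g T _ k) hloop
      obtain ⟨hI0, hpg⟩ := CT2.tree_sound hinv _ _ _ hI1 hpre
      have hI : Inv (⊥ : Subgroup G) g T (rep g par gam) k (2 ^ (n * k) - 1) :=
        CT2.run_sound hinv hrel steps _ _ hI0 hrun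
      have htab' : ∀ c < n, ∀ j < k, (T c j < n ∧ T (T c j) (CT2.iv j) = c) ∧ CT2.iv j < k := by
        intro c hc j hj
        unfold CT2.tableOK at htab
        rw [List.all_eq_true] at htab
        have h1 := htab c (List.mem_range.2 hc)
        rw [List.all_eq_true] at h1
        have h2 := h1 j (List.mem_range.2 hj)
        simpa using h2
      have hgood : ∀ c < n, ∀ j < k,
          RelH (⊥ : Subgroup G) (rep g par gam c * g j) (rep g par gam (T c j)) := by
        intro c hc j hj
        apply hI c j hj
        rw [Nat.testBit_two_pow_sub_one, decide_eq_true_eq]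
        calc c * k + j < c * k + k := by omega
          _ = (c + 1) * k := by ring
          _ ≤ n * k := Nat.mul_le_mul_right k hc
      have hiv : ∀ j < k, CT2.iv j < k := fun j hj => (htab' 0 hn j hj).2
      have key : ∀ u ∈ Subgroup.closure (g '' Set.Iio k), ∀ v : G,
          (∃ c < n, RelH (⊥ : Subgroup G) (v * u) (rep g par gam c)) ↔
            (∃ c < n, RelH (⊥ : Subgroup G) v (rep g par gam c)) := by
        intro u hu
        induction hu using Subgroup.closure_induction with
        | mem x hx =>
          obtain ⟨j, hj, rfl⟩ := hx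
          have hj : j < k := hj
          intro v
          constructor
          · rintro ⟨c, hc, h⟩
            refine ⟨T c (CT2.iv j), (htab' c hc _ (hiv j hj)).1.1, ?_⟩
            have h1 := (h.mul_right (g (CT2.iv j))).trans (hgood c hc _ (hiv j hj))
            rwa [mul_assoc, hinv j, mul_one] at h1
          · rintro ⟨c, hc, h⟩
            exact ⟨T c j, (htab' c hc j hj).1.1, (h.mul_right (g j)).trans (hgood c hc j hj)⟩
        | one => intro v; rw [mul_one]
        | mul x y _ _ ihx ihy => intro v; rw [← mul_assoc, ihy, ihx]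
        | inv x _ ih =>
          intro v
          have := ih (v * x⁻¹)
          rw [inv_mul_cancel_right] at this
          exact this.symm
      refine ⟨?_, ?_⟩
      · intro u hu
        have h := (key u hu 1).2 ⟨0, hn, by rw [rep_zero]; exact relH_refl ⊥ 1⟩
        rw [one_mul] at h
        obtain ⟨c, hc, hr⟩ := h
        refine ⟨c, hc, ?_⟩
        unfold RelH at hr
        rw [Subgroup.mem_bot] at hr
        exact mul_inv_eq_one.1 hr
      · intro c hpos hc
        have hmem : c ∈ List.range' 1 (n - 1) := by
          rw [List.mem_range']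
          exact ⟨c - 1, by omega, by omega⟩
        exact hpg c hmem
  · exact absurd hpre (by simp)

/-- The words of the representatives follow the tree. -/
def wordsOK (n : ℕ) (par gam : ℕ → ℕ) (W : List (List ℕ)) : Bool :=
  (W.getD 0 [1] == []) &&
  (List.range' 1 (n - 1)).all fun c => W.getD c [] == W.getD (par c) [] ++ [gam c]

theorem rep_eq_ev (g : ℕ → G) (n : ℕ) (par gam : ℕ → ℕ) (W : List (List ℕ))
    (hW : wordsOK n par gam W = true) (htree : ∀ c, 0 < c → c < n → par c < c) :
    ∀ c < n, rep g par gam c = ev g (W.getD c []) := by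
  unfold wordsOK at hW
  rw [Bool.and_eq_true, beq_iff_eq, List.all_eq_true] at hW
  obtain ⟨hW0, hW1⟩ := hW
  intro c
  induction c using Nat.strong_induction_on with
  | _ c ih =>
    intro hc
    rcases Nat.eq_zero_or_pos c with rfl | hpos
    · rw [rep_zero]
      have : W.getD 0 [] = [] := by
        rw [List.getD_eq_getElem?_getD] at hW0 ⊢
        cases h : W[0]? with
        | none => rfl
        | some w => rw [h] at hW0; simpa using hW0
      rw [this]; rfl
    · have h1 := htree c hpos hc
      have hmem : c ∈ List.range' 1 (n - 1) := by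
        rw [List.mem_range']
        exact ⟨c - 1, by omega, by omega⟩
      have h2 := hW1 c hmem
      rw [beq_iff_eq] at h2
      rw [rep_eq h1, ih _ h1 (by omega), h2, ev_append]
      simp [ev]

theorem lift_ev_sym {m : ℕ} (y : Fin m → G) (ρ : List ℕ) :
    FreeGroup.lift y (ev (sym FreeGroup.of) ρ) = ev (sym y) ρ := by
  rw [map_ev]
  congr 1
  funext j
  rw [map_sym]
  congr 1
  funext i
  exact FreeGroup.lift_apply_of

/-- **Universal property from a coset table.** -/
theorem hom_of_cert {Γ : Type*} [Group Γ] [Finite Γ] {m : ℕ} (γ : Fin m → Γ) (n : ℕ)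
    (hn : Nat.card Γ = n) (T : ℕ → ℕ → ℕ) (par gam : ℕ → ℕ) (rels : List (List ℕ))
    (steps : List (ℕ × ℕ × ℕ)) (E₀ : ℕ) (W : List (List ℕ))
    (hpre : CT2.preChk n (2 * m) T par gam [] = some E₀)
    (hrun : CT2.runSteps T (2 * m) rels E₀ steps = some (2 ^ (n * (2 * m)) - 1))
    (hW : wordsOK n par gam W = true)
    (hnodup : ((List.range n).map fun c => ev (sym γ) (W.getD c [])).Nodup)
    (hΓrel : ∀ ρ ∈ rels, ev (sym γ) ρ = 1)
    (x : Fin m → G) (hx : ∀ ρ ∈ rels, ev (sym x) ρ = 1) :
    ∃ f : Γ →* G, ∀ i, f (γ i) = x i := by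
  classical
  have hn0 : 0 < n := by
    rw [← hn]; exact Nat.card_pos
  -- the presented group
  let R : Set (FreeGroup (Fin m)) := {w | ∃ ρ ∈ rels, w = ev (sym FreeGroup.of) ρ}
  have hRΓ : ∀ r ∈ R, FreeGroup.lift γ r = 1 := by
    rintro r ⟨ρ, hρ, rfl⟩
    rw [lift_ev_sym]; exact hΓrel ρ hρ
  have hRG : ∀ r ∈ R, FreeGroup.lift x r = 1 := by
    rintro r ⟨ρ, hρ, rfl⟩
    rw [lift_ev_sym]; exact hx ρ hρ
  let π : PresentedGroup R →* Γ := PresentedGroup.toGroup hRΓ
  let φ : PresentedGroup R →* G := PresentedGroup.toGroup hRG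
  have hπ : ∀ i, π (PresentedGroup.of i) = γ i := fun i => PresentedGroup.toGroup.of hRΓ
  have hφ : ∀ i, φ (PresentedGroup.of i) = x i := fun i => PresentedGroup.toGroup.of hRG
  -- the generators of the presented group
  let g : ℕ → PresentedGroup R := sym (fun i => PresentedGroup.of i)
  have hrelP : ∀ ρ ∈ rels, ev g ρ = 1 := by
    intro ρ hρ
    have h1 : ev g ρ = PresentedGroup.mk R (ev (sym FreeGroup.of) ρ) := by
      rw [map_ev]
      congr 1
      funext j
      rw [map_sym]
      rfl
    rw [h1]
    exact PresentedGroup.one_of_mem ⟨ρ, hρ, rfl⟩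
  have htop : Subgroup.closure (g '' Set.Iio (2 * m)) = ⊤ := by
    rw [closure_sym]
    exact PresentedGroup.closure_range_of R
  obtain ⟨hcov, htree⟩ := ct2_cover g (sym_inv _) n (2 * m) T par gam rels steps E₀ hpre hrun
    hrelP hn0
  have hrep := rep_eq_ev g n par gam W hW (fun c h1 h2 => (htree c h1 h2).1)
  have hcov' : ∀ u : PresentedGroup R, ∃ c < n, u = ev g (W.getD c []) := by
    intro u
    obtain ⟨c, hc, hu⟩ := hcov u (htop ▸ Subgroup.mem_top u)
    exact ⟨c, hc, hu.trans (hrep c hc)⟩
  have hπev : ∀ w : List ℕ, π (ev g w) = ev (sym γ) w := by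
    intro w
    rw [map_ev]
    congr 1
    funext j
    rw [map_sym]
    congr 1
    funext i
    exact hπ i
  -- injectivity
  have hinj : Function.Injective π := by
    intro u v huv
    obtain ⟨c, hc, rfl⟩ := hcov' u
    obtain ⟨c', hc', rfl⟩ := hcov' v
    rw [hπev, hπev] at huv
    have := List.inj_on_of_nodup_map hnodup (List.mem_range.2 hc) (List.mem_range.2 hc') huv
    rw [this]
  have hfin : Finite (PresentedGroup R) := Finite.of_injective π hinj
  -- at least `n` elements
  have hcard : n ≤ Nat.card (PresentedGroup R) := by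
    have hinj2 : Function.Injective (fun c : Fin n => ev g (W.getD c.val [])) := by
      intro c c' hcc
      have h1 := congrArg π hcc
      simp only [hπev] at h1
      exact Fin.ext (List.inj_on_of_nodup_map hnodup (List.mem_range.2 c.2)
        (List.mem_range.2 c'.2) h1)
    have := Nat.card_le_card_of_injective _ hinj2
    rwa [Nat.card_fin] at this
  have hbij : Function.Bijective π :=
    Function.Injective.bijective_of_nat_card_le hinj (by rw [hn]; exact hcard)
  let e : PresentedGroup R ≃* Γ := MulEquiv.ofBijective π hbij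
  refine ⟨φ.comp e.symm.toMonoidHom, ?_⟩
  intro i
  have : e.symm (γ i) = PresentedGroup.of i := by
    rw [MulEquiv.symm_apply_eq]
    exact (hπ i).symm
  show φ (e.symm (γ i)) = x i
  rw [this, hφ]

end presTool

end Cfsg.Agent.Helper40
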