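import Mathlib
import Cfsg.Prelude.Def_LinearParabolics
import Cfsg.Prelude.Def_Characters
import Cfsg.Agent.Helper44.PSLnC

set_option autoImplicit false

/-!
Definitions for CALL S4538 (helper40): fixed subspaces of a complex representation, averaging
operators, and the rank-one elements `x_j(c)`, `y_j(c)`, `ṡ_j`, `h_j(c)` of `SL_n(F)`.
-/

namespace Cfsg.Agent.Helper40.DZ

open Matrix

universe u

/-- the subspace of vectors fixed by every element of the set `A` -/
def fixS {G : Type*} [Group G] {V : Type*} [AddCommGroup V] [Module ℂ V]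
    (ρ : Representation ℂ G V) (A : Set G) : Submodule ℂ V where
  carrier := {v | ∀ g ∈ A, ρ g v = v}
  add_mem' := fun {a b} ha hb g hg => by rw [map_add, ha g hg, hb g hg]
  zero_mem' := fun g _ => map_zero _
  smul_mem' := fun c v hv g hg => by rw [map_smul, hv g hg]

theorem mem_fixS {G : Type*} [Group G] {V : Type*} [AddCommGroup V] [Module ℂ V]
    (ρ : Representation ℂ G V) (A : Set G) (v : V) :
    v ∈ fixS ρ A ↔ ∀ g ∈ A, ρ g v = v := Iff.rfl

/-- the averaging operator of a subgroup `H` (the projector onto `fixS ρ H`) -/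
noncomputable def avgL {G : Type*} [Group G] {V : Type*} [AddCommGroup V] [Module ℂ V]
    (ρ : Representation ℂ G V) (H : Subgroup G) : V →ₗ[ℂ] V :=
  (Nat.card H : ℂ)⁻¹ • ∑ᶠ h ∈ (H : Set G), ρ h

section SL

variable {n : ℕ} {F : Type u} [Field F]

/-- the index `j` of `Fin n` -/
def ia (j : ℕ) (hj : j + 1 < n) : Fin n := ⟨j, by omega⟩

/-- the index `j + 1` of `Fin n` -/
def ib (j : ℕ) (hj : j + 1 < n) : Fin n := ⟨j + 1, hj⟩

theorem ia_ne_ib (j : ℕ) (hj : j + 1 < n) : ia j hj ≠ ib j hj := by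
  intro h
  have := congrArg Fin.val h
  simp [ia, ib] at this

/-- `x_j(c) = 1 + c E_{j,j+1}` -/
def xel (j : ℕ) (hj : j + 1 < n) (c : F) : Matrix.SpecialLinearGroup (Fin n) F :=
  Matrix.SpecialLinearGroup.transvection (ia_ne_ib j hj) c

/-- `y_j(c) = 1 + c E_{j+1,j}` -/
def yel (j : ℕ) (hj : j + 1 < n) (c : F) : Matrix.SpecialLinearGroup (Fin n) F :=
  Matrix.SpecialLinearGroup.transvection (ia_ne_ib j hj).symm c

/-- `ṡ_j = x_j(1) y_j(-1) x_j(1)`: the block `[[0,1],[-1,0]]` in rows/columns `j, j+1` -/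
def sdot (j : ℕ) (hj : j + 1 < n) : Matrix.SpecialLinearGroup (Fin n) F :=
  xel j hj 1 * yel j hj (-1) * xel j hj 1

/-- `h_j(c) = x_j(c) y_j(-c⁻¹) x_j(c) ṡ_j⁻¹`: for `c ≠ 0` the diagonal matrix with `c` at `j`
and `c⁻¹` at `j + 1` -/
def hel (j : ℕ) (hj : j + 1 < n) (c : F) : Matrix.SpecialLinearGroup (Fin n) F :=
  xel j hj c * yel j hj (-c⁻¹) * xel j hj c * (sdot j hj)⁻¹

/-- the upper triangular subgroup of `SL_n(F)` -/
def borelSL (n : ℕ) (F : Type u) [Field F] : Subgroup (Matrix.SpecialLinearGroup (Fin n) F) :=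
  (Cfsg.upperTriangularGL n F).comap Matrix.SpecialLinearGroup.toGL

/-- the standard parabolic subgroup of `SL_n(F)` of the composition `μ` -/
def parSL (n : ℕ) (F : Type u) [Field F] (μ : Fin n → ℕ) :
    Subgroup (Matrix.SpecialLinearGroup (Fin n) F) :=
  (Cfsg.parabolicGL n F μ).comap Matrix.SpecialLinearGroup.toGL

/-- the unipotent radical of the minimal parabolic `P_j`: `U ∩ ṡ_j U ṡ_j⁻¹` -/
def uRad (n : ℕ) (F : Type u) [Field F] [Finite F] (j : ℕ) (hj : j + 1 < n) :
    Subgroup (Matrix.SpecialLinearGroup (Fin n) F) :=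
  Cfsg.Agent.Helper44.PSLn.UniS n F ⊓
    (Cfsg.Agent.Helper44.PSLn.UniS n F).map (MulAut.conj (sdot j hj)).toMonoidHom

/-- the restriction to `SL_n(F)` of the Steinberg character of `GL_n(F)` -/
noncomputable def stSL (n : ℕ) (F : Type u) [Field F] :
    Matrix.SpecialLinearGroup (Fin n) F → ℂ :=
  fun s => Cfsg.unipotentCharacterGL n F (fun _ => 1) (Matrix.SpecialLinearGroup.toGL s)

/-- the set of elements of `SL_n(F)` acting trivially on `W` and on `F^n / W` -/
def qSet (W : Submodule F (Fin n → F)) : Set (Matrix.SpecialLinearGroup (Fin n) F) :=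
  {g | (∀ v : Fin n → F, (g : Matrix (Fin n) (Fin n) F).mulVec v - v ∈ W) ∧
    ∀ w ∈ W, (g : Matrix (Fin n) (Fin n) F).mulVec w = w}

/-- the space of vectors fixed by a subgroup of `SL_n(F)` -/
def fixVec (D : Subgroup (Matrix.SpecialLinearGroup (Fin n) F)) : Submodule F (Fin n → F) where
  carrier := {w | ∀ d ∈ D, (d : Matrix (Fin n) (Fin n) F).mulVec w = w}
  add_mem' := fun {a b} ha hb d hd => by rw [Matrix.mulVec_add, ha d hd, hb d hd]
  zero_mem' := fun d _ => Matrix.mulVec_zero _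
  smul_mem' := fun c v hv d hd => by rw [Matrix.mulVec_smul, hv d hd]

end SL

end Cfsg.Agent.Helper40.DZ
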