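import Mathlib
import Cfsg.Prelude.Def_ParabolicCharacters

set_option autoImplicit false

namespace Cfsg.Agent.Helper40

open scoped MatrixGroups

section Bruhat

variable (F : Type*) [Field F] {n : ℕ}

/-- The permutation matrix with ones at the positions `(w j, j)`. -/
def Pm (w : Equiv.Perm (Fin n)) : Matrix (Fin n) (Fin n) F :=
  Matrix.of fun i j => if i = w j then 1 else 0

variable {F}

lemma Pm_apply (w : Equiv.Perm (Fin n)) (i j : Fin n) :
    Pm F w i j = if i = w j then 1 else 0 := rfl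

lemma mul_Pm (M : Matrix (Fin n) (Fin n) F) (w : Equiv.Perm (Fin n)) (i j : Fin n) :
    (M * Pm F w) i j = M i (w j) := by
  simp [Matrix.mul_apply, Pm]

lemma Pm_mul (M : Matrix (Fin n) (Fin n) F) (w : Equiv.Perm (Fin n)) (i j : Fin n) :
    (Pm F w * M) i j = M (w⁻¹ i) j := by
  rw [Matrix.mul_apply, Finset.sum_eq_single (w⁻¹ i)]
  · simp [Pm]
  · intro k _ hk
    have : i ≠ w k := by
      rintro rfl
      exact hk (by simp)
    simp [Pm, this]
  · intro h
    exact absurd (Finset.mem_univ _) h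

lemma Pm_mul_Pm (w₁ w₂ : Equiv.Perm (Fin n)) :
    Pm F w₁ * Pm F w₂ = Pm F (w₁ * w₂) := by
  ext i j
  rw [mul_Pm]
  rfl

lemma Pm_one : Pm F (1 : Equiv.Perm (Fin n)) = 1 := by
  ext i j
  by_cases h : i = j <;> simp [Pm_apply, Matrix.one_apply, h]

/-- Permutation matrices as a homomorphism to the general linear group. -/
def PmGL : Equiv.Perm (Fin n) →* GL (Fin n) F where
  toFun w := ⟨Pm F w, Pm F w⁻¹, by rw [Pm_mul_Pm]; simp [Pm_one], by rw [Pm_mul_Pm]; simp [Pm_one]⟩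
  map_one' := Units.ext Pm_one
  map_mul' w₁ w₂ := Units.ext (Pm_mul_Pm w₁ w₂).symm

lemma PmGL_coe (w : Equiv.Perm (Fin n)) :
    ((PmGL w : GL (Fin n) F) : Matrix (Fin n) (Fin n) F) = Pm F w := rfl

theorem exists_pivots (g : Matrix (Fin n) (Fin n) F) (hg : g.det ≠ 0) :
    ∃ (u : Fin n → Fin n → F) (w : Fin n → Fin n),
      (∀ j, u j j = 1) ∧ (∀ j k, j < k → u j k = 0) ∧ Function.Injective w ∧
      (∀ j, g.mulVec (u j) (w j) ≠ 0) ∧ (∀ j l, w j < l → g.mulVec (u j) l = 0) := by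
  classical
  have hinj : Function.Injective g.mulVec :=
    Matrix.mulVec_injective_iff_isUnit.2 ((Matrix.isUnit_iff_isUnit_det g).2 hg.isUnit)
  have hdepth : ∀ v : Fin n → F, v ≠ 0 → ∃ i, v i ≠ 0 ∧ ∀ l, i < l → v l = 0 := by
    intro v hv
    have hne : (Finset.univ.filter (fun i => v i ≠ 0)).Nonempty := by
      by_contra h
      rw [Finset.not_nonempty_iff_eq_empty] at h
      apply hv
      ext i
      change v i = 0
      by_contra hi
      have : i ∈ Finset.univ.filter (fun i => v i ≠ 0) := by simp [hi]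
      rw [h] at this
      simp at this
    refine ⟨Finset.max' _ hne, ?_, ?_⟩
    · have := Finset.max'_mem _ hne
      simpa using this
    · intro l hl
      by_contra hvl
      have : l ≤ Finset.max' _ hne := Finset.le_max' _ l (by simp [hvl])
      exact absurd hl (not_lt.2 this)
  have hnz : ∀ (j : Fin n) (u : Fin n → F), u j = 1 → g.mulVec u ≠ 0 := by
    intro j u huj h0
    have h1 := hinj (h0.trans (Matrix.mulVec_zero g).symm)
    have h2 := congrFun h1 j
    rw [huj] at h2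
    simp at h2
  have key : ∀ j : Fin n, ∃ (u : Fin n → F) (i : Fin n), u j = 1 ∧ (∀ k, j < k → u k = 0) ∧
      g.mulVec u i ≠ 0 ∧ (∀ l, i < l → g.mulVec u l = 0) ∧
      ∀ (u' : Fin n → F) (i' : Fin n), u' j = 1 → (∀ k, j < k → u' k = 0) →
        g.mulVec u' i' ≠ 0 → (∀ l, i' < l → g.mulVec u' l = 0) → i ≤ i' := by
    intro j
    let D : Finset (Fin n) := Finset.univ.filter (fun i => ∃ u : Fin n → F, u j = 1 ∧
      (∀ k, j < k → u k = 0) ∧ g.mulVec u i ≠ 0 ∧ ∀ l, i < l → g.mulVec u l = 0)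
    have hD : D.Nonempty := by
      have hu : g.mulVec (Pi.single j 1) ≠ 0 := hnz j _ (by simp)
      obtain ⟨i, hi1, hi2⟩ := hdepth _ hu
      refine ⟨i, ?_⟩
      simp only [D, Finset.mem_filter, Finset.mem_univ, true_and]
      exact ⟨Pi.single j 1, by simp, fun k hk => by simp [hk.ne'], hi1, hi2⟩
    have hmem := Finset.min'_mem D hD
    simp only [D, Finset.mem_filter, Finset.mem_univ, true_and] at hmem
    obtain ⟨u, h1, h2, h3, h4⟩ := hmem
    refine ⟨u, D.min' hD, h1, h2, h3, h4, ?_⟩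
    intro u' i' h1' h2' h3' h4'
    apply Finset.min'_le D i'
    simp only [D, Finset.mem_filter, Finset.mem_univ, true_and]
    exact ⟨u', h1', h2', h3', h4'⟩
  choose u w hu1 hu2 hw1 hw2 hmin using key
  refine ⟨u, w, hu1, fun j k hjk => hu2 j k hjk, ?_, hw1, hw2⟩
  have main : ∀ j k : Fin n, k < j → w j ≠ w k := by
    intro j k hlt hjk
    let c := g.mulVec (u j) (w j) / g.mulVec (u k) (w j)
    let u' : Fin n → F := u j - c • u k
    have hu'1 : u' j = 1 := by simp [u', hu1, hu2 k j hlt]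
    have hu'2 : ∀ l, j < l → u' l = 0 := by
      intro l hl
      simp [u', hu2 j l hl, hu2 k l (hlt.trans hl)]
    have hgu' : g.mulVec u' = g.mulVec (u j) - c • g.mulVec (u k) := by
      simp [u', Matrix.mulVec_sub, Matrix.mulVec_smul]
    have hk0 : g.mulVec (u k) (w j) ≠ 0 := by
      rw [hjk]
      exact hw1 k
    have hzero : ∀ l, w j ≤ l → g.mulVec u' l = 0 := by
      intro l hl
      rw [hgu']
      rcases hl.eq_or_lt with rfl | hl'
      · simp only [Pi.sub_apply, Pi.smul_apply, smul_eq_mul, c]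
        field_simp
        ring
      · simp [hw2 j l hl', hw2 k l (hjk ▸ hl')]
    obtain ⟨i', hi'1, hi'2⟩ := hdepth _ (hnz j u' hu'1)
    exact hi'1 (hzero i' (hmin j u' i' hu'1 hu'2 hi'1 hi'2))
  intro j k hjk
  by_contra hne
  rcases lt_or_gt_of_ne hne with h | h
  · exact main k j h hjk.symm
  · exact main j k h hjk

/-- Bruhat decomposition, matrix form. -/
theorem bruhat_matrix (g : Matrix (Fin n) (Fin n) F) (hg : g.det ≠ 0) :
    ∃ (b₁ b₂ : Matrix (Fin n) (Fin n) F) (w : Equiv.Perm (Fin n)),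
      b₁.BlockTriangular id ∧ b₂.BlockTriangular id ∧ b₂.det = 1 ∧ b₁ * Pm F w = g * b₂ := by
  obtain ⟨u, w, hu1, hu2, hwinj, hw1, hw2⟩ := exists_pivots g hg
  let σ : Equiv.Perm (Fin n) := Equiv.ofBijective w (Finite.injective_iff_bijective.1 hwinj)
  let b₂ : Matrix (Fin n) (Fin n) F := Matrix.of fun k j => u j k
  have hb₂ : b₂.BlockTriangular id := fun k j hjk => hu2 j k hjk
  refine ⟨g * b₂ * Pm F σ⁻¹, b₂, σ, ?_, hb₂, ?_, ?_⟩
  · intro i k hki
    rw [mul_Pm]
    have h1 : (g * b₂) i (σ⁻¹ k) = g.mulVec (u (σ⁻¹ k)) i := by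
      simp [Matrix.mul_apply, Matrix.mulVec, dotProduct, b₂]
    rw [h1]
    apply hw2
    have h2 : w (σ⁻¹ k) = k := σ.apply_symm_apply k
    rw [h2]
    exact hki
  · rw [Matrix.det_of_isUpperTriangular hb₂]
    simp [b₂, hu1]
  · rw [Matrix.mul_assoc, Pm_mul_Pm]
    simp [Pm_one]

/-- Bruhat decomposition of the general linear group. -/
theorem bruhat_GL (g : GL (Fin n) F) :
    ∃ b₁ ∈ Cfsg.upperTriangularGL n F, ∃ b₂ ∈ Cfsg.upperTriangularGL n F,
      ∃ w : Equiv.Perm (Fin n), g = b₁ * PmGL w * b₂ := by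
  have hg : (g : Matrix (Fin n) (Fin n) F).det ≠ 0 := (Matrix.isUnits_det_units g).ne_zero
  obtain ⟨b₁, b₂, w, hb₁, hb₂, hdet, heq⟩ := bruhat_matrix (g : Matrix (Fin n) (Fin n) F) hg
  have hdet1 : b₁.det ≠ 0 := by
    intro h0
    have h1 := congrArg Matrix.det heq
    rw [Matrix.det_mul, Matrix.det_mul, h0, hdet, zero_mul, mul_one] at h1
    exact hg h1.symm
  let β₁ : GL (Fin n) F := Matrix.GeneralLinearGroup.mkOfDetNeZero b₁ hdet1
  let β₂ : GL (Fin n) F := Matrix.GeneralLinearGroup.mkOfDetNeZero b₂ (by rw [hdet]; exact one_ne_zero)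
  have h1 : β₁ * PmGL w = g * β₂ := Units.ext heq
  refine ⟨β₁, hb₁, β₂⁻¹, (Cfsg.upperTriangularGL n F).inv_mem hb₂, w, ?_⟩
  rw [h1]
  group

end Bruhat

end Cfsg.Agent.Helper40
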