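import Mathlib
import Cfsg.Agent.Helper40.CoxChainApp

/-! Certificates for the chain of parabolic subgroups, type D4 (helper40; generated). -/

set_option autoImplicit false

namespace Cfsg.Agent.Helper40.CoxD4

open Cfsg.Agent.Helper89 Cfsg.Agent.Helper40

def ptab : ℕ := 0x16171717171314151511121614101612131610110d0c15140e150c130f14130c100f0f0b110e0a0e12090d0d08121110070b0b0f060a0e0a050d09090c0506070b0304080a020804090802030401070603070105020605010004030201000000
def mtab : ℕ := 0x1333312232123221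
/-- the action of generator `j` on the point `x` -/
def f (j x : ℕ) : ℕ := tbl 8 4 ptab x j
/-- the Coxeter numbers -/
def m (i j : ℕ) : ℕ := tbl 4 4 mtab i j
theorem perm_ok : permOK 24 4 f = true := by decide +kernel
theorem rel_ok : relOK 24 4 f m = true := by decide +kernel

def tab1 : ℕ := 0x1
def par1 : ℕ := 0x0
def gam1 : ℕ := 0x0
def pts1 : ℕ := 0x201
def inv1 : ℕ := 0xffffffffffffffffffffffffffffffffffffffffff0100ff
def steps1 : List (ℕ × ℕ × ℕ) := []
theorem chk1 : check 2 1 (tbl 8 1 tab1) (vec 8 par1) (vec 8 gam1) (List.range (1 - 1)) (coxRels m 1) steps1 = true := by decide +kernel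
theorem pts_ok1 : ptsOK 24 2 1 f (vec 8 par1) (vec 8 gam1) (vec 8 pts1) (vec 8 inv1) 1 = true := by decide +kernel

def tab2 : ℕ := 0x10100
def par2 : ℕ := 0x0
def gam2 : ℕ := 0x100
def pts2 : ℕ := 0xe0a
def inv2 : ℕ := 0xffffffffffffffffff01ffffff00ffffffffffffffffffff
def steps2 : List (ℕ × ℕ × ℕ) := [(0, 0, 1)]
theorem chk2 : check 2 2 (tbl 8 2 tab2) (vec 8 par2) (vec 8 gam2) (List.range (2 - 1)) (coxRels m 2) steps2 = true := by decide +kernel
theorem pts_ok2 : ptsOK 24 2 2 f (vec 8 par2) (vec 8 gam2) (vec 8 pts2) (vec 8 inv2) 10 = true := by decide +kernel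

def tab3 : ℕ := 0x101010000
def par3 : ℕ := 0x0
def gam3 : ℕ := 0x200
def pts3 : ℕ := 0xd09
def inv3 : ℕ := 0xffffffffffffffffffff01ffffff00ffffffffffffffffff
def steps3 : List (ℕ × ℕ × ℕ) := [(0, 1, 1), (0, 2, 1)]
theorem chk3 : check 2 3 (tbl 8 3 tab3) (vec 8 par3) (vec 8 gam3) (List.range (3 - 1)) (coxRels m 3) steps3 = true := by decide +kernel
theorem pts_ok3 : ptsOK 24 2 3 f (vec 8 par3) (vec 8 gam3) (vec 8 pts3) (vec 8 inv3) 9 = true := by decide +kernel

def tab4 : ℕ := 0x16171717171314151511121614101612131610110d0c15140e150c130f14130c100f0f0b110e0a0e12090d0d08121110070b0b0f060a0e0a050d09090c0506070b0304080a020804090802030401070603070105020605010004030201000000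
def par4 : ℕ := 0x16131110100c0c0c0b0a0908070605050302020101010000
def gam4 : ℕ := 0x30202020102010000010203030303020202010201000300
def pts4 : ℕ := 0x17161514131211100f0e0d0c0b0a09080706050403020100
def inv4 : ℕ := 0x17161514131211100f0e0d0c0b0a09080706050403020100
def steps4 : List (ℕ × ℕ × ℕ) := [(1, 0, 1), (12, 0, 1), (1, 1, 1), (3, 1, 1), (12, 1, 1), (17, 1, 1), (1, 2, 1), (2, 2, 1), (12, 2, 1), (16, 2, 1), (0, 3, 2), (7, 3, 2), (0, 4, 2), (2, 4, 3), (6, 4, 2), (0, 5, 2), (2, 5, 3), (3, 5, 3), (5, 5, 2), (11, 1, 2), (9, 2, 1), (10, 2, 2), (3, 3, 3), (4, 3, 3), (4, 4, 3), (13, 4, 2), (15, 5, 2), (10, 0, 1), (11, 0, 2), (9, 1, 1), (14, 3, 2), (21, 3, 3), (20, 4, 3), (19, 5, 3)]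
theorem chk4 : check 24 4 (tbl 8 4 tab4) (vec 8 par4) (vec 8 gam4) (List.range (4 - 1)) (coxRels m 4) steps4 = true := by decide +kernel
theorem pts_ok4 : ptsOK 24 24 4 f (vec 8 par4) (vec 8 gam4) (vec 8 pts4) (vec 8 inv4) 0 = true := by decide +kernel

/-- the indices of the chain -/
def N (k : ℕ) : ℕ := [2, 2, 2, 24].getD (k - 1) 0
/-- the orbits of the levels -/
def ptsv (k : ℕ) : ℕ := [pts1, pts2, pts3, pts4].getD (k - 1) 0
/-- the inverse tables of the orbits -/
def invv (k : ℕ) : ℕ := [inv1, inv2, inv3, inv4].getD (k - 1) 0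
/-- the base points of the levels -/
def pk (k : ℕ) : ℕ := [1, 10, 9, 0].getD (k - 1) 0

theorem levels {G : Type*} [Group G] (g : ℕ → G) (hinv : ∀ j, g j * g j = 1)
    (φ : G →* Equiv.Perm ℕ) (r : ℕ) (hr : r ≤ 4)
    (hrel : ∀ i j, i < r → j < r → (g i * g j) ^ m i j = 1)
    (hφ : ∀ j < r, φ (g j) = pperm f 24 j) :
    ∀ k, 1 ≤ k → k ≤ r → LevelSpec g φ (N k) (vec 8 (ptsv k)) (pk k) k := by
  intro k h1 h2
  have hφ' : ∀ j < k, ∀ x < 24, φ (g j) x = f j x := fun j hj x hx => by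
    rw [hφ j (by omega)]; exact pperm_apply perm_ok (by omega) hx
  have hrel' : ∀ i j, i < k → j < k → (g i * g j) ^ m i j = 1 :=
    fun i j hi hj => hrel i j (by omega) (by omega)
  have hk : k ≤ 4 := by omega
  interval_cases k
  · exact level g hinv φ f 24 2 1 _ _ _ m steps1 _ (vec 8 inv1) 1 (by norm_num) hrel' hφ'
      chk1 pts_ok1
  · exact level g hinv φ f 24 2 2 _ _ _ m steps2 _ (vec 8 inv2) 10 (by norm_num) hrel' hφ'
      chk2 pts_ok2
  · exact level g hinv φ f 24 2 3 _ _ _ m steps3 _ (vec 8 inv3) 9 (by norm_num) hrel' hφ'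
      chk3 pts_ok3
  · exact level g hinv φ f 24 24 4 _ _ _ m steps4 _ (vec 8 inv4) 0 (by norm_num) hrel' hφ'
      chk4 pts_ok4

end Cfsg.Agent.Helper40.CoxD4
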