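import Mathlib

/-!
# Groups with an abelian subgroup of index two inverted by the outside elements (helper40)

Order and class number of dihedral-like / dicyclic-like groups `G = T ⊔ x₀ T`.
-/

set_option autoImplicit false

namespace Cfsg.Agent.Helper40

theorem comm_sq_iff {A : Type*} [CommGroup A] (a b : A) : a⁻¹ * b = b⁻¹ * a ↔ a * a = b * b := by
  rw [inv_mul_eq_iff_eq_mul, mul_left_comm, eq_inv_mul_iff_mul_eq, eq_comm]

theorem inv_eq_self_iff' {A : Type*} [Group A] (a : A) : a⁻¹ = a ↔ a * a = 1 := by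
  constructor
  · intro h
    calc a * a = a * a⁻¹ := by rw [h]
      _ = 1 := mul_inv_cancel a
  · intro h
    exact inv_eq_of_mul_eq_one_right h

section

variable {G : Type*} [Group G]

/-- The parametrisation `(b, t) ↦ x₀^b t` of `G = T ⊔ x₀ T`. -/
def coverMap (T : Subgroup G) (x0 : G) : Bool × T → G := fun x => (if x.1 then x0 else 1) * (x.2 : G)

theorem coverMap_bijective (T : Subgroup G) (x0 : G) (hx0 : x0 ∉ T)
    (hcover : ∀ g, g ∈ T ∨ x0⁻¹ * g ∈ T) : Function.Bijective (coverMap T x0) := by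
  constructor
  · rintro ⟨b1, t1⟩ ⟨b2, t2⟩ h
    unfold coverMap at h
    cases b1 <;> cases b2 <;> simp only [Bool.false_eq_true, if_false, if_true, one_mul] at h
    · rw [Subtype.ext h]
    · exfalso
      apply hx0
      have : x0 = (t1 : G) * (t2 : G)⁻¹ := by rw [h, mul_inv_cancel_right]
      rw [this]
      exact T.mul_mem t1.2 (T.inv_mem t2.2)
    · exfalso
      apply hx0
      have : x0 = (t2 : G) * (t1 : G)⁻¹ := by rw [← h, mul_inv_cancel_right]
      rw [this]
      exact T.mul_mem t2.2 (T.inv_mem t1.2)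
    · have := mul_left_cancel h
      rw [Subtype.ext this]
  · intro g
    rcases hcover g with h | h
    · exact ⟨(false, ⟨g, h⟩), by simp [coverMap]⟩
    · exact ⟨(true, ⟨x0⁻¹ * g, h⟩), by simp [coverMap]⟩

theorem card_of_cover [Finite G] (T : Subgroup G) (x0 : G) (hx0 : x0 ∉ T)
    (hcover : ∀ g, g ∈ T ∨ x0⁻¹ * g ∈ T) : Nat.card G = 2 * Nat.card T := by
  rw [← Nat.card_eq_of_bijective _ (coverMap_bijective T x0 hx0 hcover), Nat.card_prod]
  simp

theorem commute_cover_iff (T : Subgroup G) (x0 : G)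
    (hab : ∀ a ∈ T, ∀ b ∈ T, a * b = b * a) (hinv : ∀ t ∈ T, x0 * t * x0⁻¹ = t⁻¹)
    (b1 b2 : Bool) (t1 t2 : T) :
    Commute (coverMap T x0 (b1, t1)) (coverMap T x0 (b2, t2)) ↔
      (match b1, b2 with
        | false, false => True
        | false, true => t1 * t1 = 1
        | true, false => t2 * t2 = 1
        | true, true => t1 * t1 = t2 * t2) := by
  have hx' : ∀ t : T, (t : G) * x0 = x0 * (t : G)⁻¹ := by
    intro t
    have := hinv _ (T.inv_mem t.2)
    rw [inv_inv] at this
    calc (t : G) * x0 = (x0 * (t : G)⁻¹ * x0⁻¹) * x0 := by rw [this]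
      _ = x0 * (t : G)⁻¹ := inv_mul_cancel_right _ _
  have hc : ∀ a b : T, (a : G) * (b : G) = (b : G) * (a : G) := fun a b => hab a a.2 b b.2
  have hT : ∀ a b : T, a * b = b * a := fun a b => Subtype.ext (hc a b)
  have hsq : ∀ t : T, t * t = 1 ↔ (t : G) * (t : G) = 1 := by
    intro t
    rw [Subtype.ext_iff]
    rfl
  unfold coverMap
  cases b1 <;> cases b2 <;> simp only [Bool.false_eq_true, if_false, if_true, one_mul]
  · simp only [iff_true]
    exact hc t1 t2
  · rw [commute_iff_eq, ← mul_assoc, hx', mul_assoc x0, mul_assoc x0, mul_right_inj, hc t2 t1,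
      mul_left_inj, hsq]
    exact inv_eq_self_iff' _
  · rw [commute_iff_eq, ← mul_assoc (t2 : G), hx', mul_assoc x0, mul_assoc x0, mul_right_inj,
      hc t1 t2, mul_left_inj, hsq, eq_comm]
    exact inv_eq_self_iff' _
  · rw [commute_iff_eq, mul_assoc x0, mul_assoc x0, mul_right_inj, ← mul_assoc, ← mul_assoc, hx',
      hx', mul_assoc x0, mul_assoc x0, mul_right_inj]
    let _ : CommGroup T := { (inferInstance : Group T) with mul_comm := hT }
    have h1 : (t1 : G)⁻¹ * (t2 : G) = (t2 : G)⁻¹ * (t1 : G) ↔ t1⁻¹ * t2 = t2⁻¹ * t1 :=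
      ⟨fun h => Subtype.ext h, fun h => congrArg Subtype.val h⟩
    exact h1.trans (comm_sq_iff t1 t2)

/-- Indicator of a proposition, as a natural number. -/
noncomputable def ind (P : Prop) : ℕ := by
  classical exact if P then 1 else 0

theorem ind_true : ind True = 1 := by
  unfold ind
  simp

theorem card_subtype_eq_sum_ind {α : Type*} [Fintype α] (P : α → Prop) :
    Nat.card {a // P a} = ∑ a, ind (P a) := by
  classical
  rw [Nat.card_eq_fintype_card, Fintype.card_subtype, Finset.card_filter]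
  apply Finset.sum_congr rfl
  intro a _
  unfold ind
  congr

/-- Class number of `G = T ⊔ x₀ T`, `T` abelian and inverted by `x₀`. -/
theorem two_mul_card_conjClasses_of_inverting [Finite G] (T : Subgroup G) (x0 : G) (hx0 : x0 ∉ T)
    (hcover : ∀ g, g ∈ T ∨ x0⁻¹ * g ∈ T)
    (hab : ∀ a ∈ T, ∀ b ∈ T, a * b = b * a) (hinv : ∀ t ∈ T, x0 * t * x0⁻¹ = t⁻¹) :
    2 * Nat.card (ConjClasses G) = Nat.card T + 3 * Nat.card {t : T // t * t = 1} := by
  classical
  have : Fintype G := Fintype.ofFinite G
  have : Fintype T := Fintype.ofFinite T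
  have he := coverMap_bijective T x0 hx0 hcover
  have hT : ∀ a b : T, a * b = b * a := fun a b => Subtype.ext (hab a a.2 b b.2)
  set m := Nat.card {t : T // t * t = 1} with hm
  have hm' : ∑ t : T, ind (t * t = 1) = m := by
    rw [hm, card_subtype_eq_sum_ind]
  have hm2 : ∀ t2 : T, ∑ t1 : T, ind (t1 * t1 = t2 * t2) = m := by
    intro t2
    rw [← hm']
    apply Fintype.sum_equiv (Equiv.mulRight t2⁻¹)
    intro t1
    have : (t1 * t2⁻¹) * (t1 * t2⁻¹) = 1 ↔ t1 * t1 = t2 * t2 := by
      rw [mul_assoc, ← mul_assoc t2⁻¹, hT t2⁻¹ t1, mul_assoc, ← mul_inv_rev, ← mul_assoc,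
        mul_inv_eq_one]
    simp only [Equiv.coe_mulRight, this]
  have hsplit : ∑ x : Bool × T, ∑ y : Bool × T, ind (Commute (coverMap T x0 x) (coverMap T x0 y)) =
      (∑ _t1 : T, ∑ _t2 : T, ind True) + (∑ t1 : T, ∑ _t2 : T, ind (t1 * t1 = 1)) +
      (∑ _t1 : T, ∑ t2 : T, ind (t2 * t2 = 1)) + (∑ t1 : T, ∑ t2 : T, ind (t1 * t1 = t2 * t2)) := by
    simp only [Fintype.sum_prod_type, Fintype.sum_bool, commute_cover_iff T x0 hab hinv,
      Finset.sum_add_distrib]
    ring
  have hpairs : Nat.card {p : G × G // Commute p.1 p.2} =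
      Fintype.card T * Fintype.card T + 3 * (Fintype.card T * m) := by
    rw [card_subtype_eq_sum_ind, Fintype.sum_prod_type, ← (Equiv.ofBijective _ he).sum_comp]
    have h1 : ∀ x : Bool × T, ∑ y : G, ind (Commute (Equiv.ofBijective _ he x) y) =
        ∑ y : Bool × T, ind (Commute (coverMap T x0 x) (coverMap T x0 y)) := by
      intro x
      rw [← (Equiv.ofBijective _ he).sum_comp]
      rfl
    simp only [h1]
    rw [hsplit, Finset.sum_comm (f := fun t1 t2 : T => ind (t1 * t1 = t2 * t2))]
    simp only [ind_true, hm', hm2, Finset.sum_const, Finset.card_univ, smul_eq_mul, mul_one]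
    rw [← Finset.mul_sum, hm']
    ring
  have hcT : Nat.card T = Fintype.card T := Nat.card_eq_fintype_card
  rw [card_comm_eq_card_conjClasses_mul_card, card_of_cover T x0 hx0 hcover, hcT] at hpairs
  have hpos : 0 < Fintype.card T := Fintype.card_pos
  rw [hcT]
  have h3 : Fintype.card T * (2 * Nat.card (ConjClasses G)) =
      Fintype.card T * (Fintype.card T + 3 * m) := by
    calc Fintype.card T * (2 * Nat.card (ConjClasses G))
        = Nat.card (ConjClasses G) * (2 * Fintype.card T) := by ring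
      _ = Fintype.card T * Fintype.card T + 3 * (Fintype.card T * m) := hpairs
      _ = Fintype.card T * (Fintype.card T + 3 * m) := by ring
  exact Nat.eq_of_mul_eq_mul_left hpos h3

end

end Cfsg.Agent.Helper40
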