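import Mathlib
import Cfsg.Agent.Helper44.PSL2A

/-!
# Triangle-group elements in `PSL₂(F)` (helper40)

For `r a b : F` with `a² + a + b² + r b + 1 = 0` the matrices `W = (0 1; -1 0)` and
`B = (a b; b + r  -1 - a)` of `SL₂(F)` have traces `0`, `-1` and `tr (W B) = r`; their images in
`PSL₂(F)` have orders dividing `2`, `3`, and the product has order dividing `3`, `4`, `5` when
`r = -1`, `r² = 2`, `r² = r + 1`.
-/

set_option autoImplicit false

namespace Cfsg.Agent.Helper40.PSL2Tri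

open Matrix Cfsg.Agent.Helper44

universe u

variable {F : Type u} [Field F]

/-- The coefficients of the powers of a `2 × 2` matrix of determinant one and trace `t`. -/
def uSeq (t : F) : ℕ → F
  | 0 => 0
  | 1 => 1
  | (n + 2) => t * uSeq t (n + 1) - uSeq t n

theorem sl2_ch (g : SL2 F) : g.1 * g.1 = (g.1 0 0 + g.1 1 1) • g.1 - 1 := by
  have hdet : g.1 0 0 * g.1 1 1 - g.1 0 1 * g.1 1 0 = 1 := by
    have := g.2
    rwa [Matrix.det_fin_two] at this
  ext i j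
  fin_cases i <;> fin_cases j <;>
    simp [Matrix.mul_apply, Fin.sum_univ_two] <;>
    first
      | linear_combination (-1 : F) * hdet
      | linear_combination (1 : F) * hdet
      | ring

theorem pow_eq (M : Matrix (Fin 2) (Fin 2) F) (t : F) (hM : M * M = t • M - 1) :
    ∀ n, M ^ (n + 1) = uSeq t (n + 1) • M - uSeq t n • (1 : Matrix (Fin 2) (Fin 2) F) := by
  intro n
  induction n with
  | zero => simp [uSeq]
  | succ n ih =>
    rw [pow_succ, ih, sub_mul, smul_mul_assoc, smul_mul_assoc, one_mul, hM]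
    simp only [uSeq]
    module

theorem pr_eq_one_iff (g : SL2 F) :
    pr g = 1 ↔ ∃ s : F, s * s = 1 ∧ g.1 = s • (1 : Matrix (Fin 2) (Fin 2) F) := by
  have h := pr_eq_iff (1 : SL2 F) g
  rw [map_one] at h
  rw [eq_comm, h]
  rfl

theorem pr_pow_eq_one (g : SL2 F) (k : ℕ) (h : g.1 ^ k = -1 ∨ g.1 ^ k = 1) : pr g ^ k = 1 := by
  rw [← map_pow, pr_eq_one_iff]
  rcases h with h | h
  · refine ⟨-1, by ring, ?_⟩
    rw [Matrix.SpecialLinearGroup.coe_pow, h]
    simp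
  · refine ⟨1, by ring, ?_⟩
    rw [Matrix.SpecialLinearGroup.coe_pow, h]
    simp

theorem pr_ne_one (g : SL2 F) (h : g.1 0 1 ≠ 0 ∨ g.1 1 0 ≠ 0) : pr g ≠ 1 := by
  intro e
  rw [pr_eq_one_iff] at e
  obtain ⟨s, -, hs⟩ := e
  rcases h with h | h
  · apply h; rw [hs]; simp
  · apply h; rw [hs]; simp

/-- The matrix `(0 1; -1 0)`. -/
def Wm : SL2 F := ⟨!![0, 1; -1, 0], by simp [Matrix.det_fin_two]⟩

/-- The matrix `(a b; b + r  -1 - a)`. -/
def Bm (r a b : F) (h : a ^ 2 + a + b ^ 2 + r * b + 1 = 0) : SL2 F :=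
  ⟨!![a, b; b + r, -1 - a], by rw [Matrix.det_fin_two_of]; linear_combination (-1 : F) * h⟩

theorem WB_coe (r a b : F) (h : a ^ 2 + a + b ^ 2 + r * b + 1 = 0) :
    ((Wm * Bm r a b h : SL2 F)).1 = !![b + r, -1 - a; -a, -b] := by
  rw [Matrix.SpecialLinearGroup.coe_mul]
  ext i j
  fin_cases i <;> fin_cases j <;> simp [Wm, Bm, Matrix.mul_apply, Fin.sum_univ_two]

theorem sq_of_trace_zero (g : SL2 F) (ht : g.1 0 0 + g.1 1 1 = 0) : g.1 ^ 2 = -1 := by
  rw [pow_two, sl2_ch, ht]; simp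

theorem cube_of_trace (g : SL2 F) (ht : g.1 0 0 + g.1 1 1 = -1) : g.1 ^ 3 = 1 := by
  rw [pow_eq g.1 _ (sl2_ch g) 2, ht]
  simp [uSeq]

theorem fourth_of_trace (g : SL2 F) (t : F) (ht : g.1 0 0 + g.1 1 1 = t) (h2 : t ^ 2 = 2) :
    g.1 ^ 4 = -1 := by
  have h4 : uSeq t 4 = 0 := by
    simp only [uSeq]; linear_combination t * h2
  have h3 : uSeq t 3 = 1 := by
    simp only [uSeq]; linear_combination h2
  rw [pow_eq g.1 _ (sl2_ch g) 3, ht, h4, h3]
  simp

theorem fifth_of_trace (g : SL2 F) (t : F) (ht : g.1 0 0 + g.1 1 1 = t) (h2 : t ^ 2 = t + 1) :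
    g.1 ^ 5 = -1 := by
  have h5 : uSeq t 5 = 0 := by
    simp only [uSeq]; linear_combination (t ^ 2 + t - 1) * h2
  have h4 : uSeq t 4 = 1 := by
    simp only [uSeq]; linear_combination (t + 1) * h2
  rw [pow_eq g.1 _ (sl2_ch g) 4, ht, h5, h4]
  simp

/-- The triangle-group elements of `PSL₂(F)`. -/
theorem exists_tri (r : F) (hsol : ∃ a b : F, a ^ 2 + a + b ^ 2 + r * b + 1 = 0) :
    ∃ x y : PSL2 F, x ^ 2 = 1 ∧ y ^ 3 = 1 ∧ x ≠ 1 ∧ (r ≠ 0 → y ≠ 1) ∧
      (r = -1 → (x * y) ^ 3 = 1) ∧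
      (r ^ 2 = 2 → (x * y) ^ 4 = 1 ∧ (r ≠ 0 → (x * y) ^ 2 ≠ 1)) ∧
      (r ^ 2 = r + 1 → (x * y) ^ 5 = 1) := by
  obtain ⟨a, b, h⟩ := hsol
  have htW : (Wm : SL2 F).1 0 0 + (Wm : SL2 F).1 1 1 = 0 := by simp [Wm]
  have htB : (Bm r a b h).1 0 0 + (Bm r a b h).1 1 1 = -1 := by simp [Bm]
  have htWB : (Wm * Bm r a b h : SL2 F).1 0 0 + (Wm * Bm r a b h : SL2 F).1 1 1 = r := by
    rw [WB_coe]; simp
  refine ⟨pr Wm, pr (Bm r a b h), ?_, ?_, ?_, ?_, ?_, ?_, ?_⟩
  · exact pr_pow_eq_one _ 2 (Or.inl (sq_of_trace_zero _ htW))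
  · exact pr_pow_eq_one _ 3 (Or.inr (cube_of_trace _ htB))
  · exact pr_ne_one _ (Or.inl (by simp [Wm]))
  · intro hr
    by_cases hb : b = 0
    · exact pr_ne_one _ (Or.inr (by simp [Bm, hb, hr]))
    · exact pr_ne_one _ (Or.inl (by simp [Bm, hb]))
  · intro hr
    rw [← map_mul]
    exact pr_pow_eq_one _ 3 (Or.inr (cube_of_trace _ (htWB.trans hr)))
  · intro hr
    rw [← map_mul]
    refine ⟨pr_pow_eq_one _ 4 (Or.inl (fourth_of_trace _ r htWB hr)), ?_⟩
    intro hr0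
    rw [← map_pow]
    have hsq : ((Wm * Bm r a b h : SL2 F) ^ 2).1 = r • !![b + r, -1 - a; -a, -b] - 1 := by
      rw [Matrix.SpecialLinearGroup.coe_pow, pow_two, sl2_ch, htWB, WB_coe]
    by_cases ha : a = 0
    · refine pr_ne_one _ (Or.inl ?_)
      rw [hsq]
      simp [ha, hr0]
    · refine pr_ne_one _ (Or.inr ?_)
      rw [hsq]
      simp [ha, hr0]
  · intro hr
    rw [← map_mul]
    exact pr_pow_eq_one _ 5 (Or.inl (fifth_of_trace _ r htWB hr))

/-- Solutions of the conic over a finite field of odd order. -/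
theorem exists_sol_odd [Fintype F] (hodd : Fintype.card F % 2 = 1) (r : F) :
    ∃ a b : F, a ^ 2 + a + b ^ 2 + r * b + 1 = 0 := by
  classical
  have hf : (Polynomial.X ^ 2 + Polynomial.X + 1 : Polynomial F).degree = 2 := by
    compute_degree!
  have hg : (Polynomial.X ^ 2 + Polynomial.C r * Polynomial.X : Polynomial F).degree = 2 := by
    compute_degree!
  obtain ⟨a, b, hab⟩ := FiniteField.exists_root_sum_quadratic hf hg hodd
  refine ⟨a, b, ?_⟩
  simp only [Polynomial.eval_add, Polynomial.eval_pow, Polynomial.eval_X, Polynomial.eval_one,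
    Polynomial.eval_mul, Polynomial.eval_C] at hab
  linear_combination hab

/-- Solutions of the conic from a primitive cube root of unity. -/
theorem exists_sol_of_omega (ω : F) (hω : ω ^ 2 + ω + 1 = 0) (r : F) :
    ∃ a b : F, a ^ 2 + a + b ^ 2 + r * b + 1 = 0 :=
  ⟨ω, 0, by linear_combination hω⟩

end Cfsg.Agent.Helper40.PSL2Tri
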