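import Mathlib
import Cfsg.Agent.Helper40.PresTool

/-!
# `A₄`, `S₄`, `A₅` as von Dyck groups `⟨a, b | a², b³, (ab)^k⟩`, `k = 3, 4, 5` (helper40)

Universal properties (from verified coset tables, tool `hom_of_cert`) and injectivity criteria.
-/

set_option autoImplicit false

namespace Cfsg.Agent.Helper40.PresSmall

open Cfsg.Agent.Helper89 Cfsg.Agent.Helper40 Equiv

def tabA4 : ℕ := 0x7080a0a09060b0b060a05050b070404080b03030a090202040109090105080802000707000306060504000003020101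
def parA4 : ℕ := 0x70605040302010100000000
def gamA4 : ℕ := 0x20300000000030203020000
def relsA4 : List (List ℕ) := [[0,0],[2,2,2],[0,2,0,2,0,2]]
def stepsA4 : List (ℕ × ℕ × ℕ) := [(0, 0, 1), (2, 0, 1), (3, 0, 1), (4, 0, 1), (5, 0, 1), (0, 1, 1), (1, 1, 1), (0, 2, 3), (1, 2, 3), (3, 2, 2), (10, 0, 0), (6, 1, 1), (7, 1, 1)]
def wordsA4 : List (List ℕ) := [[],[0],[2],[3],[0,2],[0,3],[2,0],[3,0],[0,2,0],[0,3,0],[2,0,3],[3,0,2]]
def e0A4 : ℕ := 0x84226a5959ed
def witA4 : List (ℕ × ℕ × ℕ) := [(0, 0, 0), (0, 0, 0), (1, 0, 6), (1, 0, 7), (1, 0, 5), (1, 0, 4), (1, 0, 2), (1, 0, 3), (1, 0, 3), (1, 0, 2), (0, 3, 0), (0, 2, 0)]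
def tabS4 : ℕ := 0x14151616121317171714101015170f0f16120c0c13160b0b10090a0a091115150e081414080f0d0d0c070e0e070d13130a061212060b1111111005050f0e04040d0c03030b0a0202040109090105080802000707000306060504000003020101
def parS4 : ℕ := 0x1412100f0c0b090908080707060605040302010100000000
def gamS4 : ℕ := 0x20200000000030203020302030200000000030203020000
def relsS4 : List (List ℕ) := [[0,0],[2,2,2],[0,2,0,2,0,2,0,2]]
def stepsS4 : List (ℕ × ℕ × ℕ) := [(0, 0, 1), (2, 0, 1), (3, 0, 1), (4, 0, 1), (5, 0, 1), (11, 0, 1), (12, 0, 1), (15, 0, 1), (16, 0, 1), (0, 1, 1), (1, 1, 1), (6, 1, 1), (7, 1, 1), (8, 1, 1), (9, 1, 1), (0, 2, 4), (1, 2, 4), (3, 2, 3), (5, 2, 3), (10, 0, 1), (13, 0, 0), (18, 1, 1), (20, 1, 1), (11, 2, 2), (13, 2, 4)]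
def wordsS4 : List (List ℕ) := [[],[0],[2],[3],[0,2],[0,3],[2,0],[3,0],[0,2,0],[0,3,0],[2,0,2],[2,0,3],[3,0,2],[3,0,3],[0,2,0,2],[0,2,0,3],[0,3,0,2],[0,3,0,3],[2,0,3,0],[3,0,2,0],[0,2,0,3,0],[0,3,0,2,0],[2,0,3,0,2],[0,2,0,3,0,2]]
def e0S4 : ℕ := 0x88262649584958eeee5959ed
def witS4 : List (ℕ × ℕ × ℕ) := [(0, 0, 0), (1, 2, 10), (1, 0, 9), (1, 0, 18), (1, 0, 11), (1, 1, 12), (1, 1, 12), (1, 0, 11), (1, 0, 15), (1, 0, 2), (1, 2, 1), (1, 0, 4), (1, 1, 5), (1, 2, 1), (0, 0, 0), (1, 0, 8), (1, 0, 2), (0, 1, 0), (1, 0, 3), (1, 0, 3), (1, 1, 5), (1, 0, 4), (0, 2, 0), (1, 2, 10)]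
def tabA5 : ℕ := 0x38393a3a36373b3b3b383434393b33333a362e2e373a2d2d34292a2a2935393932283838283331313027323227312f2f2e263030262f37372c253636252d2b2b2a242c2c242b3535353423233332202031301f1f2f2e1e1e2d2c1b1b2b2a1a1a22182929182321212017222217212828151627271d142626141e1c1c1b131d1d131c252519122424121a11112322101021200f0f1f150e0e161f0d0d1e1d0c0c1c1b0b0b1a190a0a10091919091118180e081717080f16160c071515070d14140a061313060b1212111005050f0e04040d0c03030b0a0202040109090105080802000707000306060504000003020101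
def parA5 : ℕ := 0x383634332e2d29292828272726262525242423201f1e1b1a1818171715141413131211100f0e0d0c0b0a090908080707060605040302010100000000
def gamA5 : ℕ := 0x20200000000030203020302030203020302000000000000030203020203020302030000000000000000030203020302030200000000030203020000
def relsA5 : List (List ℕ) := [[0,0],[2,2,2],[0,2,0,2,0,2,0,2,0,2]]
def stepsA5 : List (ℕ × ℕ × ℕ) := [(0, 0, 1), (2, 0, 1), (3, 0, 1), (4, 0, 1), (5, 0, 1), (10, 0, 1), (11, 0, 1), (12, 0, 1), (13, 0, 1), (14, 0, 1), (15, 0, 1), (16, 0, 1), (17, 0, 1), (26, 0, 1), (27, 0, 1), (30, 0, 1), (31, 0, 1), (32, 0, 1), (35, 0, 1), (45, 0, 1), (46, 0, 1), (51, 0, 1), (52, 0, 1), (0, 1, 1), (1, 1, 1), (6, 1, 1), (7, 1, 1), (8, 1, 1), (9, 1, 1), (19, 1, 1), (20, 1, 1), (23, 1, 1), (24, 1, 1), (36, 1, 1), (37, 1, 1), (38, 1, 1), (39, 1, 1), (40, 1, 1), (41, 1, 1), (0, 2, 5), (1, 2, 5), (3, 2, 4), (5, 2, 4), (11, 2, 4), (13, 2, 4), (28, 0, 0), (33, 0, 0),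 (43, 0, 0), (47, 0, 0), (18, 1, 1), (21, 1, 1), (15, 2, 4), (17, 2, 4), (28, 2, 5), (33, 2, 5), (42, 0, 1), (49, 0, 0), (54, 1, 1), (56, 1, 1), (43, 2, 4), (47, 2, 6)]
def wordsA5 : List (List ℕ) := [[],[0],[2],[3],[0,2],[0,3],[2,0],[3,0],[0,2,0],[0,3,0],[2,0,2],[2,0,3],[3,0,2],[3,0,3],[0,2,0,2],[0,2,0,3],[0,3,0,2],[0,3,0,3],[2,0,2,0],[2,0,3,0],[3,0,2,0],[3,0,3,0],[0,2,0,2,0],[0,2,0,3,0],[0,3,0,2,0],[0,3,0,3,0],[2,0,2,0,3],[2,0,3,0,2],[2,0,3,0,3],[3,0,2,0,2],[3,0,2,0,3],[3,0,3,0,2],[0,2,0,3,0,2],[0,2,0,3,0,3],[0,3,0,2,0,2],[0,3,0,2,0,3],[2,0,2,0,3,0],[2,0,3,0,2,0],[3,0,2,0,3,0],[3,0,3,0,2,0],[0,2,0,3,0,2,0],[0,3,0,2,0,3,0],[2,0,2,0,3,0,2],[2,0,2,0,3,0,3],[2,0,3,0,2,0,2],[2,0,3,0,2,0,3],[3,0,2,0,3,0,2],[3,0,2,0,3,0,3],[3,0,3,0,2,0,2],[3,0,3,0,2,0,3],[0,2,0,3,0,2,0,2],[0,2,0,3,0,2,0,3],[0,3,0,2,0,3,0,2],[0,3,0,2,0,3,0,3],[2,0,3,0,2,0,3,0],[3,0,2,0,3,0,2,0],[0,2,0,3,0,2,0,3,0],[0,3,0,2,0,3,0,2,0],[2,0,3,0,2,0,3,0,2],[0,2,0,3,0,2,0,3,0,2]]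
def e0A5 : ℕ := 0x882626495848495848eeeeee58499584952ee26eea59595959eeee5959ed

section generic

variable {Γ : Type*} [Group Γ]

/-- The element of the `c`-th word. -/
def el {m : ℕ} (γ : Fin m → Γ) (W : List (List ℕ)) (c : ℕ) : Γ := ev (sym γ) (W.getD c [])

/-- Witnesses that `v` is a product of conjugates of `z` and `z⁻¹`, for every listed `z ≠ 1`. -/
def witOK [DecidableEq Γ] {m : ℕ} (γ : Fin m → Γ) (W : List (List ℕ)) (n : ℕ) (v : Γ)
    (wit : List (ℕ × ℕ × ℕ)) : Bool :=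
  (List.range' 1 (n - 1)).all fun c =>
    if (wit.getD c (0, 0, 0)).1 = 0 then
      decide (v = el γ W (wit.getD c (0, 0, 0)).2.1 * el γ W c *
        (el γ W (wit.getD c (0, 0, 0)).2.1)⁻¹)
    else
      decide (v = el γ W (wit.getD c (0, 0, 0)).2.1 * (el γ W c *
        (el γ W (wit.getD c (0, 0, 0)).2.2 * (el γ W c)⁻¹ *
          (el γ W (wit.getD c (0, 0, 0)).2.2)⁻¹)) * (el γ W (wit.getD c (0, 0, 0)).2.1)⁻¹)

theorem el_cover [Finite Γ] {m : ℕ} (γ : Fin m → Γ) (W : List (List ℕ)) (n : ℕ)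
    (hn : Nat.card Γ = n)
    (hnodup : ((List.range n).map fun c => ev (sym γ) (W.getD c [])).Nodup) (z : Γ) :
    ∃ c < n, z = el γ W c := by
  classical
  have : Fintype Γ := Fintype.ofFinite Γ
  have h1 : ((List.range n).map fun c => ev (sym γ) (W.getD c [])).toFinset = Finset.univ := by
    apply Finset.eq_univ_of_card
    rw [List.toFinset_card_of_nodup hnodup, List.length_map, List.length_range, ← hn,
      Nat.card_eq_fintype_card]
  have h2 : z ∈ ((List.range n).map fun c => ev (sym γ) (W.getD c [])).toFinset := by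
    rw [h1]; exact Finset.mem_univ z
  rw [List.mem_toFinset, List.mem_map] at h2
  obtain ⟨c, hc, hz⟩ := h2
  exact ⟨c, List.mem_range.1 hc, hz.symm⟩

theorem inj_of_wit [Finite Γ] [DecidableEq Γ] {m : ℕ} (γ : Fin m → Γ) (W : List (List ℕ))
    (n : ℕ) (hn : Nat.card Γ = n)
    (hnodup : ((List.range n).map fun c => ev (sym γ) (W.getD c [])).Nodup)
    (hW0 : W.getD 0 [] = []) (v : Γ) (wit : List (ℕ × ℕ × ℕ))
    (hwit : witOK γ W n v wit = true) {G : Type*} [Group G] (f : Γ →* G) (hv : f v ≠ 1) :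
    Function.Injective f := by
  rw [injective_iff_map_eq_one]
  intro z hz
  by_contra hz1
  obtain ⟨c, hc, rfl⟩ := el_cover γ W n hn hnodup z
  have hc0 : c ≠ 0 := by
    rintro rfl
    apply hz1
    unfold el
    rw [hW0]; rfl
  unfold witOK at hwit
  rw [List.all_eq_true] at hwit
  have hmem : c ∈ List.range' 1 (n - 1) := by
    rw [List.mem_range']
    exact ⟨c - 1, by omega, by omega⟩
  have h := hwit c hmem
  apply hv
  split_ifs at h with h0
  · rw [decide_eq_true_eq] at h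
    rw [h, map_mul, map_mul, hz, mul_one, ← map_mul, mul_inv_cancel, map_one]
  · rw [decide_eq_true_eq] at h
    rw [h]
    simp only [map_mul, map_inv, hz, inv_one, mul_one, mul_inv_cancel]

theorem sym_pair_zero {G : Type*} [Group G] (x y : G) : sym ![x, y] 0 = x := rfl

theorem sym_pair_two {G : Type*} [Group G] (x y : G) : sym ![x, y] 2 = y := rfl

end generic

section a4

/-- `(0 1)(2 3)` -/
def a4a : alternatingGroup (Fin 4) :=
  ⟨swap 0 1 * swap 2 3, Equiv.Perm.mem_alternatingGroup.mpr (by decide)⟩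

/-- `(0 1 2)` -/
def a4b : alternatingGroup (Fin 4) :=
  ⟨swap 0 1 * swap 1 2, Equiv.Perm.mem_alternatingGroup.mpr (by decide)⟩

theorem a4_card : Nat.card (alternatingGroup (Fin 4)) = 12 := by
  rw [Nat.card_eq_fintype_card]
  have := two_mul_card_alternatingGroup (α := Fin 4)
  rw [Fintype.card_perm, Fintype.card_fin] at this
  have h24 : Nat.factorial 4 = 24 := by decide
  omega

theorem a4_pre : CT2.preChk 12 4 (tbl 8 4 tabA4) (vec 8 parA4) (vec 8 gamA4) [] = some e0A4 := by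
  decide +kernel

theorem a4_run : CT2.runSteps (tbl 8 4 tabA4) 4 relsA4 e0A4 stepsA4 = some (2 ^ (12 * 4) - 1) := by
  decide +kernel

theorem a4_words : wordsOK 12 (vec 8 parA4) (vec 8 gamA4) wordsA4 = true := by decide +kernel

theorem a4_nodup :
    ((List.range 12).map fun c => ev (sym ![a4a, a4b]) (wordsA4.getD c [])).Nodup := by
  decide +kernel

theorem a4_rel : ∀ ρ ∈ relsA4, ev (sym ![a4a, a4b]) ρ = 1 := by decide +kernel

theorem a4_wit : witOK ![a4a, a4b] wordsA4 12 a4a witA4 = true := by decide +kernel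

/-- The universal property of `A₄ = ⟨a, b | a², b³, (ab)³⟩`. -/
theorem a4_hom {G : Type*} [Group G] (x y : G) (hx : x ^ 2 = 1) (hy : y ^ 3 = 1)
    (hxy : (x * y) ^ 3 = 1) : ∃ f : alternatingGroup (Fin 4) →* G, f a4a = x ∧ f a4b = y := by
  have hrel : ∀ ρ ∈ relsA4, ev (sym ![x, y]) ρ = 1 := by
    intro ρ hρ
    simp only [relsA4, List.mem_cons, List.not_mem_nil, or_false] at hρ
    rcases hρ with rfl | rfl | rfl
    · simp only [ev, sym_pair_zero]
      exact (by simp [pow_succ] : x * (x * 1) = x ^ 2).trans hx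
    · simp only [ev, sym_pair_two]
      exact (by simp [pow_succ, mul_assoc] : y * (y * (y * 1)) = y ^ 3).trans hy
    · simp only [ev, sym_pair_zero, sym_pair_two]
      exact (by simp [pow_succ, mul_assoc] : _ = (x * y) ^ 3).trans hxy
  obtain ⟨f, hf⟩ := hom_of_cert ![a4a, a4b] 12 a4_card (tbl 8 4 tabA4) (vec 8 parA4)
    (vec 8 gamA4) relsA4 stepsA4 e0A4 wordsA4 a4_pre a4_run a4_words a4_nodup a4_rel ![x, y] hrel
  exact ⟨f, hf 0, hf 1⟩

/-- A homomorphism from `A₄` that does not kill `(0 1)(2 3)` is injective. -/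
theorem a4_inj {G : Type*} [Group G] (f : alternatingGroup (Fin 4) →* G) (h : f a4a ≠ 1) :
    Function.Injective f :=
  inj_of_wit ![a4a, a4b] wordsA4 12 a4_card a4_nodup (by decide) a4a witA4 a4_wit f h

end a4

section s4

/-- `(0 1)` -/
def s4a : Perm (Fin 4) := swap 0 1

/-- `(1 2 3)` -/
def s4b : Perm (Fin 4) := swap 1 2 * swap 2 3

theorem s4_card : Nat.card (Perm (Fin 4)) = 24 := by
  rw [Nat.card_eq_fintype_card, Fintype.card_perm, Fintype.card_fin]; decide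

theorem s4_pre : CT2.preChk 24 4 (tbl 8 4 tabS4) (vec 8 parS4) (vec 8 gamS4) [] = some e0S4 := by
  decide +kernel

theorem s4_run : CT2.runSteps (tbl 8 4 tabS4) 4 relsS4 e0S4 stepsS4 = some (2 ^ (24 * 4) - 1) := by
  decide +kernel

theorem s4_words : wordsOK 24 (vec 8 parS4) (vec 8 gamS4) wordsS4 = true := by decide +kernel

theorem s4_nodup :
    ((List.range 24).map fun c => ev (sym ![s4a, s4b]) (wordsS4.getD c [])).Nodup := by
  decide +kernel

theorem s4_rel : ∀ ρ ∈ relsS4, ev (sym ![s4a, s4b]) ρ = 1 := by decide +kernel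

theorem s4_wit : witOK ![s4a, s4b] wordsS4 24 ((s4a * s4b) ^ 2) witS4 = true := by decide +kernel

/-- The universal property of `S₄ = ⟨a, b | a², b³, (ab)⁴⟩`. -/
theorem s4_hom {G : Type*} [Group G] (x y : G) (hx : x ^ 2 = 1) (hy : y ^ 3 = 1)
    (hxy : (x * y) ^ 4 = 1) : ∃ f : Perm (Fin 4) →* G, f s4a = x ∧ f s4b = y := by
  have hrel : ∀ ρ ∈ relsS4, ev (sym ![x, y]) ρ = 1 := by
    intro ρ hρ
    simp only [relsS4, List.mem_cons, List.not_mem_nil, or_false] at hρ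
    rcases hρ with rfl | rfl | rfl
    · simp only [ev, sym_pair_zero]
      exact (by simp [pow_succ] : x * (x * 1) = x ^ 2).trans hx
    · simp only [ev, sym_pair_two]
      exact (by simp [pow_succ, mul_assoc] : y * (y * (y * 1)) = y ^ 3).trans hy
    · simp only [ev, sym_pair_zero, sym_pair_two]
      exact (by simp [pow_succ, mul_assoc] : _ = (x * y) ^ 4).trans hxy
  obtain ⟨f, hf⟩ := hom_of_cert ![s4a, s4b] 24 s4_card (tbl 8 4 tabS4) (vec 8 parS4)
    (vec 8 gamS4) relsS4 stepsS4 e0S4 wordsS4 s4_pre s4_run s4_words s4_nodup s4_rel ![x, y] hrel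
  exact ⟨f, hf 0, hf 1⟩

/-- A homomorphism from `S₄` that does not kill the square of the 4-cycle is injective. -/
theorem s4_inj {G : Type*} [Group G] (f : Perm (Fin 4) →* G) (h : f ((s4a * s4b) ^ 2) ≠ 1) :
    Function.Injective f :=
  inj_of_wit ![s4a, s4b] wordsS4 24 s4_card s4_nodup (by decide) _ witS4 s4_wit f h

end s4

section a5

/-- `(0 1)(2 3)` -/
def a5a : alternatingGroup (Fin 5) :=
  ⟨swap 0 1 * swap 2 3, Equiv.Perm.mem_alternatingGroup.mpr (by decide)⟩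

/-- `(0 2 4)` -/
def a5b : alternatingGroup (Fin 5) :=
  ⟨swap 0 2 * swap 2 4, Equiv.Perm.mem_alternatingGroup.mpr (by decide)⟩

theorem a5_card : Nat.card (alternatingGroup (Fin 5)) = 60 := by
  rw [Nat.card_eq_fintype_card]
  have := two_mul_card_alternatingGroup (α := Fin 5)
  rw [Fintype.card_perm, Fintype.card_fin] at this
  have h120 : Nat.factorial 5 = 120 := by decide
  omega

theorem a5_pre : CT2.preChk 60 4 (tbl 8 4 tabA5) (vec 8 parA5) (vec 8 gamA5) [] = some e0A5 := by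
  decide +kernel

theorem a5_run : CT2.runSteps (tbl 8 4 tabA5) 4 relsA5 e0A5 stepsA5 = some (2 ^ (60 * 4) - 1) := by
  decide +kernel

theorem a5_words : wordsOK 60 (vec 8 parA5) (vec 8 gamA5) wordsA5 = true := by decide +kernel

theorem a5_nodup :
    ((List.range 60).map fun c => ev (sym ![a5a, a5b]) (wordsA5.getD c [])).Nodup := by
  decide +kernel

theorem a5_rel : ∀ ρ ∈ relsA5, ev (sym ![a5a, a5b]) ρ = 1 := by decide +kernel

/-- The universal property of `A₅ = ⟨a, b | a², b³, (ab)⁵⟩`. -/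
theorem a5_hom {G : Type*} [Group G] (x y : G) (hx : x ^ 2 = 1) (hy : y ^ 3 = 1)
    (hxy : (x * y) ^ 5 = 1) : ∃ f : alternatingGroup (Fin 5) →* G, f a5a = x ∧ f a5b = y := by
  have hrel : ∀ ρ ∈ relsA5, ev (sym ![x, y]) ρ = 1 := by
    intro ρ hρ
    simp only [relsA5, List.mem_cons, List.not_mem_nil, or_false] at hρ
    rcases hρ with rfl | rfl | rfl
    · simp only [ev, sym_pair_zero]
      exact (by simp [pow_succ] : x * (x * 1) = x ^ 2).trans hx
    · simp only [ev, sym_pair_two]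
      exact (by simp [pow_succ, mul_assoc] : y * (y * (y * 1)) = y ^ 3).trans hy
    · simp only [ev, sym_pair_zero, sym_pair_two]
      exact (by simp [pow_succ, mul_assoc] : _ = (x * y) ^ 5).trans hxy
  obtain ⟨f, hf⟩ := hom_of_cert ![a5a, a5b] 60 a5_card (tbl 8 4 tabA5) (vec 8 parA5)
    (vec 8 gamA5) relsA5 stepsA5 e0A5 wordsA5 a5_pre a5_run a5_words a5_nodup a5_rel ![x, y] hrel
  exact ⟨f, hf 0, hf 1⟩

/-- A nontrivial homomorphism from `A₅` is injective. -/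
theorem a5_inj {G : Type*} [Group G] (f : alternatingGroup (Fin 5) →* G) (h : f a5a ≠ 1) :
    Function.Injective f := by
  have hs : IsSimpleGroup (alternatingGroup (Fin 5)) := alternatingGroup.isSimpleGroup (by rw [Nat.card_eq_fintype_card, Fintype.card_fin])
  rcases hs.eq_bot_or_eq_top_of_normal f.ker (MonoidHom.normal_ker f) with hk | hk
  · exact (MonoidHom.ker_eq_bot_iff f).1 hk
  · exfalso
    apply h
    have : a5a ∈ f.ker := hk ▸ Subgroup.mem_top _
    exact this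

end a5

end Cfsg.Agent.Helper40.PresSmall
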