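import Mathlib
import Cfsg.Agent.Helper42.SL2Odd
import Cfsg.Agent.Helper39.SL2Odd
import Cfsg.Agent.Helper40.IndexTwo

/-!
# Tori of `SL₂(F)` and their normalisers (helper40)

For a non-scalar `z ∈ SL₂(F)` of trace `t`, `t² ≠ 4` (odd characteristic): the centraliser
`C(z)` is abelian, its normaliser is `C(z) ⊔ w C(z)` with `w` inverting `z`, the elements outside
`C(z)` square to `-1`, and over a finite field `C(z)` is cyclic.
-/

set_option autoImplicit false

namespace Cfsg.Agent.Helper40

open Matrix Cfsg.Agent.Helper42.SL2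

section basic

variable {F : Type*} [Field F]

/-- The trace of an element of `SL₂`. -/
def tr2 (z : Matrix.SpecialLinearGroup (Fin 2) F) : F := z.1 0 0 + z.1 1 1

theorem sl2_coe_inv (z : Matrix.SpecialLinearGroup (Fin 2) F) :
    (z⁻¹).1 = !![z.1 1 1, -z.1 0 1; -z.1 1 0, z.1 0 0] := by
  show Matrix.adjugate z.1 = _
  rw [Matrix.adjugate_fin_two]

theorem sl2_add_inv (z : Matrix.SpecialLinearGroup (Fin 2) F) :
    z.1 + (z⁻¹).1 = tr2 z • (1 : Matrix (Fin 2) (Fin 2) F) := by
  rw [sl2_coe_inv]
  apply mat_ext <;> simp [tr2]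
  ring

theorem sl2_sq (z : Matrix.SpecialLinearGroup (Fin 2) F) :
    z.1 * z.1 = tr2 z • z.1 - 1 := by
  have hd := det_eq z
  apply mat_ext <;> simp [tr2, Matrix.mul_apply, Fin.sum_univ_two] <;>
    first | linear_combination -hd | linear_combination hd | linear_combination (0 : F) * hd

theorem mem_centralizer_singleton (z h : Matrix.SpecialLinearGroup (Fin 2) F) :
    h ∈ Subgroup.centralizer ({z} : Set (Matrix.SpecialLinearGroup (Fin 2) F)) ↔
      h.1 * z.1 = z.1 * h.1 := by
  rw [Subgroup.mem_centralizer_iff]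
  constructor
  · intro H
    have := H z rfl
    rw [← Matrix.SpecialLinearGroup.coe_mul, ← Matrix.SpecialLinearGroup.coe_mul, this]
  · rintro H x rfl
    apply Subtype.ext
    rw [Matrix.SpecialLinearGroup.coe_mul, Matrix.SpecialLinearGroup.coe_mul, H]

theorem exists_coords (z h : Matrix.SpecialLinearGroup (Fin 2) F) (hz : NonScalar z.1)
    (hh : h ∈ Subgroup.centralizer ({z} : Set (Matrix.SpecialLinearGroup (Fin 2) F))) :
    ∃ a b : F, h.1 = a • (1 : Matrix (Fin 2) (Fin 2) F) + b • z.1 ∧
      a ^ 2 + tr2 z * a * b + b ^ 2 = 1 := by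
  obtain ⟨a, b, hab, hmk⟩ := exists_mkC z hz h hh
  exact ⟨a, b, by rw [← hmk, mkC_val], hab⟩

theorem coords_unique (z : Matrix (Fin 2) (Fin 2) F) (hz : NonScalar z) {a b a' b' : F}
    (H : a • (1 : Matrix (Fin 2) (Fin 2) F) + b • z = a' • 1 + b' • z) : a = a' ∧ b = b' := by
  obtain ⟨c00, c01, c10, c11⟩ := smul_one_add_smul_apply z a b
  obtain ⟨d00, d01, d10, d11⟩ := smul_one_add_smul_apply z a' b'
  have e00 := congrFun (congrFun H 0) 0
  have e01 := congrFun (congrFun H 0) 1
  have e10 := congrFun (congrFun H 1) 0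
  have e11 := congrFun (congrFun H 1) 1
  rw [c00, d00] at e00
  rw [c01, d01] at e01
  rw [c10, d10] at e10
  rw [c11, d11] at e11
  have hb : b = b' := by
    by_cases hq : z 0 1 = 0
    · by_cases hr : z 1 0 = 0
      · have hps : z 0 0 - z 1 1 ≠ 0 := fun h0 => hz ⟨hq, hr, sub_eq_zero.1 h0⟩
        apply mul_right_cancel₀ hps
        linear_combination e00 - e11
      · exact mul_right_cancel₀ hr e10
    · exact mul_right_cancel₀ hq e01
  subst hb
  exact ⟨by linear_combination e00, rfl⟩

/-- The centraliser of a non-scalar element is abelian. -/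
theorem centralizer_comm (z : Matrix.SpecialLinearGroup (Fin 2) F) (hz : NonScalar z.1)
    (h h' : Matrix.SpecialLinearGroup (Fin 2) F)
    (hh : h ∈ Subgroup.centralizer ({z} : Set (Matrix.SpecialLinearGroup (Fin 2) F)))
    (hh' : h' ∈ Subgroup.centralizer ({z} : Set (Matrix.SpecialLinearGroup (Fin 2) F))) :
    h * h' = h' * h := by
  obtain ⟨a, b, hab, -⟩ := exists_coords z h' hz hh'
  have hc := (mem_centralizer_singleton z h).mp hh
  apply Subtype.ext
  rw [Matrix.SpecialLinearGroup.coe_mul, Matrix.SpecialLinearGroup.coe_mul, hab]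
  rw [Matrix.mul_add, Matrix.add_mul, Matrix.mul_smul, Matrix.smul_mul, Matrix.mul_smul,
    Matrix.smul_mul, Matrix.mul_one, Matrix.one_mul, hc]

theorem nonScalar_of_ne (h : Matrix.SpecialLinearGroup (Fin 2) F) (h1 : h.1 ≠ 1) (h2 : h.1 ≠ -1) :
    NonScalar h.1 := by
  rintro ⟨h01, h10, h00⟩
  have hd := det_eq h
  rw [h01, h00, zero_mul, sub_zero] at hd
  have : (h.1 1 1 - 1) * (h.1 1 1 + 1) = 0 := by linear_combination hd
  rcases mul_eq_zero.mp this with h3 | h3
  · apply h1
    apply mat_ext <;> simp [h01, h10, h00]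
    · linear_combination h3
    · linear_combination h3
  · apply h2
    apply mat_ext <;> simp [h01, h10, h00]
    · linear_combination h3
    · linear_combination h3

/-- A non-scalar element of the centraliser of `z` has the same centraliser. -/
theorem centralizer_eq_of_mem (z h : Matrix.SpecialLinearGroup (Fin 2) F) (hz : NonScalar z.1)
    (hh : h ∈ Subgroup.centralizer ({z} : Set (Matrix.SpecialLinearGroup (Fin 2) F)))
    (hns : NonScalar h.1) :
    Subgroup.centralizer ({h} : Set (Matrix.SpecialLinearGroup (Fin 2) F)) =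
      Subgroup.centralizer ({z} : Set (Matrix.SpecialLinearGroup (Fin 2) F)) := by
  obtain ⟨a, b, hab, -⟩ := exists_coords z h hz hh
  have hb : b ≠ 0 := by
    rintro rfl
    apply hns
    rw [hab]
    simp
  ext g
  rw [mem_centralizer_singleton, mem_centralizer_singleton, hab]
  rw [Matrix.mul_add, Matrix.add_mul, Matrix.mul_smul, Matrix.smul_mul, Matrix.mul_smul,
    Matrix.smul_mul, Matrix.mul_one, Matrix.one_mul, add_right_inj]
  constructor
  · intro H
    have := congrArg (fun M => b⁻¹ • M) H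
    simpa [smul_smul, inv_mul_cancel₀ hb] using this
  · intro H
    rw [H]

/-- `g` inverts `z`. -/
def Inverts (g z : Matrix.SpecialLinearGroup (Fin 2) F) : Prop := g * z * g⁻¹ = z⁻¹

theorem Inverts.inv {g z : Matrix.SpecialLinearGroup (Fin 2) F} (hg : Inverts g z) :
    Inverts g⁻¹ z := by
  unfold Inverts at hg ⊢
  rw [inv_inv]
  have : z = g⁻¹ * z⁻¹ * g := by rw [← hg]; group
  calc g⁻¹ * z * g = g⁻¹ * (g⁻¹ * z⁻¹ * g) * g := by rw [← this]
    _ = (g⁻¹ * (g⁻¹ * z⁻¹ * g) * g) := rfl
    _ = z⁻¹ := by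
      have h2 : g⁻¹ * z⁻¹ * g = z := this.symm
      rw [h2]
      have h3 : g⁻¹ * z * g = (g⁻¹ * z⁻¹ * g)⁻¹ := by group
      rw [h3, h2]

theorem inv_mul_mem_centralizer {w g z : Matrix.SpecialLinearGroup (Fin 2) F} (hw : Inverts w z)
    (hg : Inverts g z) :
    w⁻¹ * g ∈ Subgroup.centralizer ({z} : Set (Matrix.SpecialLinearGroup (Fin 2) F)) := by
  rw [Subgroup.mem_centralizer_iff]
  rintro x rfl
  have h1 : g * x = x⁻¹ * g := by
    unfold Inverts at hg
    rw [← hg, inv_mul_cancel_right]
  have h2 : w⁻¹ * x⁻¹ = x * w⁻¹ := by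
    have := hw.inv
    unfold Inverts at this
    rw [inv_inv] at this
    have h3 : w⁻¹ * x = x⁻¹ * w⁻¹ := by rw [← this, mul_inv_cancel_right]
    have h4 : x * (w⁻¹ * x) * x⁻¹ = x * (x⁻¹ * w⁻¹) * x⁻¹ := by rw [h3]
    rw [mul_inv_cancel_left] at h4
    rw [← h4]
    group
  calc x * (w⁻¹ * g) = (x * w⁻¹) * g := by rw [mul_assoc]
    _ = (w⁻¹ * x⁻¹) * g := by rw [h2]
    _ = w⁻¹ * (x⁻¹ * g) := by rw [mul_assoc]
    _ = w⁻¹ * (g * x) := by rw [h1]
    _ = w⁻¹ * g * x := by rw [mul_assoc]

/-- An element inverting a non-scalar element has trace zero, hence squares to `-1`. -/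
theorem inverts_sq (g z : Matrix.SpecialLinearGroup (Fin 2) F)
    (hz : NonScalar z.1) (hg : Inverts g z) : g.1 * g.1 = -1 := by
  have H : g.1 * z.1 = (z⁻¹).1 * g.1 := by
    unfold Inverts at hg
    rw [← Matrix.SpecialLinearGroup.coe_mul, ← Matrix.SpecialLinearGroup.coe_mul, ← hg,
      inv_mul_cancel_right]
  rw [sl2_coe_inv] at H
  have e00 := congrFun (congrFun H 0) 0
  have e01 := congrFun (congrFun H 0) 1
  have e10 := congrFun (congrFun H 1) 0
  have e11 := congrFun (congrFun H 1) 1
  simp [Matrix.mul_apply, Fin.sum_univ_two] at e00 e01 e10 e11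
  have htr : g.1 0 0 + g.1 1 1 = 0 := by
    by_contra hne
    apply hz
    refine ⟨?_, ?_, ?_⟩
    · apply (mul_eq_zero.mp (?_ : z.1 0 1 * (g.1 0 0 + g.1 1 1) = 0)).resolve_right hne
      linear_combination e01
    · apply (mul_eq_zero.mp (?_ : z.1 1 0 * (g.1 0 0 + g.1 1 1) = 0)).resolve_right hne
      linear_combination e10
    · have : (z.1 0 0 - z.1 1 1) * (g.1 0 0 + g.1 1 1) = 0 := by
        linear_combination e00 - e11
      exact sub_eq_zero.mp ((mul_eq_zero.mp this).resolve_right hne)
  rw [sl2_sq g]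
  have : tr2 g = 0 := htr
  rw [this, zero_smul, zero_sub]

/-- An inverting element conjugates every element of the centraliser to its inverse. -/
theorem inverts_conj (g z h : Matrix.SpecialLinearGroup (Fin 2) F) (hz : NonScalar z.1)
    (hg : Inverts g z)
    (hh : h ∈ Subgroup.centralizer ({z} : Set (Matrix.SpecialLinearGroup (Fin 2) F))) :
    g * h * g⁻¹ = h⁻¹ := by
  obtain ⟨a, b, hab, hdet⟩ := exists_coords z h hz hh
  have hG : g.1 * z.1 * (g⁻¹).1 = (z⁻¹).1 := by
    rw [← Matrix.SpecialLinearGroup.coe_mul, ← Matrix.SpecialLinearGroup.coe_mul, hg]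
  have hgg : g.1 * (g⁻¹).1 = 1 := by
    rw [← Matrix.SpecialLinearGroup.coe_mul, mul_inv_cancel]; rfl
  have hzz : (z⁻¹).1 * z.1 = 1 := by
    rw [← Matrix.SpecialLinearGroup.coe_mul, inv_mul_cancel]; rfl
  have hsum := sl2_add_inv z
  apply eq_inv_of_mul_eq_one_left
  apply Subtype.ext
  rw [Matrix.SpecialLinearGroup.coe_mul, Matrix.SpecialLinearGroup.coe_mul,
    Matrix.SpecialLinearGroup.coe_mul, Matrix.SpecialLinearGroup.coe_one, hab]
  have h1 : g.1 * (a • (1 : Matrix (Fin 2) (Fin 2) F) + b • z.1) * (g⁻¹).1 =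
      a • (1 : Matrix (Fin 2) (Fin 2) F) + b • (z⁻¹).1 := by
    rw [Matrix.mul_add, Matrix.add_mul, Matrix.mul_smul, Matrix.smul_mul, Matrix.mul_smul,
      Matrix.smul_mul, Matrix.mul_one, hgg, hG]
  rw [h1]
  have h2 : (a • (1 : Matrix (Fin 2) (Fin 2) F) + b • (z⁻¹).1) * (a • 1 + b • z.1) =
      (a * a) • (1 : Matrix (Fin 2) (Fin 2) F) + (a * b) • (z.1 + (z⁻¹).1) + (b * b) • ((z⁻¹).1 * z.1) := by
    simp only [Matrix.mul_add, Matrix.add_mul, Matrix.mul_smul, Matrix.smul_mul, Matrix.mul_one,
      Matrix.one_mul, smul_smul, smul_add]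
    rw [mul_comm b a]
    abel
  rw [h2, hsum, hzz, smul_smul, ← add_smul, ← add_smul]
  have : a * a + a * b * tr2 z + b * b = 1 := by linear_combination hdet
  rw [this, one_smul]

/-- If a conjugate of `z` commutes with `z`, the conjugating element centralises or inverts `z`. -/
theorem conj_mem_centralizer (h2 : (2 : F) ≠ 0) (z g : Matrix.SpecialLinearGroup (Fin 2) F)
    (hz : NonScalar z.1) (ht : tr2 z ^ 2 ≠ 4)
    (h : g * z * g⁻¹ ∈ Subgroup.centralizer ({z} : Set (Matrix.SpecialLinearGroup (Fin 2) F))) :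
    g ∈ Subgroup.centralizer ({z} : Set (Matrix.SpecialLinearGroup (Fin 2) F)) ∨ Inverts g z := by
  obtain ⟨a, b, hab, hdet⟩ := exists_coords z _ hz h
  have htr : tr2 (g * z * g⁻¹) = tr2 z := by
    have h1 : tr2 (g * z * g⁻¹) = Matrix.trace (g * z * g⁻¹).1 := by
      rw [Matrix.trace_fin_two]; rfl
    have h3 : tr2 z = Matrix.trace z.1 := by
      rw [Matrix.trace_fin_two]; rfl
    rw [h1, h3, Matrix.SpecialLinearGroup.coe_mul, Matrix.SpecialLinearGroup.coe_mul,
      Matrix.trace_mul_comm, ← Matrix.mul_assoc, ← Matrix.SpecialLinearGroup.coe_mul,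
      inv_mul_cancel, Matrix.SpecialLinearGroup.coe_one, Matrix.one_mul]
  have htr2 : 2 * a + b * tr2 z = tr2 z := by
    have e : (g * z * g⁻¹).1 0 0 + (g * z * g⁻¹).1 1 1 = tr2 z := htr
    obtain ⟨c00, -, -, c11⟩ := smul_one_add_smul_apply z.1 a b
    rw [hab, c00, c11] at e
    have ht' : tr2 z = z.1 0 0 + z.1 1 1 := rfl
    linear_combination e + b * ht'
  have hb : (1 - b ^ 2) * (tr2 z ^ 2 - 4) = 0 := by
    have h4 : (2 * a) ^ 2 + 2 * tr2 z * (2 * a) * b + 4 * b ^ 2 = 4 := by linear_combination 4 * hdet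
    have h5 : 2 * a = tr2 z - b * tr2 z := by linear_combination htr2
    rw [h5] at h4
    linear_combination h4
  have hb1 : (1 - b) * (1 + b) = 0 := by
    have := (mul_eq_zero.mp hb).resolve_right (sub_ne_zero.mpr ht)
    linear_combination this
  rcases mul_eq_zero.mp hb1 with hb' | hb'
  · left
    have hb1 : b = 1 := by linear_combination -hb'
    have ha : a = 0 := by
      have : 2 * a = 0 := by rw [hb1] at htr2; linear_combination htr2
      exact (mul_eq_zero.mp this).resolve_left h2
    have hconj : g * z * g⁻¹ = z := by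
      apply Subtype.ext
      rw [hab, ha, hb1, zero_smul, zero_add, one_smul]
    rw [Subgroup.mem_centralizer_iff]
    rintro x rfl
    calc x * g = (g * x * g⁻¹) * g := by rw [hconj]
      _ = g * x := by rw [inv_mul_cancel_right]
  · right
    have hb1 : b = -1 := by linear_combination hb'
    have ha : a = tr2 z := by
      have : 2 * a = 2 * tr2 z := by rw [hb1] at htr2; linear_combination htr2
      exact mul_left_cancel₀ h2 this
    unfold Inverts
    apply Subtype.ext
    rw [hab, ha, hb1, ← sl2_add_inv z]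
    simp

theorem not_inverts_of_mem (h2 : (2 : F) ≠ 0) (z g : Matrix.SpecialLinearGroup (Fin 2) F)
    (hz : NonScalar z.1)
    (hg : g ∈ Subgroup.centralizer ({z} : Set (Matrix.SpecialLinearGroup (Fin 2) F))) :
    ¬ Inverts g z := by
  intro hinv
  unfold Inverts at hinv
  rw [Subgroup.mem_centralizer_iff] at hg
  have h1 : g * z * g⁻¹ = z := by rw [← hg z rfl, mul_inv_cancel_right]
  rw [h1] at hinv
  -- z = z⁻¹, so z * z = 1, so tr z • z = 2
  have h3 : z.1 * z.1 = 1 := by
    have : z * z = 1 := by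
      nth_rewrite 2 [hinv]
      exact mul_inv_cancel z
    rw [← Matrix.SpecialLinearGroup.coe_mul, this]; rfl
  rw [sl2_sq] at h3
  have e01 := congrFun (congrFun h3 0) 1
  have e10 := congrFun (congrFun h3 1) 0
  have e00 := congrFun (congrFun h3 0) 0
  have e11 := congrFun (congrFun h3 1) 1
  simp at e00 e01 e10 e11
  have htz : tr2 z ≠ 0 := by
    intro h0
    rw [h0] at e00
    apply h2
    linear_combination -e00
  apply hz
  refine ⟨e01.resolve_left htz, e10.resolve_left htz, ?_⟩
  have : tr2 z * (z.1 0 0 - z.1 1 1) = 0 := by linear_combination e00 - e11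
  exact sub_eq_zero.mp ((mul_eq_zero.mp this).resolve_left htz)

theorem inverts_mem_normalizer (z g : Matrix.SpecialLinearGroup (Fin 2) F) (hz : NonScalar z.1)
    (hg : Inverts g z) :
    g ∈ Subgroup.normalizer
      ((Subgroup.centralizer ({z} : Set (Matrix.SpecialLinearGroup (Fin 2) F)) :
        Subgroup (Matrix.SpecialLinearGroup (Fin 2) F)) : Set (Matrix.SpecialLinearGroup (Fin 2) F)) := by
  rw [Subgroup.mem_set_normalizer_iff]
  intro h
  constructor
  · intro hh
    rw [inverts_conj g z h hz hg hh]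
    exact Subgroup.inv_mem _ hh
  · intro hh
    have h1 := inverts_conj g⁻¹ z _ hz hg.inv hh
    rw [inv_inv] at h1
    have h2 : g⁻¹ * (g * h * g⁻¹) * g = h := by group
    rw [h2] at h1
    have := Subgroup.inv_mem _ hh
    rw [← h1] at this
    exact this

/-- The normaliser of the centraliser of a non-scalar element `z` with `tr(z)² ≠ 4`. -/
theorem mem_normalizer_centralizer_iff (h2 : (2 : F) ≠ 0) (z g : Matrix.SpecialLinearGroup (Fin 2) F)
    (hz : NonScalar z.1) (ht : tr2 z ^ 2 ≠ 4) :
    g ∈ Subgroup.normalizer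
      ((Subgroup.centralizer ({z} : Set (Matrix.SpecialLinearGroup (Fin 2) F)) :
        Subgroup (Matrix.SpecialLinearGroup (Fin 2) F)) : Set (Matrix.SpecialLinearGroup (Fin 2) F)) ↔
      g ∈ Subgroup.centralizer ({z} : Set (Matrix.SpecialLinearGroup (Fin 2) F)) ∨ Inverts g z := by
  constructor
  · intro hg
    rw [Subgroup.mem_set_normalizer_iff] at hg
    have hzmem : z ∈ Subgroup.centralizer ({z} : Set (Matrix.SpecialLinearGroup (Fin 2) F)) := by
      rw [Subgroup.mem_centralizer_iff]
      rintro x rfl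
      rfl
    exact conj_mem_centralizer h2 z g hz ht ((hg z).mp hzmem)
  · rintro (hg | hg)
    · exact Subgroup.le_normalizer hg
    · exact inverts_mem_normalizer z g hz hg

/-- The elements of the normaliser outside the torus square to `-1`. -/
theorem sq_of_mem_normalizer (h2 : (2 : F) ≠ 0) (z g : Matrix.SpecialLinearGroup (Fin 2) F)
    (hz : NonScalar z.1) (ht : tr2 z ^ 2 ≠ 4)
    (hg : g ∈ Subgroup.normalizer
      ((Subgroup.centralizer ({z} : Set (Matrix.SpecialLinearGroup (Fin 2) F)) :
        Subgroup (Matrix.SpecialLinearGroup (Fin 2) F)) : Set (Matrix.SpecialLinearGroup (Fin 2) F)))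
    (hg' : g ∉ Subgroup.centralizer ({z} : Set (Matrix.SpecialLinearGroup (Fin 2) F))) :
    (g * g).1 = -1 := by
  rcases (mem_normalizer_centralizer_iff h2 z g hz ht).mp hg with h | h
  · exact absurd h hg'
  · rw [Matrix.SpecialLinearGroup.coe_mul]
    exact inverts_sq g z hz h

/-- An element of `SL₂` whose square is `1` is `±1`. -/
theorem eq_one_or_neg_one_of_sq (h2 : (2 : F) ≠ 0) (h : Matrix.SpecialLinearGroup (Fin 2) F)
    (hh : h * h = 1) : h.1 = 1 ∨ h.1 = -1 := by
  by_contra hcon
  push Not at hcon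
  have hns := nonScalar_of_ne h hcon.1 hcon.2
  have h3 : h.1 * h.1 = 1 := by
    rw [← Matrix.SpecialLinearGroup.coe_mul, hh]; rfl
  rw [sl2_sq] at h3
  have e01 := congrFun (congrFun h3 0) 1
  have e10 := congrFun (congrFun h3 1) 0
  have e00 := congrFun (congrFun h3 0) 0
  have e11 := congrFun (congrFun h3 1) 1
  simp at e00 e01 e10 e11
  have htz : tr2 h ≠ 0 := by
    intro h0
    rw [h0] at e00
    apply h2
    linear_combination -e00
  apply hns
  refine ⟨e01.resolve_left htz, e10.resolve_left htz, ?_⟩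
  have : tr2 h * (h.1 0 0 - h.1 1 1) = 0 := by linear_combination e00 - e11
  exact sub_eq_zero.mp ((mul_eq_zero.mp this).resolve_left htz)

/-- The element `-1` of `SL₂`. -/
def negOne : Matrix.SpecialLinearGroup (Fin 2) F :=
  ⟨-1, by rw [Matrix.det_neg, Matrix.det_one]; simp⟩

theorem negOne_coe : (negOne : Matrix.SpecialLinearGroup (Fin 2) F).1 = -1 := rfl

theorem negOne_mul_self : (negOne : Matrix.SpecialLinearGroup (Fin 2) F) * negOne = 1 := by
  apply Subtype.ext
  rw [Matrix.SpecialLinearGroup.coe_mul, negOne_coe]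
  simp

theorem negOne_ne_one (h2 : (2 : F) ≠ 0) : (negOne : Matrix.SpecialLinearGroup (Fin 2) F) ≠ 1 := by
  intro h
  have := congrArg (fun x : Matrix.SpecialLinearGroup (Fin 2) F => x.1 0 0) h
  simp [negOne_coe] at this
  apply h2
  linear_combination -this

theorem negOne_mem_centralizer (z : Matrix.SpecialLinearGroup (Fin 2) F) :
    negOne ∈ Subgroup.centralizer ({z} : Set (Matrix.SpecialLinearGroup (Fin 2) F)) := by
  rw [mem_centralizer_singleton, negOne_coe]
  simp

end basic

section finite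

variable {F : Type*} [Field F] [Fintype F]

theorem two_ne_zero_of_odd (hodd : Odd (Fintype.card F)) : (2 : F) ≠ 0 := by
  have hF : ringChar F ≠ 2 := by
    intro h
    have := FiniteField.even_card_iff_char_two.mp h
    have h1 := Nat.odd_iff.mp hodd
    omega
  exact Ring.two_ne_zero hF

omit [Fintype F] in
theorem nonScalar_iff (A : Matrix (Fin 2) (Fin 2) F) :
    NonScalar A ↔ Cfsg.Agent.Helper39.NonScalar A := by
  unfold Cfsg.Agent.Helper42.SL2.NonScalar Cfsg.Agent.Helper39.NonScalar
  tauto

/-- Over a finite field of odd order, a non-scalar `z` with `tr(z)² ≠ 4` is inverted by some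
element. -/
theorem exists_inverts (hodd : Odd (Fintype.card F)) (z : Matrix.SpecialLinearGroup (Fin 2) F)
    (hz : NonScalar z.1) (ht : tr2 z ^ 2 ≠ 4) : ∃ w : Matrix.SpecialLinearGroup (Fin 2) F, Inverts w z := by
  have hodd' : Fintype.card F % 2 = 1 := Nat.odd_iff.mp hodd
  have htr : Matrix.trace z.1 = tr2 z := by rw [Matrix.trace_fin_two]; rfl
  have htr' : Matrix.trace (z⁻¹).1 = tr2 z := by
    rw [Matrix.trace_fin_two, sl2_coe_inv]
    simp [tr2]
    ring
  have hz' : NonScalar (z⁻¹).1 := by
    rw [sl2_coe_inv]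
    intro ⟨h01, h10, h00⟩
    simp at h01 h10 h00
    exact hz ⟨h01, h10, h00.symm⟩
  have c1 := Cfsg.Agent.Helper39.sl2_isConj_compSL hodd' z ((nonScalar_iff _).mp hz)
    (by rw [htr]; exact ht)
  have c2 := Cfsg.Agent.Helper39.sl2_isConj_compSL hodd' z⁻¹ ((nonScalar_iff _).mp hz')
    (by rw [htr']; exact ht)
  rw [htr] at c1
  rw [htr'] at c2
  have c3 : IsConj z z⁻¹ := c1.trans c2.symm
  rw [isConj_iff] at c3
  exact c3

/-- `N(C(z)) = C(z) ⊔ w C(z)`: order. -/
theorem card_normalizer_centralizer (hodd : Odd (Fintype.card F))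
    (z : Matrix.SpecialLinearGroup (Fin 2) F) (hz : NonScalar z.1) (ht : tr2 z ^ 2 ≠ 4) :
    Nat.card (Subgroup.normalizer
      ((Subgroup.centralizer ({z} : Set (Matrix.SpecialLinearGroup (Fin 2) F)) :
        Subgroup (Matrix.SpecialLinearGroup (Fin 2) F)) : Set (Matrix.SpecialLinearGroup (Fin 2) F))) =
      2 * Nat.card (Subgroup.centralizer ({z} : Set (Matrix.SpecialLinearGroup (Fin 2) F))) ∧
    2 * Nat.card (ConjClasses (Subgroup.normalizer
      ((Subgroup.centralizer ({z} : Set (Matrix.SpecialLinearGroup (Fin 2) F)) :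
        Subgroup (Matrix.SpecialLinearGroup (Fin 2) F)) : Set (Matrix.SpecialLinearGroup (Fin 2) F)))) =
      Nat.card (Subgroup.centralizer ({z} : Set (Matrix.SpecialLinearGroup (Fin 2) F))) + 6 := by
  classical
  have h2 := two_ne_zero_of_odd hodd
  obtain ⟨w, hw⟩ := exists_inverts hodd z hz ht
  set C := Subgroup.centralizer ({z} : Set (Matrix.SpecialLinearGroup (Fin 2) F)) with hC
  set N := Subgroup.normalizer (C : Set (Matrix.SpecialLinearGroup (Fin 2) F)) with hN
  have hwN : w ∈ N := inverts_mem_normalizer z w hz hw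
  have hx0 : (⟨w, hwN⟩ : N) ∉ C.subgroupOf N := by
    rw [Subgroup.mem_subgroupOf]
    exact fun h => not_inverts_of_mem h2 z w hz h hw
  have hcover : ∀ g : N, g ∈ C.subgroupOf N ∨ (⟨w, hwN⟩ : N)⁻¹ * g ∈ C.subgroupOf N := by
    intro g
    rcases (mem_normalizer_centralizer_iff h2 z g.1 hz ht).mp g.2 with h | h
    · left; exact Subgroup.mem_subgroupOf.mpr h
    · right
      rw [Subgroup.mem_subgroupOf]
      exact inv_mul_mem_centralizer hw h
  have hab : ∀ a ∈ C.subgroupOf N, ∀ b ∈ C.subgroupOf N, a * b = b * a := fun a ha b hb =>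
    Subtype.ext (centralizer_comm z hz a.1 b.1 (Subgroup.mem_subgroupOf.mp ha)
      (Subgroup.mem_subgroupOf.mp hb))
  have hinv : ∀ t ∈ C.subgroupOf N, (⟨w, hwN⟩ : N) * t * (⟨w, hwN⟩ : N)⁻¹ = t⁻¹ := fun t ht =>
    Subtype.ext (inverts_conj w z t.1 hz hw (Subgroup.mem_subgroupOf.mp ht))
  have hcardT : Nat.card (C.subgroupOf N) = Nat.card C :=
    Nat.card_congr (Subgroup.subgroupOfEquivOfLe Subgroup.le_normalizer).toEquiv
  have hm : Nat.card {t : C.subgroupOf N // t * t = 1} = 2 := by
    rw [Nat.card_eq_two_iff]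
    have hnegN : (negOne : Matrix.SpecialLinearGroup (Fin 2) F) ∈ N :=
      Subgroup.le_normalizer (negOne_mem_centralizer z)
    have hnegT : (⟨negOne, hnegN⟩ : N) ∈ C.subgroupOf N :=
      Subgroup.mem_subgroupOf.mpr (negOne_mem_centralizer z)
    refine ⟨⟨1, one_mul 1⟩, ⟨⟨⟨negOne, hnegN⟩, hnegT⟩, ?_⟩, ?_, ?_⟩
    · apply Subtype.ext
      apply Subtype.ext
      exact negOne_mul_self
    · intro h
      have h1 := congrArg (fun u : {t : C.subgroupOf N // t * t = 1} =>
        (((u.1 : C.subgroupOf N) : N) : Matrix.SpecialLinearGroup (Fin 2) F)) h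
      exact negOne_ne_one h2 h1.symm
    · ext u
      simp only [Set.mem_insert_iff, Set.mem_singleton_iff, Set.mem_univ, iff_true]
      have hu : (((u.1 : C.subgroupOf N) : N) : Matrix.SpecialLinearGroup (Fin 2) F) *
          (((u.1 : C.subgroupOf N) : N) : Matrix.SpecialLinearGroup (Fin 2) F) = 1 := by
        have := u.2
        have h1 := congrArg (fun v : C.subgroupOf N =>
          ((v : N) : Matrix.SpecialLinearGroup (Fin 2) F)) this
        exact h1
      rcases eq_one_or_neg_one_of_sq h2 _ hu with h1 | h1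
      · left
        apply Subtype.ext
        apply Subtype.ext
        apply Subtype.ext
        apply Subtype.ext
        exact h1
      · right
        apply Subtype.ext
        apply Subtype.ext
        apply Subtype.ext
        apply Subtype.ext
        exact h1
  refine ⟨?_, ?_⟩
  · rw [card_of_cover (C.subgroupOf N) ⟨w, hwN⟩ hx0 hcover, hcardT]
  · rw [two_mul_card_conjClasses_of_inverting (C.subgroupOf N) ⟨w, hwN⟩ hx0 hcover hab hinv, hcardT,
      hm]

/-- Over a finite field the centraliser of a non-scalar `z` with `tr(z)² ≠ 4` is cyclic. -/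
theorem isCyclic_centralizer (hodd : Odd (Fintype.card F))
    (z : Matrix.SpecialLinearGroup (Fin 2) F) (hz : NonScalar z.1) (ht : tr2 z ^ 2 ≠ 4) :
    IsCyclic (Subgroup.centralizer ({z} : Set (Matrix.SpecialLinearGroup (Fin 2) F))) := by
  classical
  have h2 := two_ne_zero_of_odd hodd
  have h2K : (2 : AlgebraicClosure F) ≠ 0 := by
    rw [← map_ofNat (algebraMap F (AlgebraicClosure F)) 2]
    exact (map_ne_zero (algebraMap F (AlgebraicClosure F))).mpr h2
  obtain ⟨s, hs⟩ : ∃ s : AlgebraicClosure F, algebraMap F (AlgebraicClosure F) (tr2 z ^ 2 - 4) = s * s := IsAlgClosed.exists_eq_mul_self _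
  have hs0 : s ≠ 0 := by
    rintro rfl
    rw [mul_zero] at hs
    have := (map_eq_zero (algebraMap F (AlgebraicClosure F))).mp hs
    exact ht (by linear_combination this)
  set τ : AlgebraicClosure F := algebraMap F (AlgebraicClosure F) (tr2 z) with hτ
  have hs' : s * s = τ ^ 2 - 4 := by
    rw [← hs, hτ]; simp only [map_sub, map_pow, map_ofNat]
  set l : AlgebraicClosure F := (τ + s) / 2 with hl
  set l' : AlgebraicClosure F := (τ - s) / 2 with hl'
  have hll : l * l = τ * l - 1 := by
    rw [hl]; field_simp; linear_combination hs'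
  have hsum : l + l' = τ := by rw [hl, hl']; field_simp; ring
  have hprod : l * l' = 1 := by rw [hl, hl']; field_simp; linear_combination -hs'
  have hdiff : l - l' = s := by rw [hl, hl']; field_simp; ring
  choose a b hab hdet using
    (fun h : Subgroup.centralizer ({z} : Set (Matrix.SpecialLinearGroup (Fin 2) F)) =>
      exists_coords z h.1 hz h.2)
  have hone : a 1 = 1 ∧ b 1 = 0 := by
    have h1 := hab 1
    have : ((1 : Subgroup.centralizer ({z} : Set (Matrix.SpecialLinearGroup (Fin 2) F))) :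
        Matrix.SpecialLinearGroup (Fin 2) F).1 = (1 : F) • (1 : Matrix (Fin 2) (Fin 2) F) + (0 : F) • z.1 := by
      simp
    rw [this] at h1
    obtain ⟨e1, e2⟩ := coords_unique z.1 hz h1
    exact ⟨e1.symm, e2.symm⟩
  have hmul : ∀ h h' : Subgroup.centralizer ({z} : Set (Matrix.SpecialLinearGroup (Fin 2) F)),
      a (h * h') = a h * a h' - b h * b h' ∧
      b (h * h') = a h * b h' + a h' * b h + b h * b h' * tr2 z := by
    intro h h'
    have h1 := hab (h * h')
    have h3 : ((h * h' : Subgroup.centralizer ({z} : Set (Matrix.SpecialLinearGroup (Fin 2) F))) :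
        Matrix.SpecialLinearGroup (Fin 2) F).1 =
        (a h * a h' - b h * b h') • (1 : Matrix (Fin 2) (Fin 2) F) +
          (a h * b h' + a h' * b h + b h * b h' * tr2 z) • z.1 := by
      rw [Subgroup.coe_mul, Matrix.SpecialLinearGroup.coe_mul, hab h, hab h']
      simp only [Matrix.mul_add, Matrix.add_mul, Matrix.mul_smul, Matrix.smul_mul, Matrix.mul_one,
        Matrix.one_mul, smul_smul, smul_add, sl2_sq z, smul_sub, sub_smul, add_smul]
      module
    rw [h3] at h1
    obtain ⟨e1, e2⟩ := coords_unique z.1 hz h1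
    exact ⟨e1.symm, e2.symm⟩
  let φ : Subgroup.centralizer ({z} : Set (Matrix.SpecialLinearGroup (Fin 2) F)) →* AlgebraicClosure F :=
    { toFun := fun h => algebraMap F (AlgebraicClosure F) (a h) + algebraMap F (AlgebraicClosure F) (b h) * l
      map_one' := by
        show algebraMap F (AlgebraicClosure F) (a 1) + algebraMap F (AlgebraicClosure F) (b 1) * l = 1
        rw [hone.1, hone.2]; simp
      map_mul' := by
        intro h h'
        show algebraMap F (AlgebraicClosure F) (a (h * h')) + algebraMap F (AlgebraicClosure F) (b (h * h')) * l =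
          (algebraMap F (AlgebraicClosure F) (a h) + algebraMap F (AlgebraicClosure F) (b h) * l) *
            (algebraMap F (AlgebraicClosure F) (a h') + algebraMap F (AlgebraicClosure F) (b h') * l)
        rw [(hmul h h').1, (hmul h h').2]
        simp only [map_sub, map_mul, map_add]
        rw [← hτ]
        linear_combination (-(algebraMap F (AlgebraicClosure F) (b h)) * (algebraMap F (AlgebraicClosure F) (b h'))) * hll }
  have hker : ∀ h, φ h = 1 → h = 1 := by
    intro h hh
    have h1 : algebraMap F (AlgebraicClosure F) (a h) + algebraMap F (AlgebraicClosure F) (b h) * l = 1 := hh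
    have h3 : (algebraMap F (AlgebraicClosure F) (a h) + algebraMap F (AlgebraicClosure F) (b h) * l) *
        (algebraMap F (AlgebraicClosure F) (a h) + algebraMap F (AlgebraicClosure F) (b h) * l') = 1 := by
      have := congrArg (algebraMap F (AlgebraicClosure F)) (hdet h)
      simp only [map_add, map_mul, map_pow, map_one] at this
      rw [← hτ] at this
      linear_combination this + (algebraMap F (AlgebraicClosure F) (a h)) * (algebraMap F (AlgebraicClosure F) (b h)) * hsum +
        (algebraMap F (AlgebraicClosure F) (b h)) ^ 2 * hprod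
    rw [h1, one_mul] at h3
    have h4 : algebraMap F (AlgebraicClosure F) (b h) * s = 0 := by
      rw [← hdiff]; linear_combination h1 - h3
    have hb0 : b h = 0 := by
      have := (mul_eq_zero.mp h4).resolve_right hs0
      exact (map_eq_zero (algebraMap F (AlgebraicClosure F))).mp this
    have ha1 : a h = 1 := by
      rw [hb0] at h1
      simpa using h1
    apply Subtype.ext
    apply Subtype.ext
    rw [hab h, ha1, hb0]
    simp
  have hinj : Function.Injective φ := by
    intro h h' hh
    have h1 : φ (h * h'⁻¹) = 1 := by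
      rw [map_mul, hh, ← map_mul, mul_inv_cancel, map_one]
    have := hker _ h1
    exact mul_inv_eq_one.mp this
  exact isCyclic_of_injective_ringHom φ hinj

end finite

end Cfsg.Agent.Helper40
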