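import Mathlib
import Cfsg.Agent.Helper40.PSL2Tri
import Cfsg.Agent.Helper40.PresSmall
import Cfsg.Agent.Helper40.SL2Tori
import Cfsg.Agent.Helper5.SLCard

/-!
# Subgroups `A₄`, `S₄`, `A₅` of `PSL₂(q)` (helper40)

Existence (triangle-group elements + the universal properties of `PresSmall`) and the
obstructions in characteristic 2.
-/

set_option autoImplicit false

namespace Cfsg.Agent.Helper40.PSL2Sub

open Matrix
open Cfsg.Agent.Helper40.PSL2Tri Cfsg.Agent.Helper40.PresSmall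

universe u

variable {F : Type u} [Field F]

local notation "SL2" => Cfsg.Agent.Helper44.SL2
local notation "PSL2" => Cfsg.Agent.Helper44.PSL2
local notation "pr" => Cfsg.Agent.Helper44.pr

theorem two_eq_zero_of_ringChar (h : ringChar F = 2) : (2 : F) = 0 := by
  have := CharP.cast_eq_zero F (ringChar F)
  rw [h] at this
  exact_mod_cast this

/-- A root of `x² = x + 1` when `5` divides the order of `SL₂(F)`. -/
theorem exists_golden [Fintype F] (h5 : 5 ∣ Fintype.card F * (Fintype.card F ^ 2 - 1)) :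
    ∃ r : F, r ^ 2 = r + 1 := by
  have : Fact (Nat.Prime 5) := ⟨by norm_num⟩
  obtain ⟨Z, hZ⟩ := exists_prime_orderOf_dvd_card' (G := SL2 F) 5
    (by rw [Cfsg.Agent.Helper5.card_SL2]; exact h5)
  have hZne : Z.1 ≠ 1 := by
    intro e
    have : Z = 1 := Subtype.ext e
    rw [this, orderOf_one] at hZ
    norm_num at hZ
  have hZ5 : Z.1 ^ 5 = 1 := by
    rw [← Matrix.SpecialLinearGroup.coe_pow, ← hZ, pow_orderOf_eq_one]
    rfl
  have hpow := pow_eq Z.1 _ (sl2_ch Z) 4
  rw [hZ5] at hpow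
  set t := Z.1 0 0 + Z.1 1 1 with ht
  have hu5 : uSeq t 5 = 0 := by
    by_contra hne
    have h1 : uSeq t 5 • Z.1 = (1 + uSeq t 4) • (1 : Matrix (Fin 2) (Fin 2) F) := by
      rw [add_smul, one_smul]
      rw [eq_sub_iff_add_eq] at hpow
      exact hpow.symm
    have hscal : Z.1 = ((uSeq t 5)⁻¹ * (1 + uSeq t 4)) • (1 : Matrix (Fin 2) (Fin 2) F) := by
      rw [mul_smul, ← h1, smul_smul, inv_mul_cancel₀ hne, one_smul]
    have hs2 : ((uSeq t 5)⁻¹ * (1 + uSeq t 4)) * ((uSeq t 5)⁻¹ * (1 + uSeq t 4)) = 1 := by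
      have hdet := Z.2
      rw [hscal, Matrix.det_smul, Matrix.det_one, Fintype.card_fin, mul_one] at hdet
      rw [← sq]; exact hdet
    rcases mul_self_eq_one_iff.1 hs2 with h | h
    · apply hZne
      rw [hscal, h, one_smul]
    · have hm : Z.1 = -1 := by
        rw [hscal, h]; simp
      rw [hm] at hZ5
      have h11 : (-1 : Matrix (Fin 2) (Fin 2) F) = 1 := by
        rwa [Odd.neg_one_pow (by decide : Odd 5)] at hZ5
      apply hZne
      rw [hm, h11]
  have hfac : (t ^ 2 - t - 1) * (t ^ 2 + t - 1) = 0 := by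
    simp only [uSeq] at hu5
    linear_combination hu5
  rcases mul_eq_zero.1 hfac with h | h
  · exact ⟨t, by linear_combination h⟩
  · exact ⟨-t, by linear_combination h⟩

theorem exists_sol_golden [Fintype F] (r : F) (hr : r ^ 2 = r + 1) :
    ∃ a b : F, a ^ 2 + a + b ^ 2 + r * b + 1 = 0 := by
  by_cases h2 : ringChar F = 2
  · have h2' := two_eq_zero_of_ringChar h2
    exact exists_sol_of_omega r (by linear_combination hr + (r + 1) * h2') r
  · exact exists_sol_odd (FiniteField.odd_card_of_char_ne_two h2) r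

/-- `A₅` in `PSL₂(q)` when `5 ∣ q (q² - 1)`. -/
theorem exists_A5 [Fintype F] (h5 : 5 ∣ Fintype.card F * (Fintype.card F ^ 2 - 1)) :
    ∃ H : Subgroup (PSL2 F), Nonempty (H ≃* alternatingGroup (Fin 5)) := by
  obtain ⟨r, hr⟩ := exists_golden h5
  obtain ⟨x, y, hx, hy, hx1, -, -, -, h5'⟩ := exists_tri r (exists_sol_golden r hr)
  obtain ⟨f, hfa, hfb⟩ := a5_hom x y hx hy (h5' hr)
  have hinj := a5_inj f (by rw [hfa]; exact hx1)
  exact ⟨f.range, ⟨(MonoidHom.ofInjective hinj).symm⟩⟩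

/-- `S₄` in `PSL₂(q)` when `q² ≡ 1 (mod 16)`. -/
theorem exists_S4 [Fintype F] (hq : Fintype.card F ^ 2 % 16 = 1) :
    ∃ H : Subgroup (PSL2 F), Nonempty (H ≃* Equiv.Perm (Fin 4)) := by
  have h16 : Fintype.card F % 16 = 1 ∨ Fintype.card F % 16 = 7 ∨ Fintype.card F % 16 = 9 ∨
      Fintype.card F % 16 = 15 := by
    have h1 : Fintype.card F % 16 < 16 := Nat.mod_lt _ (by norm_num)
    rw [Nat.pow_mod] at hq
    generalize Fintype.card F % 16 = m at hq h1
    interval_cases m <;> simp_all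
  have hodd : Fintype.card F % 2 = 1 := by omega
  have h8 : Fintype.card F % 8 ≠ 3 ∧ Fintype.card F % 8 ≠ 5 := by omega
  obtain ⟨r, hr⟩ := FiniteField.isSquare_two_iff.2 h8
  have h2 : (2 : F) ≠ 0 := Cfsg.Agent.Helper40.two_ne_zero_of_odd (Nat.odd_iff.2 hodd)
  have hr0 : r ≠ 0 := by
    rintro rfl
    apply h2
    rw [hr]; ring
  have hr2 : r ^ 2 = 2 := by rw [hr]; ring
  obtain ⟨x, y, hx, hy, -, -, -, h4, -⟩ := exists_tri r (exists_sol_odd hodd r)
  obtain ⟨h4a, h4b⟩ := h4 hr2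
  obtain ⟨f, hfa, hfb⟩ := s4_hom x y hx hy h4a
  have hinj := s4_inj f (by rw [map_pow, map_mul, hfa, hfb]; exact h4b hr0)
  exact ⟨f.range, ⟨(MonoidHom.ofInjective hinj).symm⟩⟩

/-- In characteristic 2 the projection `SL₂ → PSL₂` is injective. -/
theorem pr_injective_of_two (h2 : (2 : F) = 0) :
    Function.Injective (Cfsg.Agent.Helper44.pr (F := F)) := by
  intro a b hab
  rw [Cfsg.Agent.Helper44.pr_eq_iff] at hab
  obtain ⟨r, hr, hb⟩ := hab
  have hr1 : r = 1 := by
    have : (r - 1) * (r - 1) = 0 := by linear_combination hr - r * h2 + h2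
    have := mul_self_eq_zero.1 this
    exact sub_eq_zero.1 this
  apply Subtype.ext
  rw [hb, hr1, one_smul]

/-- In characteristic 2 there are no elements of order 4 in `PSL₂(F)`. -/
theorem sq_eq_one_of_pow_four (h2 : (2 : F) = 0) (y : PSL2 F) (hy : y ^ 4 = 1) : y ^ 2 = 1 := by
  obtain ⟨g, rfl⟩ := Cfsg.Agent.Helper44.pr_surjective y
  have hg4 : g ^ 4 = 1 := pr_injective_of_two h2 (by rw [map_pow, hy, map_one])
  have hM4 : g.1 ^ 4 = 1 := by
    rw [← Matrix.SpecialLinearGroup.coe_pow, hg4]; rfl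
  have hchar : (1 : Matrix (Fin 2) (Fin 2) F) + 1 = 0 := by
    rw [← two_smul F (1 : Matrix (Fin 2) (Fin 2) F), h2, zero_smul]
  by_cases ht0 : g.1 0 0 + g.1 1 1 = 0
  · exact pr_pow_eq_one g 2 (Or.inl (sq_of_trace_zero g ht0))
  · have hpow := pow_eq g.1 _ (sl2_ch g) 3
    rw [hM4] at hpow
    set t := g.1 0 0 + g.1 1 1 with ht
    have hu4 : uSeq t 4 = t ^ 3 := by
      simp only [uSeq]; linear_combination (-t) * h2
    have hu3 : uSeq t 3 = t ^ 2 + 1 := by
      simp only [uSeq]; linear_combination (-1 : F) * h2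
    rw [hu4, hu3] at hpow
    have h1 : t ^ 3 • g.1 = t ^ 2 • (1 : Matrix (Fin 2) (Fin 2) F) := by
      have e := eq_sub_iff_add_eq.1 hpow
      rw [← e, add_smul, one_smul, add_comm (t ^ 2 • (1 : Matrix (Fin 2) (Fin 2) F)) 1,
        ← add_assoc, hchar, zero_add]
    have ht3 : t ^ 3 ≠ 0 := pow_ne_zero 3 ht0
    have hscal : g.1 = ((t ^ 3)⁻¹ * t ^ 2) • (1 : Matrix (Fin 2) (Fin 2) F) := by
      rw [mul_smul, ← h1, smul_smul, inv_mul_cancel₀ ht3, one_smul]
    have hs2 : ((t ^ 3)⁻¹ * t ^ 2) * ((t ^ 3)⁻¹ * t ^ 2) = 1 := by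
      have hdet := g.2
      rw [hscal, Matrix.det_smul, Matrix.det_one, Fintype.card_fin, mul_one] at hdet
      rw [← sq]; exact hdet
    have : pr g = 1 := (pr_eq_one_iff g).2 ⟨_, hs2, hscal⟩
    rw [this, one_pow]

theorem s4_f1 : (s4a * s4b) ^ 4 = 1 := by decide

theorem s4_f2 : (s4a * s4b) ^ 2 ≠ 1 := by decide

/-- No `S₄` in `PSL₂(F)` in characteristic 2. -/
theorem no_S4_of_two (h2 : (2 : F) = 0) (H : Subgroup (PSL2 F))
    (e : H ≃* Equiv.Perm (Fin 4)) : False := by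
  have h4 : (e.symm (s4a * s4b)) ^ 4 = 1 := by
    rw [← map_pow, s4_f1, map_one]
  have h2' : (e.symm (s4a * s4b)) ^ 2 ≠ 1 := by
    rw [← map_pow]
    intro h
    exact s4_f2 (e.symm.injective (h.trans (map_one _).symm))
  apply h2'
  have := sq_eq_one_of_pow_four h2 ((e.symm (s4a * s4b) : H) : PSL2 F)
    (by rw [← Subgroup.coe_pow, h4]; rfl)
  exact Subtype.ext (by rw [Subgroup.coe_pow]; exact this)

/-- The arithmetic of the `S₄` criterion. -/
theorem sq_mod_sixteen [Fintype F] (h2 : (2 : F) ≠ 0) (h24 : 24 ∣ Nat.card (PSL2 F)) :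
    Fintype.card F ^ 2 % 16 = 1 := by
  have hc := Cfsg.Agent.Helper5.card_PSL2_mul (F := F)
  rw [Cfsg.Agent.Helper5.card_center_SL2 h2] at hc
  have hodd : Fintype.card F % 2 = 1 :=
    FiniteField.odd_card_of_char_ne_two (fun h => h2 (two_eq_zero_of_ringChar h))
  have h16 : 16 ∣ Fintype.card F * (Fintype.card F ^ 2 - 1) := by
    rw [← hc]
    obtain ⟨k, hk⟩ := h24
    exact ⟨3 * k, by rw [hk]; ring⟩
  have hcop : Nat.Coprime 16 (Fintype.card F) := by
    have h2c : Nat.Coprime 2 (Fintype.card F) := Nat.coprime_two_left.2 (Nat.odd_iff.2 hodd)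
    exact Nat.Coprime.pow_left 4 h2c
  have h16' : 16 ∣ Fintype.card F ^ 2 - 1 := hcop.dvd_of_dvd_mul_left h16
  have hpos : 1 ≤ Fintype.card F ^ 2 := Nat.one_le_pow _ _ (by omega)
  omega

/-- `A₄` in `PSL₂(q)` for `q` odd or when `F` contains a primitive cube root of unity. -/
theorem exists_A4 [Fintype F] (h : Fintype.card F % 2 = 1 ∨ ∃ ω : F, ω ^ 2 + ω + 1 = 0) :
    ∃ H : Subgroup (PSL2 F), Nonempty (H ≃* alternatingGroup (Fin 4)) := by
  have hsol : ∃ a b : F, a ^ 2 + a + b ^ 2 + (-1 : F) * b + 1 = 0 := by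
    rcases h with h | ⟨ω, hω⟩
    · exact exists_sol_odd h (-1)
    · exact exists_sol_of_omega ω hω (-1)
  obtain ⟨x, y, hx, hy, hx1, -, h3, -, -⟩ := exists_tri (-1 : F) hsol
  obtain ⟨f, hfa, hfb⟩ := a4_hom x y hx hy (h3 rfl)
  have hinj := a4_inj f (by rw [hfa]; exact hx1)
  exact ⟨f.range, ⟨(MonoidHom.ofInjective hinj).symm⟩⟩

/-- The obstruction to `A₄` in characteristic 2: a primitive cube root of unity. -/
theorem no_A4_core (h2 : (2 : F) = 0) (hω : ∀ ω : F, ω ^ 2 + ω + 1 ≠ 0) (T S K : SL2 F)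
    (hTT : T * T = 1) (hT1 : T ≠ 1) (hTS : T * S = S * T)
    (hKT : K * T * K⁻¹ = S) (hKS : K * S * K⁻¹ = T * S) : False := by
  have hchar : ∀ X : Matrix (Fin 2) (Fin 2) F, X + X = 0 := fun X => by
    rw [← two_smul F X, h2, zero_smul]
  have hneg : ∀ X : Matrix (Fin 2) (Fin 2) F, -X = X := fun X =>
    neg_eq_of_add_eq_zero_left (hchar X)
  have hT2 : T.1 * T.1 = 1 := by
    rw [← Matrix.SpecialLinearGroup.coe_mul, hTT]; rfl
  have hTne : T.1 ≠ 1 := fun e => hT1 (Subtype.ext e)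
  have htr : Cfsg.Agent.Helper40.tr2 T = 0 := by
    have h := Cfsg.Agent.Helper40.sl2_sq T
    rw [hT2] at h
    have h' : Cfsg.Agent.Helper40.tr2 T • T.1 = 0 := by
      rw [eq_sub_iff_add_eq] at h
      rw [← h]; exact hchar 1
    rcases smul_eq_zero.1 h' with h0 | h0
    · exact h0
    · exfalso
      have := T.2
      rw [h0] at this
      simp at this
  have hns : Cfsg.Agent.Helper42.SL2.NonScalar T.1 :=
    Cfsg.Agent.Helper40.nonScalar_of_ne T hTne (by rw [hneg]; exact hTne)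
  have hmem : S ∈ Subgroup.centralizer ({T} : Set (SL2 F)) := by
    rw [Cfsg.Agent.Helper40.mem_centralizer_singleton, ← Matrix.SpecialLinearGroup.coe_mul,
      ← Matrix.SpecialLinearGroup.coe_mul, hTS]
  obtain ⟨a, b, hab, hq⟩ := Cfsg.Agent.Helper40.exists_coords T S hns hmem
  rw [htr] at hq
  have hab1 : a + b = 1 := by
    have : (a + b - 1) * (a + b - 1) = 0 := by
      linear_combination hq + (1 + a * b - a - b) * h2
    exact sub_eq_zero.1 (mul_self_eq_zero.1 this)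
  set N := T.1 - 1 with hN
  have hS : S.1 = 1 + b • N := by
    have ha : a = 1 - b := by linear_combination hab1
    rw [hab, hN, smul_sub, ha, sub_smul, one_smul]
    abel
  have hNN : N * N = 0 := by
    rw [hN]
    simp only [sub_mul, mul_sub, one_mul, mul_one, hT2]
    calc (1 : Matrix (Fin 2) (Fin 2) F) - T.1 - (T.1 - 1) = (1 + 1) - (T.1 + T.1) := by abel
      _ = 0 := by rw [hchar, hchar, sub_zero]
  have hNne : N ≠ 0 := by
    intro e
    apply hTne
    rw [hN, sub_eq_zero] at e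
    exact e
  have hK : K.1 * K⁻¹.1 = 1 := by
    rw [← Matrix.SpecialLinearGroup.coe_mul, mul_inv_cancel]; rfl
  have hc1 : K.1 * N * K⁻¹.1 = b • N := by
    have h1 : K.1 * T.1 * K⁻¹.1 = S.1 := by
      rw [← Matrix.SpecialLinearGroup.coe_mul, ← Matrix.SpecialLinearGroup.coe_mul, hKT]
    calc K.1 * N * K⁻¹.1 = K.1 * T.1 * K⁻¹.1 - K.1 * K⁻¹.1 := by
          rw [hN, mul_sub, sub_mul, mul_one]
      _ = b • N := by rw [h1, hK, hS]; abel
  have hc2 : K.1 * (b • N) * K⁻¹.1 = (1 + b) • N := by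
    have h1 : K.1 * S.1 * K⁻¹.1 = T.1 * S.1 := by
      rw [← Matrix.SpecialLinearGroup.coe_mul, ← Matrix.SpecialLinearGroup.coe_mul, hKS,
        Matrix.SpecialLinearGroup.coe_mul]
    have h2' : T.1 * S.1 = 1 + (1 + b) • N := by
      have hT : T.1 = 1 + N := by rw [hN]; abel
      rw [hT, hS, add_mul, one_mul, mul_add, mul_one, mul_smul_comm, hNN, smul_zero, add_zero,
        add_smul, one_smul]
      abel
    calc K.1 * (b • N) * K⁻¹.1 = K.1 * S.1 * K⁻¹.1 - K.1 * K⁻¹.1 := by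
          rw [hS, mul_add, add_mul, mul_one]; abel
      _ = (1 + b) • N := by rw [h1, h2', hK]; abel
  have hfin : (b * b) • N = (1 + b) • N := by
    rw [← hc2, mul_smul_comm, smul_mul_assoc, hc1, smul_smul]
  have hz : (b * b - (1 + b)) • N = 0 := by rw [sub_smul, hfin, sub_self]
  rcases smul_eq_zero.1 hz with h0 | h0
  · exact hω b (by linear_combination h0 + (1 + b) * h2)
  · exact hNne h0

theorem a4_f1 : a4a * a4a = 1 := by decide

theorem a4_f2 : a4a ≠ 1 := by decide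

theorem a4_f4 : a4a * (a4b * a4a * a4b⁻¹) = (a4b * a4a * a4b⁻¹) * a4a := by decide

theorem a4_f5 : a4b * (a4b * a4a * a4b⁻¹) * a4b⁻¹ = a4a * (a4b * a4a * a4b⁻¹) := by decide

/-- No `A₄` in `PSL₂(F)` in characteristic 2 without primitive cube roots of unity. -/
theorem no_A4_of_two (h2 : (2 : F) = 0) (hω : ∀ ω : F, ω ^ 2 + ω + 1 ≠ 0)
    (H : Subgroup (PSL2 F)) (e : H ≃* alternatingGroup (Fin 4)) : False := by
  let ψ : alternatingGroup (Fin 4) →* PSL2 F := H.subtype.comp e.symm.toMonoidHom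
  have hψ : Function.Injective ψ := H.subtype_injective.comp e.symm.injective
  obtain ⟨T, hT⟩ := Cfsg.Agent.Helper44.pr_surjective (ψ a4a)
  obtain ⟨K, hK⟩ := Cfsg.Agent.Helper44.pr_surjective (ψ a4b)
  have hinj := pr_injective_of_two h2
  obtain ⟨S, hSdef⟩ : ∃ S : SL2 F, S = K * T * K⁻¹ := ⟨_, rfl⟩
  have hS : pr S = ψ (a4b * a4a * a4b⁻¹) := by
    rw [hSdef, map_mul, map_mul, map_inv, hT, hK, map_mul, map_mul, map_inv]
  apply no_A4_core h2 hω T S K
  · apply hinj
    rw [map_mul, hT, ← map_mul, a4_f1, map_one, map_one]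
  · intro h
    have h1 : ψ a4a = 1 := by rw [← hT, h, map_one]
    exact a4_f2 (hψ (h1.trans (map_one ψ).symm))
  · apply hinj
    rw [map_mul, map_mul, hT, hS, ← map_mul, ← map_mul, a4_f4]
  · exact hSdef.symm
  · apply hinj
    rw [map_mul, map_mul, map_inv, map_mul, hK, hS, hT, ← map_inv, ← map_mul, ← map_mul,
      ← map_mul, a4_f5]

/-- No primitive cube roots of unity in `𝔽_{2^n}`, `n` odd. -/
theorem no_omega [Fintype F] (h2 : (2 : F) = 0) (n : ℕ) (hF : Fintype.card F = 2 ^ n)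
    (hn : Odd n) (ω : F) : ω ^ 2 + ω + 1 ≠ 0 := by
  classical
  intro h
  have hω0 : ω ≠ 0 := by
    rintro rfl
    simp at h
  have hω3 : ω ^ 3 = 1 := by linear_combination (ω - 1) * h
  have hω1 : ω ≠ 1 := by
    rintro rfl
    have : (1 : F) = 0 := by linear_combination h - h2
    exact one_ne_zero this
  have : Fact (Nat.Prime 3) := ⟨by norm_num⟩
  have ho : orderOf (Units.mk0 ω hω0) = 3 := by
    apply orderOf_eq_prime
    · ext; simpa using hω3
    · intro e
      apply hω1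
      have := congrArg Units.val e
      simpa using this
  have hdvd : 3 ∣ Fintype.card Fˣ := ho ▸ orderOf_dvd_card
  rw [Fintype.card_units, hF] at hdvd
  obtain ⟨k, rfl⟩ := hn
  have h3 : 2 ^ (2 * k + 1) % 3 = 2 := by
    rw [pow_succ, pow_mul, Nat.mul_mod, Nat.pow_mod]
    norm_num
  have hpos : 1 ≤ 2 ^ (2 * k + 1) := Nat.one_le_pow _ _ (by norm_num)
  generalize 2 ^ (2 * k + 1) = m at hdvd h3 hpos
  omega

/-- A primitive cube root of unity in `𝔽_{2^n}`, `n` even. -/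
theorem exists_omega [Fintype F] (n : ℕ) (hF : Fintype.card F = 2 ^ n) (hn : Even n) :
    ∃ ω : F, ω ^ 2 + ω + 1 = 0 := by
  classical
  have : Fact (Nat.Prime 3) := ⟨by norm_num⟩
  have hdvd : 3 ∣ Fintype.card Fˣ := by
    rw [Fintype.card_units, hF]
    obtain ⟨k, rfl⟩ := hn
    have h3 : 2 ^ (k + k) % 3 = 1 := by
      rw [← two_mul, pow_mul, Nat.pow_mod]
      norm_num
    have hpos : 1 ≤ 2 ^ (k + k) := Nat.one_le_pow _ _ (by norm_num)
    generalize 2 ^ (k + k) = m at h3 hpos ⊢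
    omega
  obtain ⟨u, hu⟩ := exists_prime_orderOf_dvd_card 3 hdvd
  have hu3 : (u : F) ^ 3 = 1 := by
    have := pow_orderOf_eq_one u
    rw [hu] at this
    have := congrArg Units.val this
    simpa using this
  have hu1 : (u : F) ≠ 1 := by
    intro e
    have : u = 1 := Units.ext e
    rw [this, orderOf_one] at hu
    norm_num at hu
  refine ⟨u, ?_⟩
  have : ((u : F) - 1) * ((u : F) ^ 2 + u + 1) = 0 := by linear_combination hu3
  rcases mul_eq_zero.1 this with h | h
  · exact absurd (sub_eq_zero.1 h) hu1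
  · exact h

end Cfsg.Agent.Helper40.PSL2Sub
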