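import Mathlib
import Cfsg.Agent.Helper40.SL2Tori

/-!
# Split and non-split tori of `SL₂(q)`, `q` odd (helper40)

Orders of the centralisers `C(z)`, elements without eigenvectors, conjugation into a non-split torus.
-/

set_option autoImplicit false

namespace Cfsg.Agent.Helper40

open Matrix Cfsg.Agent.Helper42.SL2

section

variable {F : Type*} [Field F]

/-- An element of `SL₂(F)` without eigenvector in `F²` is non-scalar and the discriminant of its
characteristic polynomial is not a square. -/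
theorem props_of_no_eigenvector (h2 : (2 : F) ≠ 0) (g : Matrix.SpecialLinearGroup (Fin 2) F)
    (hno : ∀ (c : F) (v : Fin 2 → F), v ≠ 0 → g.1.mulVec v ≠ c • v) :
    NonScalar g.1 ∧ ¬ IsSquare (tr2 g ^ 2 - 4) := by
  have h01 : g.1 0 1 ≠ 0 := by
    intro h01
    apply hno (g.1 1 1) ![0, 1]
    · intro h
      have := congrFun h 1
      simp at this
    · funext i
      fin_cases i <;> simp [Matrix.mulVec, dotProduct, h01]
  refine ⟨fun h => h01 h.1, ?_⟩
  rintro ⟨s, hs⟩
  have hd := det_eq g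
  set c := (tr2 g + s) / 2 with hc
  have hcc : c ^ 2 - tr2 g * c + 1 = 0 := by
    rw [hc]
    field_simp
    linear_combination -hs
  apply hno c ![g.1 0 1, c - g.1 0 0]
  · intro h
    have := congrFun h 0
    simp at this
    exact h01 this
  · funext i
    fin_cases i
    · simp [Matrix.mulVec, dotProduct]
      ring
    · simp [Matrix.mulVec, dotProduct]
      unfold tr2 at hcc
      linear_combination -hcc - hd

end

section finite

variable {F : Type*} [Field F] [Fintype F]

/-- Order of a non-split torus. -/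
theorem card_centralizer_nonsplit (hodd : Odd (Fintype.card F))
    (z : Matrix.SpecialLinearGroup (Fin 2) F) (hz : NonScalar z.1)
    (hns : ¬ IsSquare (tr2 z ^ 2 - 4)) :
    Nat.card (Subgroup.centralizer ({z} : Set (Matrix.SpecialLinearGroup (Fin 2) F))) =
      Fintype.card F + 1 := by
  have h2 := two_ne_zero_of_odd hodd
  refine (card_centralizer_odd h2 z hz (tr2 z / 2) ?_).2.2 ?_
  · unfold tr2; field_simp
  · rintro ⟨e, he⟩
    apply hns
    refine ⟨2 * e, ?_⟩
    field_simp at he
    linear_combination he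

/-- Order of a split torus. -/
theorem card_centralizer_split (hodd : Odd (Fintype.card F))
    (z : Matrix.SpecialLinearGroup (Fin 2) F) (hz : NonScalar z.1) (e : F) (he : e ≠ 0)
    (hsq : tr2 z ^ 2 - 4 = e ^ 2) :
    Nat.card (Subgroup.centralizer ({z} : Set (Matrix.SpecialLinearGroup (Fin 2) F))) =
      Fintype.card F - 1 := by
  have h2 := two_ne_zero_of_odd hodd
  refine (card_centralizer_odd h2 z hz (tr2 z / 2) ?_).2.1 (e / 2) (div_ne_zero he h2) ?_
  · unfold tr2; field_simp
  · field_simp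
    linear_combination hsq

omit [Fintype F] in
theorem trace_sq_ne_four_of_not_isSquare (z : Matrix.SpecialLinearGroup (Fin 2) F)
    (hns : ¬ IsSquare (tr2 z ^ 2 - 4)) : tr2 z ^ 2 ≠ 4 := by
  intro h
  apply hns
  rw [h, sub_self]
  exact IsSquare.zero

/-- A non-scalar element with non-square discriminant exists. -/
theorem exists_nonsplit (hodd : Odd (Fintype.card F)) :
    ∃ z : Matrix.SpecialLinearGroup (Fin 2) F, NonScalar z.1 ∧ ¬ IsSquare (tr2 z ^ 2 - 4) := by
  have h2 := two_ne_zero_of_odd hodd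
  have hF : ringChar F ≠ 2 := by
    intro h
    have := FiniteField.even_card_iff_char_two.mp h
    have h1 := Nat.odd_iff.mp hodd
    omega
  obtain ⟨ν, hν⟩ := FiniteField.exists_nonsquare hF
  have hν1 : 1 - ν ≠ 0 := by
    intro h
    apply hν
    have : ν = 1 := by linear_combination -h
    rw [this]
    exact ⟨1, by ring⟩
  have hdet : ((1 + ν) / (1 - ν)) * ((1 + ν) / (1 - ν)) - (ν * (2 / (1 - ν))) * (2 / (1 - ν)) = 1 := by
    field_simp
    ring
  refine ⟨mkSL ((1 + ν) / (1 - ν)) (ν * (2 / (1 - ν))) (2 / (1 - ν)) ((1 + ν) / (1 - ν)) hdet, ?_, ?_⟩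
  · obtain ⟨-, -, e10, -⟩ := mkSL_apply ((1 + ν) / (1 - ν)) (ν * (2 / (1 - ν))) (2 / (1 - ν))
      ((1 + ν) / (1 - ν)) hdet
    rintro ⟨-, h10, -⟩
    rw [e10] at h10
    exact (div_ne_zero h2 hν1) h10
  · obtain ⟨e00, -, -, e11⟩ := mkSL_apply ((1 + ν) / (1 - ν)) (ν * (2 / (1 - ν))) (2 / (1 - ν))
      ((1 + ν) / (1 - ν)) hdet
    rintro ⟨e, he⟩
    apply hν
    unfold tr2 at he
    rw [e00, e11] at he
    refine ⟨e * (1 - ν) / 4, ?_⟩
    have h4 : (4 : F) ≠ 0 := by
      have : (4 : F) = 2 * 2 := by norm_num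
      rw [this]; exact mul_ne_zero h2 h2
    field_simp
    field_simp at he
    linear_combination he

/-- Every non-scalar element with non-square discriminant is conjugate into a given non-split
torus. -/
theorem exists_conj_mem_centralizer (hodd : Odd (Fintype.card F))
    (z : Matrix.SpecialLinearGroup (Fin 2) F) (hz : NonScalar z.1)
    (hns : ¬ IsSquare (tr2 z ^ 2 - 4)) (g : Matrix.SpecialLinearGroup (Fin 2) F)
    (hg : NonScalar g.1) (hgns : ¬ IsSquare (tr2 g ^ 2 - 4)) :
    ∃ h : Matrix.SpecialLinearGroup (Fin 2) F,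
      h * g * h⁻¹ ∈ Subgroup.centralizer ({z} : Set (Matrix.SpecialLinearGroup (Fin 2) F)) := by
  have h2 := two_ne_zero_of_odd hodd
  have hodd' : Fintype.card F % 2 = 1 := Nat.odd_iff.mp hodd
  have hF : ringChar F ≠ 2 := by
    intro h
    have := FiniteField.even_card_iff_char_two.mp h
    omega
  have hv0 : tr2 z ^ 2 - 4 ≠ 0 := fun h => hns (by rw [h]; exact IsSquare.zero)
  have hu0 : tr2 g ^ 2 - 4 ≠ 0 := fun h => hgns (by rw [h]; exact IsSquare.zero)
  obtain ⟨e, he⟩ := Cfsg.Agent.Helper39.isSquare_mul_of_not_isSquare hF hgns hns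
  set c := e / (tr2 z ^ 2 - 4) with hc
  have hcc : c ^ 2 * (tr2 z ^ 2 - 4) = tr2 g ^ 2 - 4 := by
    rw [hc]
    field_simp
    linear_combination -he
  have hc0 : c ≠ 0 := by
    rintro h0
    rw [h0] at hcc
    apply hu0
    linear_combination -hcc
  have hdet : ((tr2 g - c * tr2 z) / 2) ^ 2 + (z.1 0 0 + z.1 1 1) * ((tr2 g - c * tr2 z) / 2) * c +
      c ^ 2 = 1 := by
    have : z.1 0 0 + z.1 1 1 = tr2 z := rfl
    rw [this]
    field_simp
    linear_combination -hcc
  set y := mkC z ((tr2 g - c * tr2 z) / 2) c hdet with hy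
  have hymem := mkC_mem z hz ((tr2 g - c * tr2 z) / 2) c hdet
  have hyval := mkC_val z ((tr2 g - c * tr2 z) / 2) c hdet
  obtain ⟨c00, c01, c10, c11⟩ := smul_one_add_smul_apply z.1 ((tr2 g - c * tr2 z) / 2) c
  have hytr : tr2 y = tr2 g := by
    unfold tr2
    rw [hyval, c00, c11]
    have : tr2 z = z.1 0 0 + z.1 1 1 := rfl
    have hg' : tr2 g = g.1 0 0 + g.1 1 1 := rfl
    rw [this, hg']
    field_simp
    ring
  have hyns : NonScalar y.1 := by
    rintro ⟨h01, h10, h00⟩
    rw [hyval] at h01 h10 h00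
    rw [c01] at h01
    rw [c10] at h10
    rw [c00, c11] at h00
    apply hz
    refine ⟨(mul_eq_zero.mp h01).resolve_left hc0, (mul_eq_zero.mp h10).resolve_left hc0, ?_⟩
    have : c * (z.1 0 0 - z.1 1 1) = 0 := by linear_combination h00
    exact sub_eq_zero.mp ((mul_eq_zero.mp this).resolve_left hc0)
  have htrg : Matrix.trace g.1 = tr2 g := by rw [Matrix.trace_fin_two]; rfl
  have htry : Matrix.trace y.1 = tr2 g := by rw [Matrix.trace_fin_two, ← hytr]; rfl
  have hne4 : tr2 g ^ 2 ≠ 4 := fun h => hu0 (by rw [h, sub_self])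
  have c1 := Cfsg.Agent.Helper39.sl2_isConj_compSL hodd' g ((nonScalar_iff _).mp hg)
    (by rw [htrg]; exact hne4)
  have c2 := Cfsg.Agent.Helper39.sl2_isConj_compSL hodd' y ((nonScalar_iff _).mp hyns)
    (by rw [htry]; exact hne4)
  rw [htrg] at c1
  rw [htry] at c2
  have c3 : IsConj g y := c1.trans c2.symm
  rw [isConj_iff] at c3
  obtain ⟨h, hh⟩ := c3
  exact ⟨h, by rw [hh]; exact hymem⟩

end finite

end Cfsg.Agent.Helper40
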