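import Mathlib
import Cfsg.Agent.Helper40.SL2Nonsplit

/-!
# Sylow subgroups of `SL₂(q)` for odd primes (helper40)

A Sylow `ℓ`-subgroup `P` (`ℓ` odd, not dividing `q`) lies in the torus `C(z)` of a non-trivial
element `z` of its centre; `C(P) = C(z)` and `N(P) = N(C(z))`.
-/

set_option autoImplicit false

namespace Cfsg.Agent.Helper40

open Matrix Cfsg.Agent.Helper42.SL2

section

variable {F : Type*} [Field F]

theorem centralizer_eq_of_le (z : Matrix.SpecialLinearGroup (Fin 2) F) (hz : NonScalar z.1)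
    (P : Subgroup (Matrix.SpecialLinearGroup (Fin 2) F)) (hzP : z ∈ P)
    (hP : P ≤ Subgroup.centralizer ({z} : Set (Matrix.SpecialLinearGroup (Fin 2) F))) :
    Subgroup.centralizer (P : Set (Matrix.SpecialLinearGroup (Fin 2) F)) =
      Subgroup.centralizer ({z} : Set (Matrix.SpecialLinearGroup (Fin 2) F)) := by
  ext h
  constructor
  · intro hh
    rw [Subgroup.mem_centralizer_iff] at hh ⊢
    rintro x rfl
    exact hh x hzP
  · intro hh
    rw [Subgroup.mem_centralizer_iff]
    intro x hx
    exact centralizer_comm z hz x h (hP hx) hh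

theorem normalizer_eq_of_le (h2 : (2 : F) ≠ 0) (z : Matrix.SpecialLinearGroup (Fin 2) F)
    (hz : NonScalar z.1) (ht : tr2 z ^ 2 ≠ 4)
    (P : Subgroup (Matrix.SpecialLinearGroup (Fin 2) F)) (hzP : z ∈ P)
    (hP : P ≤ Subgroup.centralizer ({z} : Set (Matrix.SpecialLinearGroup (Fin 2) F))) :
    Subgroup.normalizer (P : Set (Matrix.SpecialLinearGroup (Fin 2) F)) =
      Subgroup.normalizer ((Subgroup.centralizer ({z} : Set (Matrix.SpecialLinearGroup (Fin 2) F)) :
        Subgroup (Matrix.SpecialLinearGroup (Fin 2) F)) : Set (Matrix.SpecialLinearGroup (Fin 2) F)) := by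
  have key : ∀ g : Matrix.SpecialLinearGroup (Fin 2) F,
      (g ∈ Subgroup.centralizer ({z} : Set (Matrix.SpecialLinearGroup (Fin 2) F)) ∨ Inverts g z) →
      ∀ p ∈ P, g * p * g⁻¹ ∈ P := by
    intro g hg p hp
    rcases hg with hg | hg
    · have : g * p * g⁻¹ = p := by
        rw [centralizer_comm z hz g p hg (hP hp), mul_inv_cancel_right]
      rw [this]; exact hp
    · rw [inverts_conj g z p hz hg (hP hp)]
      exact P.inv_mem hp
  ext g
  rw [mem_normalizer_centralizer_iff h2 z g hz ht]
  constructor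
  · intro hg
    rw [Subgroup.mem_set_normalizer_iff] at hg
    exact conj_mem_centralizer h2 z g hz ht (hP ((hg z).mp hzP))
  · intro hg
    rw [Subgroup.mem_set_normalizer_iff]
    intro p
    constructor
    · exact key g hg p
    · intro hp
      have hg' : g⁻¹ ∈ Subgroup.centralizer ({z} : Set (Matrix.SpecialLinearGroup (Fin 2) F)) ∨
          Inverts g⁻¹ z := by
        rcases hg with hg | hg
        · left; exact Subgroup.inv_mem _ hg
        · right; exact hg.inv
      have := key g⁻¹ hg' _ hp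
      rw [inv_inv] at this
      have h3 : g⁻¹ * (g * p * g⁻¹) * g = p := by group
      rw [h3] at this
      exact this

end

section finite

variable {F : Type*} [Field F] [Fintype F]

/-- A Sylow `ℓ`-subgroup of `SL₂(q)`, `ℓ` odd and prime to `q`, lies in the centraliser of a
non-scalar element `z` of itself with `tr(z)² ≠ 4`. -/
theorem exists_central_elt (hodd : Odd (Fintype.card F)) (ℓ : ℕ) [Fact ℓ.Prime] (hℓ : ℓ ≠ 2)
    (P : Sylow ℓ (Matrix.SpecialLinearGroup (Fin 2) F))
    (hdvd : ℓ ∣ Nat.card (Matrix.SpecialLinearGroup (Fin 2) F)) (hℓq : ¬ ℓ ∣ Fintype.card F) :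
    ∃ z : Matrix.SpecialLinearGroup (Fin 2) F, z ∈ (P : Subgroup (Matrix.SpecialLinearGroup (Fin 2) F)) ∧
      NonScalar z.1 ∧ tr2 z ^ 2 ≠ 4 ∧
      (P : Subgroup (Matrix.SpecialLinearGroup (Fin 2) F)) ≤
        Subgroup.centralizer ({z} : Set (Matrix.SpecialLinearGroup (Fin 2) F)) := by
  classical
  have h2 := two_ne_zero_of_odd hodd
  have hprime : ℓ.Prime := Fact.out
  have hcardP := P.card_eq_multiplicity
  have hpos : 0 < (Nat.card (Matrix.SpecialLinearGroup (Fin 2) F)).factorization ℓ :=
    hprime.factorization_pos_of_dvd Nat.card_pos.ne' hdvd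
  have hdvdP : ℓ ∣ Nat.card (P : Subgroup (Matrix.SpecialLinearGroup (Fin 2) F)) := by
    rw [hcardP]
    exact dvd_pow_self ℓ hpos.ne'
  have : Nontrivial (P : Subgroup (Matrix.SpecialLinearGroup (Fin 2) F)) := by
    rw [← Finite.one_lt_card_iff_nontrivial]
    have := Nat.le_of_dvd Nat.card_pos hdvdP
    have := hprime.two_le
    omega
  have := IsPGroup.center_nontrivial P.isPGroup'
  obtain ⟨c, hc⟩ := exists_ne (1 : Subgroup.center (P : Subgroup (Matrix.SpecialLinearGroup (Fin 2) F)))
  set z : Matrix.SpecialLinearGroup (Fin 2) F := ((c : (P : Subgroup (Matrix.SpecialLinearGroup (Fin 2) F))) :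
    Matrix.SpecialLinearGroup (Fin 2) F) with hzdef
  have hzP : z ∈ (P : Subgroup (Matrix.SpecialLinearGroup (Fin 2) F)) := (c : P).2
  have hz1 : z.1 ≠ 1 := by
    intro h
    apply hc
    apply Subtype.ext
    apply Subtype.ext
    apply Subtype.ext
    exact h
  have hzm1 : z.1 ≠ -1 := by
    intro h
    obtain ⟨k, hk⟩ := P.isPGroup' (c : P)
    have h3 : (z ^ (ℓ ^ k)).1 = 1 := by
      have := congrArg (fun x : (P : Subgroup (Matrix.SpecialLinearGroup (Fin 2) F)) =>
        ((x : Matrix.SpecialLinearGroup (Fin 2) F)).1) hk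
      simpa using this
    rw [Matrix.SpecialLinearGroup.coe_pow, h] at h3
    have hoddl : Odd (ℓ ^ k) := (hprime.odd_of_ne_two hℓ).pow
    rw [hoddl.neg_one_pow] at h3
    have := congrFun (congrFun h3 0) 0
    simp at this
    apply h2
    linear_combination -this
  have hz := nonScalar_of_ne z hz1 hzm1
  have hPle : (P : Subgroup (Matrix.SpecialLinearGroup (Fin 2) F)) ≤
      Subgroup.centralizer ({z} : Set (Matrix.SpecialLinearGroup (Fin 2) F)) := by
    intro p hp
    rw [Subgroup.mem_centralizer_iff]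
    rintro x rfl
    have := (Subgroup.mem_center_iff.mp c.2) ⟨p, hp⟩
    have h4 := congrArg (fun x : (P : Subgroup (Matrix.SpecialLinearGroup (Fin 2) F)) =>
      (x : Matrix.SpecialLinearGroup (Fin 2) F)) this
    exact h4.symm
  refine ⟨z, hzP, hz, ?_, hPle⟩
  intro ht
  have hcard : Nat.card (Subgroup.centralizer ({z} : Set (Matrix.SpecialLinearGroup (Fin 2) F))) =
      2 * Fintype.card F := by
    refine (card_centralizer_odd h2 z hz (tr2 z / 2) ?_).1 ?_
    · unfold tr2; field_simp
    · field_simp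
      linear_combination ht
  have h5 : ℓ ∣ 2 * Fintype.card F := by
    rw [← hcard]
    exact hdvdP.trans (Subgroup.card_dvd_of_le hPle)
  rcases (Nat.Prime.dvd_mul hprime).mp h5 with h6 | h6
  · exact hℓ ((Nat.prime_dvd_prime_iff_eq hprime Nat.prime_two).mp h6)
  · exact hℓq h6

end finite

end Cfsg.Agent.Helper40
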