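import Mathlib
import Cfsg.Agent.Helper40.SL2Sylow

/-!
# Sylow 2-subgroups of `SL₂(q)`, `q` odd (helper40)

A Sylow 2-subgroup `S` contains an element `y` of trace zero such that every element of `S`
centralises or inverts `y`; `C(S)` is the centre; `N(S) ∩ N(C(y)) = S`; `N(S) = S` when
`16 ∣ |S|`, and `|N(S)| = 3 |S|` when `|S| = 8`.
-/

set_option autoImplicit false

namespace Cfsg.Agent.Helper40

open Matrix Cfsg.Agent.Helper42.SL2

section basic

variable {F : Type*} [Field F]

theorem coe_inv_of_tr2_eq_zero (y : Matrix.SpecialLinearGroup (Fin 2) F) (hy : tr2 y = 0) :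
    (y⁻¹).1 = -y.1 := by
  have := sl2_add_inv y
  rw [hy, zero_smul] at this
  exact eq_neg_of_add_eq_zero_right this

theorem sq_of_tr2_eq_zero (y : Matrix.SpecialLinearGroup (Fin 2) F) (hy : tr2 y = 0) :
    y.1 * y.1 = -1 := by
  rw [sl2_sq, hy, zero_smul, zero_sub]

theorem inverts_iff_of_tr2_eq_zero (x y : Matrix.SpecialLinearGroup (Fin 2) F) (hy : tr2 y = 0) :
    Inverts x y ↔ x.1 * y.1 = -(y.1 * x.1) := by
  unfold Inverts
  rw [mul_inv_eq_iff_eq_mul]
  constructor
  · intro h
    have := congrArg Subtype.val h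
    rw [Matrix.SpecialLinearGroup.coe_mul, Matrix.SpecialLinearGroup.coe_mul,
      coe_inv_of_tr2_eq_zero y hy] at this
    rw [this, neg_mul]
  · intro h
    apply Subtype.ext
    rw [Matrix.SpecialLinearGroup.coe_mul, Matrix.SpecialLinearGroup.coe_mul,
      coe_inv_of_tr2_eq_zero y hy, h, neg_mul]

theorem nonScalar_of_tr2_eq_zero (h2 : (2 : F) ≠ 0) (y : Matrix.SpecialLinearGroup (Fin 2) F)
    (hy : tr2 y = 0) : NonScalar y.1 := by
  apply nonScalar_of_ne
  · intro h
    unfold tr2 at hy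
    rw [h] at hy
    simp at hy
    exact h2 (by linear_combination hy)
  · intro h
    unfold tr2 at hy
    rw [h] at hy
    simp at hy
    exact h2 (by linear_combination -hy)

theorem tr2_sq_ne_four_of_eq_zero (h2 : (2 : F) ≠ 0) (y : Matrix.SpecialLinearGroup (Fin 2) F)
    (hy : tr2 y = 0) : tr2 y ^ 2 ≠ 4 := by
  rw [hy]
  intro h
  have : (2 : F) * 2 = 0 := by linear_combination -h
  rcases mul_eq_zero.mp this with h | h <;> exact h2 h

/-- Elements of `SL₂` that are `±1` as matrices are central. -/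
theorem mem_center_of_coe (h : Matrix.SpecialLinearGroup (Fin 2) F) (hh : h.1 = 1 ∨ h.1 = -1) :
    h ∈ Subgroup.center (Matrix.SpecialLinearGroup (Fin 2) F) := by
  rw [Subgroup.mem_center_iff]
  intro g
  apply Subtype.ext
  rw [Matrix.SpecialLinearGroup.coe_mul, Matrix.SpecialLinearGroup.coe_mul]
  rcases hh with hh | hh <;> rw [hh] <;> simp

/-- Conjugation transports centralisers. -/
theorem conj_mem_centralizer_of {G : Type*} [Group G] {x a b h : G}
    (hx : x ∈ Subgroup.centralizer ({a} : Set G)) (hab : h * a * h⁻¹ = b) :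
    h * x * h⁻¹ ∈ Subgroup.centralizer ({b} : Set G) := by
  subst hab
  rw [Subgroup.mem_centralizer_iff] at hx ⊢
  rintro c rfl
  have := hx a rfl
  calc h * a * h⁻¹ * (h * x * h⁻¹) = h * (a * x) * h⁻¹ := by group
    _ = h * (x * a) * h⁻¹ := by rw [this]
    _ = h * x * h⁻¹ * (h * a * h⁻¹) := by group

end basic

section finite

variable {F : Type*} [Field F] [Fintype F]

theorem card_SL2_factored : Nat.card (Matrix.SpecialLinearGroup (Fin 2) F) =
    Fintype.card F * ((Fintype.card F + 1) * (Fintype.card F - 1)) := by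
  have hq1 : 1 < Fintype.card F := Fintype.one_lt_card
  rw [Cfsg.Agent.Helper42.SL2.card_SL2]
  congr 1
  have h1 : Fintype.card F ^ 2 = (Fintype.card F + 1) * (Fintype.card F - 1) + 1 := by
    obtain ⟨k, hk⟩ : ∃ k, Fintype.card F = k + 1 := ⟨Fintype.card F - 1, by omega⟩
    rw [hk]
    simp only [Nat.add_sub_cancel]
    ring
  omega

/-- The centraliser of a non-scalar element has even index. -/
theorem even_index_centralizer (hodd : Odd (Fintype.card F))
    (h : Matrix.SpecialLinearGroup (Fin 2) F) (hh : NonScalar h.1) :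
    2 ∣ (Subgroup.centralizer ({h} : Set (Matrix.SpecialLinearGroup (Fin 2) F))).index := by
  have h2 := two_ne_zero_of_odd hodd
  have hq1 : 1 < Fintype.card F := Fintype.one_lt_card
  have hmul := Subgroup.card_mul_index
    (Subgroup.centralizer ({h} : Set (Matrix.SpecialLinearGroup (Fin 2) F)))
  rw [card_SL2_factored] at hmul
  obtain ⟨m, hm⟩ := hodd
  have key := card_centralizer_odd h2 h hh (tr2 h / 2) (by unfold tr2; field_simp)
  by_cases h1 : (tr2 h / 2) ^ 2 = 1
  · rw [key.1 h1, hm] at hmul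
    simp only [Nat.add_sub_cancel] at hmul
    have h3 : (2 * m + 1) * (2 * (Subgroup.centralizer
        ({h} : Set (Matrix.SpecialLinearGroup (Fin 2) F))).index) =
        (2 * m + 1) * (2 * (2 * (m * (m + 1)))) := by
      rw [show (2 * m + 1) * (2 * (Subgroup.centralizer
        ({h} : Set (Matrix.SpecialLinearGroup (Fin 2) F))).index) =
        2 * (2 * m + 1) * (Subgroup.centralizer
        ({h} : Set (Matrix.SpecialLinearGroup (Fin 2) F))).index by ring, hmul]
      ring
    have h4 := Nat.eq_of_mul_eq_mul_left (by omega) h3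
    exact ⟨m * (m + 1), by omega⟩
  · by_cases hsq : IsSquare ((tr2 h / 2) ^ 2 - 1)
    · obtain ⟨d, hd⟩ := hsq
      have hd0 : d ≠ 0 := by
        rintro rfl
        apply h1
        linear_combination hd
      rw [key.2.1 d hd0 (by rw [hd]; ring), hm] at hmul
      simp only [Nat.add_sub_cancel] at hmul
      have h3 : (2 * m) * ((Subgroup.centralizer
          ({h} : Set (Matrix.SpecialLinearGroup (Fin 2) F))).index) =
          (2 * m) * (2 * ((2 * m + 1) * (m + 1))) := by
        rw [hmul]; ring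
      have h4 := Nat.eq_of_mul_eq_mul_left (by omega) h3
      exact ⟨_, h4⟩
    · rw [key.2.2 hsq, hm] at hmul
      simp only [Nat.add_sub_cancel] at hmul
      have h3 : (2 * m + 1 + 1) * ((Subgroup.centralizer
          ({h} : Set (Matrix.SpecialLinearGroup (Fin 2) F))).index) =
          (2 * m + 1 + 1) * (2 * ((2 * m + 1) * m)) := by
        rw [hmul]; ring
      have h4 := Nat.eq_of_mul_eq_mul_left (by omega) h3
      exact ⟨_, h4⟩

/-- Elements centralising a Sylow 2-subgroup are `±1`. -/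
theorem coe_eq_of_mem_centralizer_sylow (hodd : Odd (Fintype.card F))
    (S : Sylow 2 (Matrix.SpecialLinearGroup (Fin 2) F)) (h : Matrix.SpecialLinearGroup (Fin 2) F)
    (hh : h ∈ Subgroup.centralizer ((S : Subgroup (Matrix.SpecialLinearGroup (Fin 2) F)) :
      Set (Matrix.SpecialLinearGroup (Fin 2) F))) : h.1 = 1 ∨ h.1 = -1 := by
  by_contra hne
  push Not at hne
  have hns := nonScalar_of_ne h hne.1 hne.2
  have hle : (S : Subgroup (Matrix.SpecialLinearGroup (Fin 2) F)) ≤
      Subgroup.centralizer ({h} : Set (Matrix.SpecialLinearGroup (Fin 2) F)) := by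
    intro s hs
    rw [Subgroup.mem_centralizer_iff]
    rintro x rfl
    exact ((Subgroup.mem_centralizer_iff.mp hh) s hs).symm
  have := Subgroup.index_dvd_of_le hle
  exact S.not_dvd_index ((even_index_centralizer hodd h hns).trans this)

/-- A 2-element normalising a Sylow 2-subgroup lies in it. -/
theorem mem_sylow_of_pow_eq_one {G : Type*} [Group G] (S : Sylow 2 G) (g : G)
    (hg : g ∈ Subgroup.normalizer ((S : Subgroup G) : Set G)) (k : ℕ) (hk : g ^ 2 ^ k = 1) :
    g ∈ (S : Subgroup G) := by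
  have hP : IsPGroup 2 (Subgroup.zpowers g) := by
    rintro ⟨x, hx⟩
    obtain ⟨n, rfl⟩ := Subgroup.mem_zpowers_iff.mp hx
    refine ⟨k, Subtype.ext ?_⟩
    simp only [Subgroup.coe_pow, Subgroup.coe_one]
    rw [← zpow_natCast, ← _root_.zpow_mul, mul_comm, _root_.zpow_mul, zpow_natCast, hk, _root_.one_zpow]
  have := hP.inf_normalizer_sylow S
  exact (this.le ⟨Subgroup.mem_zpowers g, hg⟩).2

/-- If `d` is a power of two dividing the group order, it divides the order of a Sylow
2-subgroup. -/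
theorem dvd_card_sylow_two {G : Type*} [Group G] [Finite G] (S : Sylow 2 G) (k : ℕ)
    (h : 2 ^ k ∣ Nat.card G) : 2 ^ k ∣ Nat.card (S : Subgroup G) := by
  have hmul := Subgroup.card_mul_index (S : Subgroup G)
  rw [← hmul] at h
  have hodd : ¬ 2 ∣ (S : Subgroup G).index := S.not_dvd_index
  have hcop : Nat.Coprime (2 ^ k) (S : Subgroup G).index :=
    Nat.Coprime.pow_left k ((Nat.Prime.coprime_iff_not_dvd Nat.prime_two).mpr hodd)
  exact hcop.dvd_of_dvd_mul_right h

theorem eight_dvd_card_sylow (hodd : Odd (Fintype.card F))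
    (S : Sylow 2 (Matrix.SpecialLinearGroup (Fin 2) F)) :
    8 ∣ Nat.card (S : Subgroup (Matrix.SpecialLinearGroup (Fin 2) F)) := by
  apply dvd_card_sylow_two S 3
  rw [card_SL2_factored]
  obtain ⟨m, hm⟩ := hodd
  rw [hm]
  simp only [Nat.add_sub_cancel]
  obtain ⟨j, hj⟩ := Nat.even_mul_succ_self m
  refine ⟨(2 * m + 1) * j, ?_⟩
  have : (2 * m + 1 + 1) * (2 * m) = 4 * (m * (m + 1)) := by ring
  rw [this, hj]
  ring

/-- A Sylow 2-subgroup contains an element `y` of trace zero which every element of the subgroup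
centralises or inverts (and some element inverts). -/
theorem exists_trace_zero_mem_sylow (hodd : Odd (Fintype.card F))
    (S : Sylow 2 (Matrix.SpecialLinearGroup (Fin 2) F)) :
    ∃ y ∈ (S : Subgroup (Matrix.SpecialLinearGroup (Fin 2) F)), tr2 y = 0 ∧
      (∃ w ∈ (S : Subgroup (Matrix.SpecialLinearGroup (Fin 2) F)), Inverts w y) ∧
      ∀ s ∈ (S : Subgroup (Matrix.SpecialLinearGroup (Fin 2) F)),
        s ∈ Subgroup.centralizer ({y} : Set (Matrix.SpecialLinearGroup (Fin 2) F)) ∨ Inverts s y := by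
  classical
  have h2 := two_ne_zero_of_odd hodd
  have hcard8 := eight_dvd_card_sylow hodd S
  set Sg : Subgroup (Matrix.SpecialLinearGroup (Fin 2) F) :=
    (S : Subgroup (Matrix.SpecialLinearGroup (Fin 2) F)) with hSg
  have hcenter : ∀ c : Sg, c ∈ Subgroup.center Sg → c.1.1 = 1 ∨ c.1.1 = -1 := by
    intro c hc
    apply coe_eq_of_mem_centralizer_sylow hodd S
    rw [Subgroup.mem_centralizer_iff]
    intro s hs
    have := Subgroup.mem_center_iff.mp hc ⟨s, hs⟩
    exact congrArg Subtype.val this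
  have hnt : Nontrivial (Sg ⧸ Subgroup.center Sg) := by
    by_contra hcon
    rw [not_nontrivial_iff_subsingleton] at hcon
    have htop : Subgroup.center Sg = ⊤ := QuotientGroup.subgroup_eq_top_of_subsingleton _ hcon
    have hall : ∀ c : Sg, c.1.1 = 1 ∨ c.1.1 = -1 := fun c =>
      hcenter c (by rw [htop]; exact Subgroup.mem_top c)
    have hsub : (Sg : Set (Matrix.SpecialLinearGroup (Fin 2) F)) ⊆ {1, negOne} := by
      intro s hs
      rcases hall ⟨s, hs⟩ with h | h
      · left; exact Subtype.ext h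
      · right; exact Subtype.ext h
    have h3 := Set.ncard_le_ncard hsub (Set.toFinite _)
    have h4 : ({1, negOne} : Set (Matrix.SpecialLinearGroup (Fin 2) F)).ncard ≤ 2 :=
      (Set.ncard_insert_le _ _).trans (by rw [Set.ncard_singleton])
    have h5 : Nat.card Sg = (Sg : Set (Matrix.SpecialLinearGroup (Fin 2) F)).ncard :=
      Nat.card_coe_set_eq _
    have h6 := Nat.le_of_dvd Nat.card_pos hcard8
    omega
  have hp : IsPGroup 2 (Sg ⧸ Subgroup.center Sg) := S.isPGroup'.to_quotient _
  have := hp.center_nontrivial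
  obtain ⟨c, hc⟩ := exists_ne (1 : Subgroup.center (Sg ⧸ Subgroup.center Sg))
  obtain ⟨y, hy⟩ := QuotientGroup.mk_surjective (c : Sg ⧸ Subgroup.center Sg)
  have hynot : y ∉ Subgroup.center Sg := by
    intro hmem
    apply hc
    apply Subtype.ext
    rw [← hy]
    exact (QuotientGroup.eq_one_iff y).mpr hmem
  have hcomm : ∀ s : Sg, s.1.1 * y.1.1 = y.1.1 * s.1.1 ∨ s.1.1 * y.1.1 = -(y.1.1 * s.1.1) := by
    intro s
    have h1 := Subgroup.mem_center_iff.mp c.2 (QuotientGroup.mk s)
    rw [← hy, ← QuotientGroup.mk_mul, ← QuotientGroup.mk_mul, QuotientGroup.eq] at h1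
    rcases hcenter _ h1 with h3 | h3
    · left
      have h4 : (s * y)⁻¹ * (y * s) = 1 := Subtype.ext (Subtype.ext h3)
      have h5 : s * y = y * s := inv_mul_eq_one.mp h4
      have := congrArg (fun x : Sg => x.1.1) h5
      simpa using this
    · right
      have h4 : (((s * y)⁻¹ * (y * s) : Sg) : Matrix.SpecialLinearGroup (Fin 2) F) = negOne :=
        Subtype.ext h3
      have h5 : (y.1 * s.1) = (s.1 * y.1) * negOne := by
        rw [← h4]
        simp only [Subgroup.coe_mul, Subgroup.coe_inv]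
        group
      have := congrArg Subtype.val h5
      rw [Matrix.SpecialLinearGroup.coe_mul, Matrix.SpecialLinearGroup.coe_mul,
        Matrix.SpecialLinearGroup.coe_mul, negOne_coe] at this
      rw [this]
      simp
  have hex : ∃ s : Sg, s.1.1 * y.1.1 = -(y.1.1 * s.1.1) := by
    by_contra hno
    push Not at hno
    apply hynot
    rw [Subgroup.mem_center_iff]
    intro s
    rcases hcomm s with h | h
    · apply Subtype.ext
      apply Subtype.ext
      simpa using h
    · exact absurd h (hno s)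
  obtain ⟨s0, hs0⟩ := hex
  have htr : tr2 y.1 = 0 := anticomm_trace h2 y.1 s0.1 hs0
  refine ⟨y.1, y.2, htr, ⟨s0.1, s0.2, (inverts_iff_of_tr2_eq_zero _ _ htr).mpr hs0⟩, ?_⟩
  intro s hs
  rcases hcomm ⟨s, hs⟩ with h | h
  · left; exact (mem_centralizer_singleton y.1 s).mpr h
  · right; exact (inverts_iff_of_tr2_eq_zero _ _ htr).mpr h

/-- `N(S) ∩ N(C(y)) ≤ S`. -/
theorem mem_sylow_of_mem_normalizer_torus (hodd : Odd (Fintype.card F))
    (S : Sylow 2 (Matrix.SpecialLinearGroup (Fin 2) F))
    (y w : Matrix.SpecialLinearGroup (Fin 2) F) (hy : tr2 y = 0)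
    (hwS : w ∈ (S : Subgroup (Matrix.SpecialLinearGroup (Fin 2) F))) (hw : Inverts w y)
    (g : Matrix.SpecialLinearGroup (Fin 2) F)
    (hg : g ∈ Subgroup.normalizer ((S : Subgroup (Matrix.SpecialLinearGroup (Fin 2) F)) :
      Set (Matrix.SpecialLinearGroup (Fin 2) F)))
    (hgy : g ∈ Subgroup.centralizer ({y} : Set (Matrix.SpecialLinearGroup (Fin 2) F)) ∨
      Inverts g y) :
    g ∈ (S : Subgroup (Matrix.SpecialLinearGroup (Fin 2) F)) := by
  have h2 := two_ne_zero_of_odd hodd
  have hns := nonScalar_of_tr2_eq_zero h2 y hy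
  rcases hgy with hgy | hgy
  · have h1 : g * w * g⁻¹ ∈ (S : Subgroup (Matrix.SpecialLinearGroup (Fin 2) F)) :=
      (Subgroup.mem_set_normalizer_iff.mp hg w).mp hwS
    have h3 : w * g⁻¹ * w⁻¹ = g := by
      have := inverts_conj w y g⁻¹ hns hw (Subgroup.inv_mem _ hgy)
      rw [this, inv_inv]
    have h4 : g * g ∈ (S : Subgroup (Matrix.SpecialLinearGroup (Fin 2) F)) := by
      have : g * g = (g * w * g⁻¹) * w⁻¹ := by
        calc g * g = g * (w * g⁻¹ * w⁻¹) := by rw [h3]
          _ = (g * w * g⁻¹) * w⁻¹ := by group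
      rw [this]
      exact Subgroup.mul_mem _ h1 (Subgroup.inv_mem _ hwS)
    obtain ⟨k, hk⟩ := S.isPGroup' ⟨g * g, h4⟩
    have hk' : (g * g) ^ 2 ^ k = 1 := by
      have := congrArg Subtype.val hk
      simpa using this
    apply mem_sylow_of_pow_eq_one S g hg (k + 1)
    rw [pow_succ, pow_mul', pow_two]
    exact hk'
  · have h1 := inverts_sq g y hns hgy
    apply mem_sylow_of_pow_eq_one S g hg 2
    apply Subtype.ext
    have : g ^ 2 ^ 2 = (g * g) * (g * g) := by
      rw [show (2 : ℕ) ^ 2 = 2 + 2 from rfl, pow_add, pow_two]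
    rw [this, Matrix.SpecialLinearGroup.coe_mul, Matrix.SpecialLinearGroup.coe_mul, h1]
    simp

/-- A subgroup normalising the torus `C(y)` and not contained in it meets it in a subgroup of
index two. -/
theorem card_eq_two_mul_of_inverts (h2 : (2 : F) ≠ 0)
    (Q : Subgroup (Matrix.SpecialLinearGroup (Fin 2) F))
    (y w : Matrix.SpecialLinearGroup (Fin 2) F) (hy : tr2 y = 0)
    (hwQ : w ∈ Q) (hw : Inverts w y)
    (hQ : ∀ s ∈ Q, s ∈ Subgroup.centralizer ({y} : Set (Matrix.SpecialLinearGroup (Fin 2) F)) ∨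
      Inverts s y) :
    Nat.card Q = 2 * Nat.card ((Subgroup.centralizer
      ({y} : Set (Matrix.SpecialLinearGroup (Fin 2) F))).subgroupOf Q) := by
  have hns := nonScalar_of_tr2_eq_zero h2 y hy
  apply card_of_cover _ (⟨w, hwQ⟩ : Q)
  · rw [Subgroup.mem_subgroupOf]
    exact fun h => not_inverts_of_mem h2 y w hns h hw
  · intro g
    rcases hQ g.1 g.2 with h | h
    · left; exact Subgroup.mem_subgroupOf.mpr h
    · right
      rw [Subgroup.mem_subgroupOf]
      exact inv_mul_mem_centralizer hw h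

/-- If `16 ∣ |S|`, a Sylow 2-subgroup of `SL₂(q)` is self-normalising. -/
theorem normalizer_sylow_eq_self (hodd : Odd (Fintype.card F))
    (S : Sylow 2 (Matrix.SpecialLinearGroup (Fin 2) F))
    (h16 : 16 ∣ Nat.card (S : Subgroup (Matrix.SpecialLinearGroup (Fin 2) F))) :
    Subgroup.normalizer ((S : Subgroup (Matrix.SpecialLinearGroup (Fin 2) F)) :
      Set (Matrix.SpecialLinearGroup (Fin 2) F)) =
      (S : Subgroup (Matrix.SpecialLinearGroup (Fin 2) F)) := by
  classical
  have h2 := two_ne_zero_of_odd hodd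
  have hq1 : 1 < Fintype.card F := Fintype.one_lt_card
  obtain ⟨y, hyS, hy, ⟨w, hwS, hw⟩, hS⟩ := exists_trace_zero_mem_sylow hodd S
  have hns := nonScalar_of_tr2_eq_zero h2 y hy
  have ht := tr2_sq_ne_four_of_eq_zero h2 y hy
  have hcyc := isCyclic_centralizer hodd y hns ht
  have hcard := card_eq_two_mul_of_inverts h2 _ y w hy hwS hw hS
  set Sg : Subgroup (Matrix.SpecialLinearGroup (Fin 2) F) :=
    (S : Subgroup (Matrix.SpecialLinearGroup (Fin 2) F)) with hSg
  set T := Subgroup.centralizer ({y} : Set (Matrix.SpecialLinearGroup (Fin 2) F)) with hT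
  have hTcard : Nat.card T = Fintype.card F - 1 ∨ Nat.card T = Fintype.card F + 1 := by
    by_cases hsq : IsSquare (tr2 y ^ 2 - 4)
    · left
      obtain ⟨e, he⟩ := hsq
      have he0 : e ≠ 0 := by
        rintro rfl
        apply ht
        linear_combination he
      exact card_centralizer_split hodd y hns e he0 (by rw [he]; ring)
    · right
      exact card_centralizer_nonsplit hodd y hns hsq
  -- an element of `S ∩ T` of order at least 8
  let f : T.subgroupOf Sg →* T := Sg.subtype.subgroupComap T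
  have hf : Function.Injective f := by
    intro a b hab
    apply Subtype.ext
    apply Subtype.ext
    exact congrArg (fun t : T => (t : Matrix.SpecialLinearGroup (Fin 2) F)) hab
  have hcycK : IsCyclic (T.subgroupOf Sg) := isCyclic_of_injective f hf
  have : Fintype (T.subgroupOf Sg) := Fintype.ofFinite _
  have hle := IsCyclic.card_pow_eq_one_le (α := T.subgroupOf Sg) (n := 4) (by norm_num)
  have hexc : ∃ c : T.subgroupOf Sg, c ^ 4 ≠ 1 := by
    by_contra hno
    push Not at hno
    have hfil : (Finset.univ.filter (fun a : T.subgroupOf Sg => a ^ 4 = 1)) = Finset.univ :=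
      Finset.filter_true_of_mem (fun a _ => hno a)
    rw [hfil, Finset.card_univ, ← Nat.card_eq_fintype_card] at hle
    obtain ⟨j, hj⟩ := h16
    have := Nat.card_pos (α := Sg)
    omega
  obtain ⟨c, hc⟩ := hexc
  set c' : Matrix.SpecialLinearGroup (Fin 2) F := c.1.1 with hc'
  have hc'S : c' ∈ Sg := c.1.2
  have hc'T : c' ∈ T := Subgroup.mem_subgroupOf.mp c.2
  have hc'4 : c' ^ 4 ≠ 1 := by
    intro h
    apply hc
    apply Subtype.ext
    apply Subtype.ext
    simpa using h
  have hc'ns : NonScalar c'.1 := by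
    apply nonScalar_of_ne
    · intro h
      apply hc'4
      have : c' = 1 := Subtype.ext h
      rw [this, one_pow]
    · intro h
      apply hc'4
      apply Subtype.ext
      rw [Matrix.SpecialLinearGroup.coe_pow, h, show (4 : ℕ) = 2 * 2 from rfl, pow_mul, neg_one_sq,
        one_pow]
      rfl
  have hCeq : Subgroup.centralizer ({c'} : Set (Matrix.SpecialLinearGroup (Fin 2) F)) = T :=
    centralizer_eq_of_mem y c' hns hc'T hc'ns
  have htc : tr2 c' ^ 2 ≠ 4 := by
    intro h4
    have := (card_centralizer_odd h2 c' hc'ns (tr2 c' / 2) (by unfold tr2; field_simp)).1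
      (by field_simp; linear_combination h4)
    rw [hCeq] at this
    omega
  apply le_antisymm _ Subgroup.le_normalizer
  intro g hg
  have hx : g * c' * g⁻¹ ∈ Sg := (Subgroup.mem_set_normalizer_iff.mp hg c').mp hc'S
  have hxT : g * c' * g⁻¹ ∈ T := by
    rcases hS _ hx with h | h
    · exact h
    · exfalso
      have h1 := inverts_sq _ y hns h
      apply hc'4
      have h4 : (g * c' * g⁻¹) ^ 4 = 1 := by
        apply Subtype.ext
        rw [show (4 : ℕ) = 2 + 2 from rfl, pow_add, pow_two, Matrix.SpecialLinearGroup.coe_mul,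
          Matrix.SpecialLinearGroup.coe_mul, h1]
        simp
      rw [conj_pow] at h4
      exact conj_eq_one_iff.mp h4
  rw [← hCeq] at hxT
  rcases conj_mem_centralizer h2 c' g hc'ns htc hxT with h | h
  · rw [hCeq] at h
    exact mem_sylow_of_mem_normalizer_torus hodd S y w hy hwS hw g hg (Or.inl h)
  · have h5 := inverts_mem_normalizer c' g hc'ns h
    rw [hCeq] at h5
    exact mem_sylow_of_mem_normalizer_torus hodd S y w hy hwS hw g hg
      ((mem_normalizer_centralizer_iff h2 y g hns ht).mp h5)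

end finite

section cycle

variable {F : Type*} [Field F]

theorem det_one_add_of_tr2_eq_zero (y : Matrix.SpecialLinearGroup (Fin 2) F) (hy : tr2 y = 0) :
    (1 + y.1).det = 2 := by
  rw [Matrix.det_fin_two]
  have hd := det_eq y
  unfold tr2 at hy
  simp only [Matrix.add_apply, Matrix.one_apply_eq, Matrix.one_apply_ne, ne_eq, Fin.zero_eq_one_iff,
    Fin.one_eq_zero_iff, OfNat.ofNat_ne_one, not_false_eq_true, zero_add]
  linear_combination hd + hy

/-- Two anticommuting elements `y`, `w` of trace zero: an element of order 3 (mod centre)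
permuting `y → w → yw` cyclically. -/
theorem exists_conj_cycle (h2 : (2 : F) ≠ 0) (y w : Matrix.SpecialLinearGroup (Fin 2) F)
    (hy : tr2 y = 0) (hw : tr2 w = 0) (hwy : w.1 * y.1 = -(y.1 * w.1)) :
    ∃ g : Matrix.SpecialLinearGroup (Fin 2) F, g * y * g⁻¹ = w ∧ g * w * g⁻¹ = y * w := by
  have hYY := sq_of_tr2_eq_zero y hy
  have hWW := sq_of_tr2_eq_zero w hw
  have hdetM : ((1 / 2 : F) • ((1 + y.1) * (1 + w.1))).det = 1 := by
    rw [Matrix.det_smul, Matrix.det_mul, det_one_add_of_tr2_eq_zero y hy,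
      det_one_add_of_tr2_eq_zero w hw, Fintype.card_fin]
    field_simp
  have e1 : y.1 * w.1 * y.1 = w.1 := by
    rw [Matrix.mul_assoc, hwy, Matrix.mul_neg, ← Matrix.mul_assoc, hYY]
    simp
  have e2 : w.1 * y.1 * w.1 = y.1 := by
    rw [hwy, Matrix.neg_mul, Matrix.mul_assoc, hWW]
    simp
  have k1 : ((1 / 2 : F) • ((1 + y.1) * (1 + w.1))) * y.1 =
      w.1 * ((1 / 2 : F) • ((1 + y.1) * (1 + w.1))) := by
    rw [Matrix.smul_mul, Matrix.mul_smul]
    congr 1
    calc (1 + y.1) * (1 + w.1) * y.1 = y.1 + y.1 * y.1 + w.1 * y.1 + y.1 * w.1 * y.1 := by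
          noncomm_ring
      _ = w.1 + w.1 * w.1 + w.1 * y.1 + w.1 * y.1 * w.1 := by rw [hYY, hWW, e1, e2]; abel
      _ = w.1 * ((1 + y.1) * (1 + w.1)) := by noncomm_ring
  have k2 : ((1 / 2 : F) • ((1 + y.1) * (1 + w.1))) * w.1 =
      (y.1 * w.1) * ((1 / 2 : F) • ((1 + y.1) * (1 + w.1))) := by
    rw [Matrix.smul_mul, Matrix.mul_smul]
    congr 1
    calc (1 + y.1) * (1 + w.1) * w.1 = w.1 + w.1 * w.1 + y.1 * w.1 + y.1 * (w.1 * w.1) := by
          noncomm_ring
      _ = y.1 * w.1 + y.1 * w.1 * y.1 + y.1 * (w.1 * w.1) + y.1 * w.1 * y.1 * w.1 := by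
          rw [e1]; abel
      _ = y.1 * w.1 * ((1 + y.1) * (1 + w.1)) := by noncomm_ring
  obtain ⟨g, hg⟩ : ∃ g : Matrix.SpecialLinearGroup (Fin 2) F,
      g.1 = (1 / 2 : F) • ((1 + y.1) * (1 + w.1)) := ⟨⟨_, hdetM⟩, rfl⟩
  refine ⟨g, ?_, ?_⟩
  · rw [mul_inv_eq_iff_eq_mul]
    apply Subtype.ext
    rw [Matrix.SpecialLinearGroup.coe_mul, Matrix.SpecialLinearGroup.coe_mul, hg]
    exact k1
  · rw [mul_inv_eq_iff_eq_mul]
    apply Subtype.ext
    rw [Matrix.SpecialLinearGroup.coe_mul, Matrix.SpecialLinearGroup.coe_mul,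
      Matrix.SpecialLinearGroup.coe_mul, hg]
    exact k2

end cycle

section eight

variable {F : Type*} [Field F] [Fintype F]

/-- If `|S| = 8` (and `16 ∤ |G|`), the normaliser of a Sylow 2-subgroup has order `3 |S|`. -/
theorem card_normalizer_sylow_of_card_eq_eight (hodd : Odd (Fintype.card F))
    (S : Sylow 2 (Matrix.SpecialLinearGroup (Fin 2) F))
    (h8 : Nat.card (S : Subgroup (Matrix.SpecialLinearGroup (Fin 2) F)) = 8)
    (h16 : ¬ 16 ∣ Nat.card (Matrix.SpecialLinearGroup (Fin 2) F)) :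
    Nat.card (Subgroup.normalizer ((S : Subgroup (Matrix.SpecialLinearGroup (Fin 2) F)) :
      Set (Matrix.SpecialLinearGroup (Fin 2) F))) =
      3 * Nat.card (S : Subgroup (Matrix.SpecialLinearGroup (Fin 2) F)) := by
  classical
  have h2 := two_ne_zero_of_odd hodd
  obtain ⟨y, hyS, hy, ⟨w, hwS, hw⟩, hS⟩ := exists_trace_zero_mem_sylow hodd S
  have hns := nonScalar_of_tr2_eq_zero h2 y hy
  have ht := tr2_sq_ne_four_of_eq_zero h2 y hy
  have hcard := card_eq_two_mul_of_inverts h2 _ y w hy hwS hw hS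
  set Sg : Subgroup (Matrix.SpecialLinearGroup (Fin 2) F) :=
    (S : Subgroup (Matrix.SpecialLinearGroup (Fin 2) F)) with hSg
  set T := Subgroup.centralizer ({y} : Set (Matrix.SpecialLinearGroup (Fin 2) F)) with hT
  set N := Subgroup.normalizer (Sg : Set (Matrix.SpecialLinearGroup (Fin 2) F)) with hN
  have hK4 : Nat.card (T.subgroupOf Sg) = 4 := by omega
  have hwy : w.1 * y.1 = -(y.1 * w.1) := (inverts_iff_of_tr2_eq_zero w y hy).mp hw
  have hyw : y.1 * w.1 = -(w.1 * y.1) := by rw [hwy, neg_neg]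
  have hwtr : tr2 w = 0 := anticomm_trace h2 w y hyw
  have hyT : y ∈ T := by
    rw [hT, Subgroup.mem_centralizer_iff]
    rintro _ rfl
    rfl
  have hwT : w ∉ T := fun h => not_inverts_of_mem h2 y w hns h hw
  -- elements of `S ∩ T` square to `±1`
  have hsq : ∀ t ∈ Sg, t ∈ T → t.1 * t.1 = 1 ∨ t.1 * t.1 = -1 := by
    intro t htS htT
    have h4 : (⟨⟨t, htS⟩, Subgroup.mem_subgroupOf.mpr htT⟩ : T.subgroupOf Sg) ^ 4 = 1 := by
      rw [← hK4]
      exact pow_card_eq_one'
    have h4' : t ^ 4 = 1 := by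
      have := congrArg (fun k : T.subgroupOf Sg => (k.1.1 : Matrix.SpecialLinearGroup (Fin 2) F)) h4
      simpa using this
    have h5 : (t * t) * (t * t) = 1 := by
      rw [← h4', show (4 : ℕ) = 2 + 2 from rfl, pow_add, pow_two]
    have := eq_one_or_neg_one_of_sq h2 (t * t) h5
    rwa [Matrix.SpecialLinearGroup.coe_mul] at this
  -- every element of `S` centralises or inverts `w`
  have hSw : ∀ s ∈ Sg, s.1 * w.1 = w.1 * s.1 ∨ s.1 * w.1 = -(w.1 * s.1) := by
    have key : ∀ t ∈ Sg, t ∈ T → t.1 * w.1 = w.1 * t.1 ∨ t.1 * w.1 = -(w.1 * t.1) := by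
      intro t htS htT
      have h1 := inverts_conj w y t hns hw htT
      have h3 : t * w = w * t⁻¹ := by
        have h0 : w * t = t⁻¹ * w := by
          rw [← h1]
          group
        calc t * w = t * (w * t) * t⁻¹ := by group
          _ = t * (t⁻¹ * w) * t⁻¹ := by rw [h0]
          _ = w * t⁻¹ := by group
      have h3' := congrArg Subtype.val h3
      rw [Matrix.SpecialLinearGroup.coe_mul, Matrix.SpecialLinearGroup.coe_mul] at h3'
      have e : (t⁻¹).1 * t.1 = 1 := by
        rw [← Matrix.SpecialLinearGroup.coe_mul, inv_mul_cancel]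
        rfl
      rcases hsq t htS htT with h | h
      · left
        have hti : (t⁻¹).1 = t.1 := by
          calc (t⁻¹).1 = (t⁻¹).1 * (t.1 * t.1) := by rw [h, Matrix.mul_one]
            _ = ((t⁻¹).1 * t.1) * t.1 := by rw [Matrix.mul_assoc]
            _ = t.1 := by rw [e, Matrix.one_mul]
        rw [h3', hti]
      · right
        have hti : (t⁻¹).1 = -t.1 := by
          calc (t⁻¹).1 = -((t⁻¹).1 * (t.1 * t.1)) := by rw [h]; simp
            _ = -(((t⁻¹).1 * t.1) * t.1) := by rw [Matrix.mul_assoc]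
            _ = -t.1 := by rw [e, Matrix.one_mul]
        rw [h3', hti, Matrix.mul_neg]
    intro s hs
    rcases hS s hs with h | h
    · exact key s hs h
    · have htT := inv_mul_mem_centralizer hw h
      have htS : w⁻¹ * s ∈ Sg := Subgroup.mul_mem _ (Subgroup.inv_mem _ hwS) hs
      have e1 : s.1 = w.1 * (w⁻¹ * s).1 := by
        rw [← Matrix.SpecialLinearGroup.coe_mul, mul_inv_cancel_left]
      rcases key _ htS htT with h' | h'
      · left
        rw [e1, Matrix.mul_assoc, h']
      · right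
        rw [e1, Matrix.mul_assoc, h', Matrix.mul_neg]
  -- the element of order three
  obtain ⟨g1, hg1y, hg1w⟩ := exists_conj_cycle h2 y w hy hwtr hwy
  -- `S` is generated by `y` and `w`
  have hQle : Subgroup.closure ({y, w} : Set (Matrix.SpecialLinearGroup (Fin 2) F)) ≤ Sg := by
    rw [Subgroup.closure_le]
    rintro x (rfl | rfl)
    · exact hyS
    · exact hwS
  have hyQ : y ∈ Subgroup.closure ({y, w} : Set (Matrix.SpecialLinearGroup (Fin 2) F)) :=
    Subgroup.subset_closure (by simp)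
  have hwQ : w ∈ Subgroup.closure ({y, w} : Set (Matrix.SpecialLinearGroup (Fin 2) F)) :=
    Subgroup.subset_closure (by simp)
  have hzQ : Subgroup.zpowers y ≤
      Subgroup.closure ({y, w} : Set (Matrix.SpecialLinearGroup (Fin 2) F)) :=
    (Subgroup.zpowers_le).mpr hyQ
  have hord : Nat.card (Subgroup.zpowers y) = 4 := by
    rw [Nat.card_zpowers]
    have hy2 : y ^ 2 = negOne := by
      apply Subtype.ext
      rw [pow_two, Matrix.SpecialLinearGroup.coe_mul, sq_of_tr2_eq_zero y hy]
      rfl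
    refine orderOf_eq_prime_pow (p := 2) (n := 1) ?_ ?_
    · rw [pow_one, hy2]
      exact negOne_ne_one h2
    · rw [show (2 : ℕ) ^ (1 + 1) = 2 * 2 from rfl, pow_mul, hy2, pow_two, negOne_mul_self]
  have hQS : Subgroup.closure ({y, w} : Set (Matrix.SpecialLinearGroup (Fin 2) F)) = Sg := by
    have hd1 : 4 ∣ Nat.card (Subgroup.closure ({y, w} : Set (Matrix.SpecialLinearGroup (Fin 2) F))) :=
      hord ▸ Subgroup.card_dvd_of_le hzQ
    have hd2 : Nat.card (Subgroup.closure ({y, w} : Set (Matrix.SpecialLinearGroup (Fin 2) F))) ∣ 8 :=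
      h8 ▸ Subgroup.card_dvd_of_le hQle
    have hne4 : Nat.card (Subgroup.closure ({y, w} : Set (Matrix.SpecialLinearGroup (Fin 2) F))) ≠ 4 := by
      intro h4
      have heq : Subgroup.zpowers y =
          Subgroup.closure ({y, w} : Set (Matrix.SpecialLinearGroup (Fin 2) F)) :=
        Subgroup.eq_of_le_of_card_ge hzQ (by rw [h4, hord])
      have hwz : w ∈ Subgroup.zpowers y := heq ▸ hwQ
      have hzT : Subgroup.zpowers y ≤ T := (Subgroup.zpowers_le).mpr hyT
      exact hwT (hzT hwz)
    have hle : Nat.card (Subgroup.closure ({y, w} : Set (Matrix.SpecialLinearGroup (Fin 2) F))) ≤ 8 :=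
      Nat.le_of_dvd (by norm_num) hd2
    have hQ8 : Nat.card (Subgroup.closure ({y, w} : Set (Matrix.SpecialLinearGroup (Fin 2) F))) = 8 := by
      generalize Nat.card (Subgroup.closure ({y, w} : Set (Matrix.SpecialLinearGroup (Fin 2) F))) = n
        at hd1 hd2 hne4 hle
      interval_cases n <;> omega
    exact Subgroup.eq_of_le_of_card_ge hQle (by rw [hQ8, h8])
  -- `g1` normalises `S`
  have hg1N : g1 ∈ N := by
    rw [hN, Subgroup.mem_normalizer_iff_map_conj_eq]
    apply Subgroup.eq_of_le_of_card_ge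
    · rw [← hQS, MonoidHom.map_closure, Subgroup.closure_le]
      rintro _ ⟨x, (rfl | rfl), rfl⟩
      · show g1 * x * g1⁻¹ ∈ _
        rw [hg1y]
        exact hwQ
      · show g1 * x * g1⁻¹ ∈ _
        rw [hg1w]
        exact Subgroup.mul_mem _ hyQ hwQ
    · rw [Subgroup.card_map_of_injective (MulAut.conj g1).injective]
  have hg1S : g1 ∉ Sg := by
    intro h
    rcases hS g1 h with h' | h'
    · have h5 : g1 * y * g1⁻¹ = y := by
        have := (Subgroup.mem_centralizer_iff.mp h') y rfl
        rw [← this, mul_inv_cancel_right]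
      rw [hg1y] at h5
      exact hwT (h5 ▸ hyT)
    · have h5 : w = y⁻¹ := by
        rw [← hg1y]
        exact h'
      exact hwT (h5 ▸ Subgroup.inv_mem _ hyT)
  -- the three cosets
  have hbound : (N : Set (Matrix.SpecialLinearGroup (Fin 2) F)) ⊆
      (Sg : Set (Matrix.SpecialLinearGroup (Fin 2) F)) ∪
        (fun s => g1 * s) '' (Sg : Set (Matrix.SpecialLinearGroup (Fin 2) F)) ∪
        (fun s => g1 * g1 * s) '' (Sg : Set (Matrix.SpecialLinearGroup (Fin 2) F)) := by
    intro g hg
    have hx : g * y * g⁻¹ ∈ Sg := (Subgroup.mem_set_normalizer_iff.mp hg y).mp hyS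
    by_cases hc1 : g * y * g⁻¹ ∈ T
    · left; left
      exact mem_sylow_of_mem_normalizer_torus hodd S y w hy hwS hw g hg
        (conj_mem_centralizer h2 y g hns ht hc1)
    · have hinvy : Inverts (g * y * g⁻¹) y := (hS _ hx).resolve_left hc1
      by_cases hc2 : g * y * g⁻¹ ∈
          Subgroup.centralizer ({w} : Set (Matrix.SpecialLinearGroup (Fin 2) F))
      · left; right
        refine ⟨g1⁻¹ * g, ?_, by group⟩
        have hgN : g1⁻¹ * g ∈ N := Subgroup.mul_mem _ (Subgroup.inv_mem _ hg1N) hg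
        apply mem_sylow_of_mem_normalizer_torus hodd S y w hy hwS hw _ hgN
        apply conj_mem_centralizer h2 y _ hns ht
        have h5 : g1⁻¹ * w * g1⁻¹⁻¹ = y := by
          rw [← hg1y]
          group
        have := conj_mem_centralizer_of hc2 h5
        convert this using 1
        group
      · right
        have hxw : (g * y * g⁻¹).1 * w.1 = -(w.1 * (g * y * g⁻¹).1) :=
          (hSw _ hx).resolve_left (fun h => hc2 ((mem_centralizer_singleton w _).mpr h))
        have hxy : (g * y * g⁻¹).1 * y.1 = -(y.1 * (g * y * g⁻¹).1) :=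
          (inverts_iff_of_tr2_eq_zero _ y hy).mp hinvy
        have hc3 : g * y * g⁻¹ ∈
            Subgroup.centralizer ({y * w} : Set (Matrix.SpecialLinearGroup (Fin 2) F)) := by
          rw [mem_centralizer_singleton, Matrix.SpecialLinearGroup.coe_mul y w]
          rw [← Matrix.mul_assoc, hxy, Matrix.neg_mul, Matrix.mul_assoc, hxw, Matrix.mul_neg, neg_neg,
            Matrix.mul_assoc]
        refine ⟨g1⁻¹ * g1⁻¹ * g, ?_, by group⟩
        have hgN : g1⁻¹ * g1⁻¹ * g ∈ N :=
          Subgroup.mul_mem _ (Subgroup.mul_mem _ (Subgroup.inv_mem _ hg1N) (Subgroup.inv_mem _ hg1N)) hg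
        apply mem_sylow_of_mem_normalizer_torus hodd S y w hy hwS hw _ hgN
        apply conj_mem_centralizer h2 y _ hns ht
        have h5 : (g1⁻¹ * g1⁻¹) * (y * w) * (g1⁻¹ * g1⁻¹)⁻¹ = y := by
          calc (g1⁻¹ * g1⁻¹) * (y * w) * (g1⁻¹ * g1⁻¹)⁻¹
              = g1⁻¹ * (g1⁻¹ * (g1 * w * g1⁻¹) * g1) * g1 := by
                rw [hg1w, _root_.mul_inv_rev, inv_inv]; simp only [mul_assoc]
            _ = g1⁻¹ * (g1 * y * g1⁻¹) * g1 := by rw [hg1y]; group
            _ = y := by group
        have := conj_mem_centralizer_of hc3 h5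
        convert this using 1
        group
  have e2 : (Sg : Set (Matrix.SpecialLinearGroup (Fin 2) F)).ncard = Nat.card Sg :=
    (Nat.card_coe_set_eq _).symm
  have hcardN : Nat.card N ≤ 3 * Nat.card Sg := by
    calc Nat.card N = (N : Set (Matrix.SpecialLinearGroup (Fin 2) F)).ncard := Nat.card_coe_set_eq _
      _ ≤ ((Sg : Set (Matrix.SpecialLinearGroup (Fin 2) F)) ∪
        (fun s => g1 * s) '' (Sg : Set (Matrix.SpecialLinearGroup (Fin 2) F)) ∪
        (fun s => g1 * g1 * s) '' (Sg : Set (Matrix.SpecialLinearGroup (Fin 2) F))).ncard :=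
          Set.ncard_le_ncard hbound (Set.toFinite _)
      _ ≤ ((Sg : Set (Matrix.SpecialLinearGroup (Fin 2) F)) ∪
        (fun s => g1 * s) '' (Sg : Set (Matrix.SpecialLinearGroup (Fin 2) F))).ncard +
        ((fun s => g1 * g1 * s) '' (Sg : Set (Matrix.SpecialLinearGroup (Fin 2) F))).ncard :=
          Set.ncard_union_le _ _
      _ ≤ (Sg : Set (Matrix.SpecialLinearGroup (Fin 2) F)).ncard +
        ((fun s => g1 * s) '' (Sg : Set (Matrix.SpecialLinearGroup (Fin 2) F))).ncard +
        ((fun s => g1 * g1 * s) '' (Sg : Set (Matrix.SpecialLinearGroup (Fin 2) F))).ncard :=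
          Nat.add_le_add_right (Set.ncard_union_le _ _) _
      _ ≤ (Sg : Set (Matrix.SpecialLinearGroup (Fin 2) F)).ncard +
        (Sg : Set (Matrix.SpecialLinearGroup (Fin 2) F)).ncard +
        (Sg : Set (Matrix.SpecialLinearGroup (Fin 2) F)).ncard :=
          Nat.add_le_add (Nat.add_le_add_left (Set.ncard_image_le (Set.toFinite _)) _)
            (Set.ncard_image_le (Set.toFinite _))
      _ = 3 * Nat.card Sg := by rw [e2]; ring
  have hdvd1 : Nat.card Sg ∣ Nat.card N := Subgroup.card_dvd_of_le Subgroup.le_normalizer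
  have hdvd2 : Nat.card N ∣ Nat.card (Matrix.SpecialLinearGroup (Fin 2) F) :=
    Subgroup.card_subgroup_dvd_card N
  have hne : Nat.card N ≠ Nat.card Sg := by
    intro h
    have : Sg = N := Subgroup.eq_of_le_of_card_ge Subgroup.le_normalizer (by rw [h])
    exact hg1S (this ▸ hg1N)
  rw [h8] at hcardN hdvd1 hne ⊢
  obtain ⟨m, hm⟩ := hdvd1
  have hm3 : m = 3 := by
    have hle3 : m ≤ 3 := by omega
    have hne0 : m ≠ 0 := by
      rintro rfl
      have := Nat.card_pos (α := N)
      omega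
    have hne2 : m ≠ 2 := by
      rintro rfl
      rw [hm] at hdvd2
      exact h16 hdvd2
    omega
  rw [hm, hm3]

theorem sixteen_dvd_card_sylow (S : Sylow 2 (Matrix.SpecialLinearGroup (Fin 2) F))
    (hq : Fintype.card F % 8 = 1 ∨ Fintype.card F % 8 = 7) :
    16 ∣ Nat.card (S : Subgroup (Matrix.SpecialLinearGroup (Fin 2) F)) := by
  apply dvd_card_sylow_two S 4
  rw [card_SL2_factored]
  rcases hq with hq | hq
  · obtain ⟨a, ha⟩ : ∃ a, Fintype.card F = 8 * a + 1 := ⟨Fintype.card F / 8, by omega⟩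
    rw [ha]
    simp only [Nat.add_sub_cancel]
    exact ⟨(8 * a + 1) * ((4 * a + 1) * a), by ring⟩
  · obtain ⟨a, ha⟩ : ∃ a, Fintype.card F = 8 * a + 7 := ⟨Fintype.card F / 8, by omega⟩
    rw [ha]
    have : 8 * a + 7 - 1 = 8 * a + 6 := by omega
    rw [this]
    exact ⟨(8 * a + 7) * ((a + 1) * (4 * a + 3)), by ring⟩

theorem card_sylow_eq_eight (hodd : Odd (Fintype.card F))
    (S : Sylow 2 (Matrix.SpecialLinearGroup (Fin 2) F))
    (hq : Fintype.card F % 8 = 3 ∨ Fintype.card F % 8 = 5) :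
    Nat.card (S : Subgroup (Matrix.SpecialLinearGroup (Fin 2) F)) = 8 ∧
      ¬ 16 ∣ Nat.card (Matrix.SpecialLinearGroup (Fin 2) F) := by
  have h8 := eight_dvd_card_sylow hodd S
  have hform : ∃ j, Nat.card (Matrix.SpecialLinearGroup (Fin 2) F) = 8 * (2 * j + 1) := by
    rw [card_SL2_factored]
    rcases hq with hq | hq
    · obtain ⟨a, ha⟩ : ∃ a, Fintype.card F = 8 * a + 3 := ⟨Fintype.card F / 8, by omega⟩
      rw [ha]
      have : 8 * a + 3 - 1 = 8 * a + 2 := by omega
      rw [this]
      have hoddn : Odd ((8 * a + 3) * ((2 * a + 1) * (4 * a + 1))) :=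
        Odd.mul ⟨4 * a + 1, by ring⟩ (Odd.mul ⟨a, by ring⟩ ⟨2 * a, by ring⟩)
      obtain ⟨j, hj⟩ := hoddn
      exact ⟨j, by rw [← hj]; ring⟩
    · obtain ⟨a, ha⟩ : ∃ a, Fintype.card F = 8 * a + 5 := ⟨Fintype.card F / 8, by omega⟩
      rw [ha]
      have : 8 * a + 5 - 1 = 8 * a + 4 := by omega
      rw [this]
      have hoddn : Odd ((8 * a + 5) * ((4 * a + 3) * (2 * a + 1))) :=
        Odd.mul ⟨4 * a + 2, by ring⟩ (Odd.mul ⟨2 * a + 1, by ring⟩ ⟨a, by ring⟩)
      obtain ⟨j, hj⟩ := hoddn
      exact ⟨j, by rw [← hj]; ring⟩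
  obtain ⟨j, hj⟩ := hform
  refine ⟨?_, by rw [hj]; omega⟩
  obtain ⟨k, hk⟩ := (IsPGroup.iff_card).mp S.isPGroup'
  have hdvd : Nat.card (S : Subgroup (Matrix.SpecialLinearGroup (Fin 2) F)) ∣
      Nat.card (Matrix.SpecialLinearGroup (Fin 2) F) := Subgroup.card_subgroup_dvd_card _
  rw [hj, hk] at hdvd
  have hcop : Nat.Coprime (2 ^ k) (2 * j + 1) :=
    Nat.Coprime.pow_left k ((Nat.Prime.coprime_iff_not_dvd Nat.prime_two).mpr (by omega))
  have h9 : 2 ^ k ∣ 8 := hcop.dvd_of_dvd_mul_right hdvd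
  rw [hk] at h8 ⊢
  exact Nat.dvd_antisymm h9 h8

end eight

end Cfsg.Agent.Helper40
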