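import Mathlib
import Cfsg.Agent.Helper40.SL2SylowTwo

/-!
# Elements of order four in `SL₂(q)`, `q` odd (helper40)

Elements squaring to `-1` have trace zero and are all conjugate; a subgroup of order four is
cyclic, generated by such an element.
-/

set_option autoImplicit false

namespace Cfsg.Agent.Helper40

open Matrix Cfsg.Agent.Helper42.SL2

section basic

variable {F : Type*} [Field F]

/-- An element of `SL₂` whose square is `-1` has trace zero. -/
theorem tr2_eq_zero_of_sq (a : Matrix.SpecialLinearGroup (Fin 2) F) (h : a.1 * a.1 = -1) :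
    tr2 a = 0 := by
  have h1 := sl2_sq a
  rw [h] at h1
  by_contra hne
  have h2 : a.1 = 0 := by
    have h3 : tr2 a • a.1 = 0 := by
      rw [eq_sub_iff_add_eq, neg_add_cancel] at h1
      exact h1.symm
    exact (smul_eq_zero.mp h3).resolve_left hne
  have hd := det_eq a
  rw [h2] at hd
  simp at hd

end basic

section finite

variable {F : Type*} [Field F] [Fintype F]

/-- Elements of trace zero of `SL₂(q)`, `q` odd, are conjugate. -/
theorem exists_conj_of_tr2_eq_zero (hodd : Odd (Fintype.card F))
    (a b : Matrix.SpecialLinearGroup (Fin 2) F) (ha : tr2 a = 0) (hb : tr2 b = 0) :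
    ∃ g : Matrix.SpecialLinearGroup (Fin 2) F, g * a * g⁻¹ = b := by
  have h2 := two_ne_zero_of_odd hodd
  have hodd' : Fintype.card F % 2 = 1 := Nat.odd_iff.mp hodd
  have key : ∀ c : Matrix.SpecialLinearGroup (Fin 2) F, tr2 c = 0 →
      IsConj c (Cfsg.Agent.Helper39.compSL 0) := by
    intro c hc
    have htr : Matrix.trace c.1 = 0 := by
      rw [Matrix.trace_fin_two]
      exact hc
    have h4 : Matrix.trace c.1 ^ 2 ≠ 4 := by
      rw [htr]
      intro h
      have : (2 : F) * 2 = 0 := by linear_combination -h
      rcases mul_eq_zero.mp this with h | h <;> exact h2 h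
    have := Cfsg.Agent.Helper39.sl2_isConj_compSL hodd' c
      ((nonScalar_iff _).mp (nonScalar_of_tr2_eq_zero h2 c hc)) h4
    rwa [htr] at this
  have := (key a ha).trans (key b hb).symm
  rw [isConj_iff] at this
  exact this

/-- A subgroup of order four of `SL₂(q)`, `q` odd, is generated by an element of trace zero. -/
theorem exists_generator_of_card_four (hodd : Odd (Fintype.card F))
    (A : Subgroup (Matrix.SpecialLinearGroup (Fin 2) F)) (hA : Nat.card A = 4) :
    ∃ a ∈ A, tr2 a = 0 ∧ A = Subgroup.zpowers a := by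
  have h2 := two_ne_zero_of_odd hodd
  have hex : ∃ a ∈ A, a * a ≠ 1 := by
    by_contra hno
    push Not at hno
    have hsub : (A : Set (Matrix.SpecialLinearGroup (Fin 2) F)) ⊆ {1, negOne} := by
      intro s hs
      rcases eq_one_or_neg_one_of_sq h2 s (hno s hs) with h | h
      · left; exact Subtype.ext h
      · right; exact Subtype.ext h
    have h3 := Set.ncard_le_ncard hsub (Set.toFinite _)
    have h4 : ({1, negOne} : Set (Matrix.SpecialLinearGroup (Fin 2) F)).ncard ≤ 2 :=
      (Set.ncard_insert_le _ _).trans (by rw [Set.ncard_singleton])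
    have h5 : Nat.card A = (A : Set (Matrix.SpecialLinearGroup (Fin 2) F)).ncard :=
      Nat.card_coe_set_eq _
    omega
  obtain ⟨a, haA, ha⟩ := hex
  have ha4 : a ^ 4 = 1 := by
    have h6 : (⟨a, haA⟩ : A) ^ 4 = 1 := by
      rw [← hA]
      exact pow_card_eq_one'
    have := congrArg Subtype.val h6
    simpa using this
  have h5 : (a * a) * (a * a) = 1 := by
    rw [← ha4, show (4 : ℕ) = 2 + 2 from rfl, pow_add, pow_two]
  have hsq : a.1 * a.1 = -1 := by
    rcases eq_one_or_neg_one_of_sq h2 (a * a) h5 with h | h
    · exact absurd (Subtype.ext h) ha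
    · rwa [Matrix.SpecialLinearGroup.coe_mul] at h
  have htr := tr2_eq_zero_of_sq a hsq
  refine ⟨a, haA, htr, ?_⟩
  have hord : Nat.card (Subgroup.zpowers a) = 4 := by
    rw [Nat.card_zpowers]
    refine orderOf_eq_prime_pow (p := 2) (n := 1) ?_ ?_
    · rw [pow_one, pow_two]
      exact ha
    · exact ha4
  exact (Subgroup.eq_of_le_of_card_ge ((Subgroup.zpowers_le).mpr haA) (by rw [hA, hord])).symm

end finite

end Cfsg.Agent.Helper40
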