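import Mathlib
import Cfsg.Agent.Helper40.PSL2Sub
import Cfsg.Agent.Helper40.SL2OrderFour

/-!
# Klein four-subgroups of `PSL₂(q)`, `q` odd (helper40)

Ordered pairs of distinct commuting involutions (`KPair`) of a finite group are six times as many
as its Klein four-subgroups (`card_KPair`).  In `PSL₂(q)` they lift to the pairs `(A, B)` of
`SL₂(q)` with `tr A = 0` and `B` inverting `A` (`kpair_iff`), which are as many as the elements of
`SL₂(q)` (`card_lift`).  Hence `12 · #{Klein four-subgroups} = |PSL₂(q)|` (`twelve_mul_card_klein`).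
-/

set_option autoImplicit false

namespace Cfsg.Agent.Helper40.PSL2Klein

open Matrix Cfsg.Agent.Helper44 Cfsg.Agent.Helper40 Cfsg.Agent.Helper42.SL2

universe u v

section general

variable {P : Type u} [Group P]

/-- Ordered pairs of distinct commuting involutions. -/
def KPair (a b : P) : Prop := a ≠ 1 ∧ b ≠ 1 ∧ a ≠ b ∧ a * a = 1 ∧ b * b = 1 ∧ a * b = b * a

/-- The four-group spanned by a pair of distinct commuting involutions. -/
def kGroup (a b : P) (h : KPair a b) : Subgroup P where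
  carrier := {1, a, b, a * b}
  one_mem' := by simp
  mul_mem' := by
    obtain ⟨-, -, -, haa, hbb, hab⟩ := h
    have e1 : a * (a * b) = b := by rw [← mul_assoc, haa, one_mul]
    have e2 : b * (a * b) = a := by rw [hab, ← mul_assoc, hbb, one_mul]
    have e3 : a * b * a = b := by rw [mul_assoc, ← hab, e1]
    have e4 : a * b * b = a := by rw [mul_assoc, hbb, mul_one]
    have e5 : a * b * (a * b) = 1 := by rw [mul_assoc, e2, haa]
    have e6 : b * a = a * b := hab.symm
    intro x y hx hy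
    simp only [Set.mem_insert_iff, Set.mem_singleton_iff] at hx hy ⊢
    rcases hx with rfl | rfl | rfl | rfl <;> rcases hy with rfl | rfl | rfl | rfl <;>
      simp [haa, hbb, e1, e2, e3, e4, e5, e6]
  inv_mem' := by
    obtain ⟨-, -, -, haa, hbb, hab⟩ := h
    intro x hx
    simp only [Set.mem_insert_iff, Set.mem_singleton_iff] at hx ⊢
    have i1 : a⁻¹ = a := inv_eq_of_mul_eq_one_right haa
    have i2 : b⁻¹ = b := inv_eq_of_mul_eq_one_right hbb
    rcases hx with rfl | rfl | rfl | rfl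
    · simp
    · simp [i1]
    · simp [i2]
    · right; right; right
      rw [_root_.mul_inv_rev, i1, i2, hab]

theorem mem_kGroup (a b : P) (h : KPair a b) (x : P) :
    x ∈ kGroup a b h ↔ x = 1 ∨ x = a ∨ x = b ∨ x = a * b := Iff.rfl

theorem kGroup_card (a b : P) (h : KPair a b) : Nat.card (kGroup a b h) = 4 := by
  classical
  have hset : ((kGroup a b h : Subgroup P) : Set P) = {1, a, b, a * b} := rfl
  obtain ⟨ha, hb, hne, haa, hbb, hab⟩ := h
  rw [← SetLike.coe_sort_coe, hset, Nat.card_coe_set_eq]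
  have h1 : (1 : P) ∉ ({a, b, a * b} : Set P) := by
    simp only [Set.mem_insert_iff, Set.mem_singleton_iff, not_or]
    refine ⟨fun e => ha e.symm, fun e => hb e.symm, fun e => ?_⟩
    apply hne
    have h3 : a * (a * b) = a * 1 := by rw [← e]
    rw [← mul_assoc, haa, one_mul, mul_one] at h3
    exact h3.symm
  have h2 : a ∉ ({b, a * b} : Set P) := by
    simp only [Set.mem_insert_iff, Set.mem_singleton_iff, not_or]
    refine ⟨hne, fun e => hb ?_⟩
    simpa using e
  have h3 : b ∉ ({a * b} : Set P) := by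
    simp only [Set.mem_singleton_iff]
    intro e
    apply ha
    simpa using e
  rw [Set.ncard_insert_of_notMem h1, Set.ncard_insert_of_notMem h2,
    Set.ncard_insert_of_notMem h3, Set.ncard_singleton]

theorem kGroup_isKleinFour (a b : P) (h : KPair a b) : IsKleinFour (kGroup a b h) := by
  have hc := kGroup_card a b h
  have hfin : Finite (kGroup a b h) := Nat.finite_of_card_ne_zero (by rw [hc]; norm_num)
  have : Nontrivial (kGroup a b h) := by
    rw [← Finite.one_lt_card_iff_nontrivial, hc]; norm_num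
  refine ⟨hc, ?_⟩
  rw [Monoid.exponent_eq_prime_iff Nat.prime_two]
  rintro ⟨g, hg⟩ hg1
  have hgg : g * g = 1 := by
    have hg' : g = 1 ∨ g = a ∨ g = b ∨ g = a * b := hg
    have haa := h.2.2.2.1
    have hbb := h.2.2.2.2.1
    have hab := h.2.2.2.2.2
    rcases hg' with e | e | e | e <;> rw [e]
    · simp
    · exact haa
    · exact hbb
    · rw [mul_assoc, hab, ← mul_assoc b, hbb, one_mul, haa]
  apply orderOf_eq_prime
  · apply Subtype.ext
    rw [Subgroup.coe_pow, pow_two]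
    exact hgg
  · exact hg1

theorem kGroup_eq (a b : P) (h : KPair a b) (V : Subgroup P) (hV : Nat.card V = 4)
    (ha : a ∈ V) (hb : b ∈ V) : kGroup a b h = V := by
  have hfin : Finite V := Nat.finite_of_card_ne_zero (by rw [hV]; norm_num)
  apply Subgroup.eq_of_le_of_card_ge
  · intro x hx
    rcases hx with rfl | rfl | rfl | rfl
    · exact V.one_mem
    · exact ha
    · exact hb
    · exact V.mul_mem ha hb
  · rw [hV, kGroup_card]

theorem card_pairs_of_card_four {V : Type*} [One V] (h : Nat.card V = 4) :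
    Nat.card {p : V × V // p.1 ≠ 1 ∧ p.2 ≠ 1 ∧ p.1 ≠ p.2} = 6 := by
  classical
  have hfin : Finite V := Nat.finite_of_card_ne_zero (by rw [h]; norm_num)
  let e0 : V ≃ Fin 4 := Finite.equivFinOfCardEq h
  let e : V ≃ Fin 4 := e0.trans (Equiv.swap (e0 1) 0)
  have he : e 1 = 0 := by simp [e]
  have e2 : {p : V × V // p.1 ≠ 1 ∧ p.2 ≠ 1 ∧ p.1 ≠ p.2} ≃
      {p : Fin 4 × Fin 4 // p.1 ≠ 0 ∧ p.2 ≠ 0 ∧ p.1 ≠ p.2} :=
    (e.prodCongr e).subtypeEquiv (by
      rintro ⟨x, y⟩
      simp only [Equiv.prodCongr_apply, Prod.map]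
      rw [← he, e.injective.ne_iff, e.injective.ne_iff, e.injective.ne_iff])
  rw [Nat.card_congr e2, Nat.card_eq_fintype_card]
  decide

/-- Pairs of distinct commuting involutions are six times as many as Klein four-subgroups. -/
theorem card_KPair [Finite P] :
    Nat.card {p : P × P // KPair p.1 p.2} = 6 * Nat.card {V : Subgroup P // IsKleinFour V} := by
  classical
  let _ : Fintype {V : Subgroup P // IsKleinFour V} := Fintype.ofFinite _
  let f : {p : P × P // KPair p.1 p.2} → {V : Subgroup P // IsKleinFour V} :=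
    fun p => ⟨kGroup p.1.1 p.1.2 p.2, kGroup_isKleinFour _ _ _⟩
  have key : ∀ V : {V : Subgroup P // IsKleinFour V}, Nat.card {p // f p = V} = 6 := by
    rintro ⟨V, hV⟩
    have hcard : Nat.card V = 4 := hV.card_four
    rw [← card_pairs_of_card_four hcard]
    have hmem1 : ∀ p : {p // f p = ⟨V, hV⟩}, p.1.1.1 ∈ V := by
      intro p
      have h1 : kGroup p.1.1.1 p.1.1.2 p.1.2 = V := congrArg Subtype.val p.2
      have h3 : p.1.1.1 ∈ kGroup p.1.1.1 p.1.1.2 p.1.2 := Or.inr (Or.inl rfl)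
      rwa [h1] at h3
    have hmem2 : ∀ p : {p // f p = ⟨V, hV⟩}, p.1.1.2 ∈ V := by
      intro p
      have h1 : kGroup p.1.1.1 p.1.1.2 p.1.2 = V := congrArg Subtype.val p.2
      have h3 : p.1.1.2 ∈ kGroup p.1.1.1 p.1.1.2 p.1.2 := Or.inr (Or.inr (Or.inl rfl))
      rwa [h1] at h3
    have hk : ∀ y : {p : V × V // p.1 ≠ 1 ∧ p.2 ≠ 1 ∧ p.1 ≠ p.2},
        KPair (y.1.1 : P) (y.1.2 : P) := by
      rintro ⟨⟨x, y⟩, hx, hy, hxy⟩
      have := hV
      refine ⟨fun e => hx (Subtype.ext e), fun e => hy (Subtype.ext e),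
        fun e => hxy (Subtype.ext e), ?_, ?_, ?_⟩
      · exact congrArg Subtype.val (IsKleinFour.mul_self x)
      · exact congrArg Subtype.val (IsKleinFour.mul_self y)
      · exact congrArg Subtype.val (mul_comm_of_exponent_two hV.exponent_two x y)
    apply Nat.card_congr
    exact {
      toFun := fun p => ⟨(⟨p.1.1.1, hmem1 p⟩, ⟨p.1.1.2, hmem2 p⟩),
        fun e => p.1.2.1 (congrArg Subtype.val e),
        fun e => p.1.2.2.1 (congrArg Subtype.val e),
        fun e => p.1.2.2.2.1 (congrArg Subtype.val e)⟩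
      invFun := fun y => ⟨⟨(y.1.1.1, y.1.2.1), hk y⟩,
        Subtype.ext (kGroup_eq _ _ (hk y) V hcard y.1.1.2 y.1.2.2)⟩
      left_inv := fun p => rfl
      right_inv := fun y => rfl }
  rw [← Nat.card_congr (Equiv.sigmaFiberEquiv f), Nat.card_sigma]
  simp only [key, Finset.sum_const, Finset.card_univ, smul_eq_mul]
  rw [Nat.card_eq_fintype_card, mul_comm]

/-- Pairs in the preimage of a set of pairs under a surjective homomorphism. -/
theorem card_pairs_preimage {H : Type u} {K : Type v} [Group H] [Group K] (f : H →* K)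
    (hf : Function.Surjective f) (S : Set (K × K)) :
    Nat.card {p : H × H // (f p.1, f p.2) ∈ S} =
      Nat.card S * (Nat.card f.ker * Nat.card f.ker) := by
  classical
  let σ := Function.surjInv hf
  have hσ : ∀ k, f (σ k) = k := Function.surjInv_eq hf
  have hk : ∀ x : H, (σ (f x))⁻¹ * x ∈ f.ker := by
    intro x
    rw [MonoidHom.mem_ker, map_mul, map_inv, hσ, inv_mul_cancel]
  have hi : ∀ (k : K) (z : f.ker), f (σ k * z.1) = k := by
    intro k z
    rw [map_mul, hσ, MonoidHom.mem_ker.mp z.2, mul_one]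
  have e : {p : H × H // (f p.1, f p.2) ∈ S} ≃ S × (f.ker × f.ker) :=
    { toFun := fun p => (⟨(f p.1.1, f p.1.2), p.2⟩,
        (⟨(σ (f p.1.1))⁻¹ * p.1.1, hk _⟩, ⟨(σ (f p.1.2))⁻¹ * p.1.2, hk _⟩))
      invFun := fun t => ⟨(σ t.1.1.1 * t.2.1.1, σ t.1.1.2 * t.2.2.1), by
        show (f (σ t.1.1.1 * t.2.1.1), f (σ t.1.1.2 * t.2.2.1)) ∈ S
        rw [hi, hi]
        exact t.1.2⟩
      left_inv := fun p => by
        apply Subtype.ext
        apply Prod.ext
        · show σ (f p.1.1) * ((σ (f p.1.1))⁻¹ * p.1.1) = p.1.1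
          rw [mul_inv_cancel_left]
        · show σ (f p.1.2) * ((σ (f p.1.2))⁻¹ * p.1.2) = p.1.2
          rw [mul_inv_cancel_left]
      right_inv := fun t => by
        obtain ⟨⟨⟨k1, k2⟩, hS⟩, z1, z2⟩ := t
        apply Prod.ext
        · apply Subtype.ext
          show (f (σ k1 * z1.1), f (σ k2 * z2.1)) = (k1, k2)
          rw [hi, hi]
        · apply Prod.ext
          · apply Subtype.ext
            show (σ (f (σ k1 * z1.1)))⁻¹ * (σ k1 * z1.1) = z1.1
            rw [hi, inv_mul_cancel_left]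
          · apply Subtype.ext
            show (σ (f (σ k2 * z2.1)))⁻¹ * (σ k2 * z2.1) = z2.1
            rw [hi, inv_mul_cancel_left] }
  rw [Nat.card_congr e, Nat.card_prod, Nat.card_prod]

end general

section sl2

variable {F : Type u} [Field F]

theorem tr2_conj (g A : SL2 F) : tr2 (g * A * g⁻¹) = tr2 A := by
  have h1 : ∀ z : SL2 F, tr2 z = Matrix.trace z.1 := by
    intro z
    rw [Matrix.trace_fin_two]
    rfl
  rw [h1, h1, Matrix.SpecialLinearGroup.coe_mul, Matrix.trace_mul_comm,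
    ← Matrix.SpecialLinearGroup.coe_mul, inv_mul_cancel_left]

theorem coe_inv_of_tr2 (A : SL2 F) (hA : tr2 A = 0) : (A⁻¹).1 = -A.1 := by
  have h := sl2_add_inv A
  rw [hA, zero_smul] at h
  exact (neg_eq_of_add_eq_zero_right h).symm

theorem sq_of_tr2 (A : SL2 F) (hA : tr2 A = 0) : A.1 * A.1 = -1 := by
  rw [sl2_sq, hA, zero_smul, zero_sub]

theorem pr_ne_one_of_tr2 (h2 : (2 : F) ≠ 0) (A : SL2 F) (hA : tr2 A = 0) : pr A ≠ 1 := by
  intro e
  rw [PSL2Tri.pr_eq_one_iff] at e
  obtain ⟨s, hs, hAs⟩ := e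
  unfold tr2 at hA
  rw [hAs] at hA
  simp at hA
  have hs0 : s = 0 := by
    have h3 : (2 : F) * s = 0 := by linear_combination hA
    exact (mul_eq_zero.mp h3).resolve_left h2
  rw [hs0] at hs
  simp at hs

theorem pr_sq_of_tr2 (A : SL2 F) (hA : tr2 A = 0) : pr A * pr A = 1 := by
  rw [← map_mul, PSL2Tri.pr_eq_one_iff]
  refine ⟨-1, by ring, ?_⟩
  rw [Matrix.SpecialLinearGroup.coe_mul, sq_of_tr2 A hA]
  simp

theorem tr2_of_pr_sq (h2 : (2 : F) ≠ 0) (A : SL2 F) (h1 : pr A ≠ 1) (hA : pr A * pr A = 1) :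
    tr2 A = 0 := by
  rw [← map_mul, PSL2Tri.pr_eq_one_iff] at hA
  obtain ⟨s, hs, hAs⟩ := hA
  have hs' : s = 1 ∨ s = -1 := by
    have h3 : (s - 1) * (s + 1) = 0 := by linear_combination hs
    rcases mul_eq_zero.mp h3 with h | h
    · left; linear_combination h
    · right; linear_combination h
  rcases hs' with rfl | rfl
  · exfalso
    apply h1
    have hAA : A * A = 1 := by
      apply Subtype.ext
      rw [hAs]
      simp
    rw [PSL2Tri.pr_eq_one_iff]
    rcases eq_one_or_neg_one_of_sq h2 A hAA with h | h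
    · exact ⟨1, by ring, by rw [h]; simp⟩
    · exact ⟨-1, by ring, by rw [h]; simp⟩
  · apply tr2_eq_zero_of_sq
    rw [← Matrix.SpecialLinearGroup.coe_mul, hAs]
    simp

/-- Pairs of distinct commuting involutions of `PSL₂` lift to the pairs `(A, B)` with `tr A = 0`
and `B` inverting `A`. -/
theorem kpair_iff (h2 : (2 : F) ≠ 0) (A B : SL2 F) :
    (tr2 A = 0 ∧ Inverts B A) ↔ KPair (pr A) (pr B) := by
  constructor
  · rintro ⟨hA, hinv⟩
    have hns := nonScalar_of_tr2_eq_zero h2 A hA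
    have hB : tr2 B = 0 := tr2_eq_zero_of_sq B (inverts_sq B A hns hinv)
    have hcomm : pr A * pr B = pr B * pr A := by
      have h3 : B * A = A⁻¹ * B := by
        unfold Inverts at hinv
        rw [← hinv, inv_mul_cancel_right]
      have h4 : (pr A)⁻¹ = pr A := inv_eq_of_mul_eq_one_right (pr_sq_of_tr2 A hA)
      rw [← map_mul pr B A, h3, map_mul, map_inv, h4]
    refine ⟨pr_ne_one_of_tr2 h2 A hA, pr_ne_one_of_tr2 h2 B hB, ?_, pr_sq_of_tr2 A hA,
      pr_sq_of_tr2 B hB, hcomm⟩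
    intro e
    rw [pr_eq_iff] at e
    obtain ⟨s, hs, hBs⟩ := e
    have hBA : B * A = A * B := by
      apply Subtype.ext
      rw [Matrix.SpecialLinearGroup.coe_mul, Matrix.SpecialLinearGroup.coe_mul, hBs]
      simp
    unfold Inverts at hinv
    rw [hBA, mul_inv_cancel_right] at hinv
    have h5 : A.1 = -A.1 := by
      rw [← coe_inv_of_tr2 A hA, ← hinv]
    have h6 := sq_of_tr2 A hA
    have h7 : A.1 * A.1 = -(A.1 * A.1) := by
      nth_rewrite 1 [h5]
      rw [neg_mul]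
    rw [h6] at h7
    have h8 := congrFun (congrFun h7 0) 0
    simp at h8
    apply h2
    linear_combination -h8
  · rintro ⟨hA1, hB1, hne, hAA, hBB, hcomm⟩
    have hA : tr2 A = 0 := tr2_of_pr_sq h2 A hA1 hAA
    have hB : tr2 B = 0 := tr2_of_pr_sq h2 B hB1 hBB
    refine ⟨hA, ?_⟩
    have hns := nonScalar_of_tr2_eq_zero h2 A hA
    rw [← map_mul, ← map_mul, pr_eq_iff] at hcomm
    obtain ⟨s, hs, hBs⟩ := hcomm
    rw [Matrix.SpecialLinearGroup.coe_mul, Matrix.SpecialLinearGroup.coe_mul] at hBs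
    have hs' : s = 1 ∨ s = -1 := by
      have h3 : (s - 1) * (s + 1) = 0 := by linear_combination hs
      rcases mul_eq_zero.mp h3 with h | h
      · left; linear_combination h
      · right; linear_combination h
    rcases hs' with rfl | rfl
    · exfalso
      rw [one_smul] at hBs
      have hmem : B ∈ Subgroup.centralizer ({A} : Set (SL2 F)) := by
        rw [mem_centralizer_singleton]
        exact hBs
      obtain ⟨x, y, hxy, hdet⟩ := exists_coords A B hns hmem
      have hx : x = 0 := by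
        unfold tr2 at hA hB
        rw [hxy] at hB
        simp at hB
        have h3 : (2 : F) * x = 0 := by linear_combination hB - y * hA
        exact (mul_eq_zero.mp h3).resolve_left h2
      apply hne
      rw [pr_eq_iff]
      refine ⟨y, ?_, ?_⟩
      · rw [hx] at hdet
        linear_combination hdet
      · rw [hxy, hx, zero_smul, zero_add]
    · unfold Inverts
      rw [mul_inv_eq_iff_eq_mul]
      apply Subtype.ext
      rw [Matrix.SpecialLinearGroup.coe_mul, Matrix.SpecialLinearGroup.coe_mul,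
        coe_inv_of_tr2 A hA, hBs]
      simp

variable [Fintype F]

/-- The pairs `(A, B)` with `tr A = 0` and `B` inverting `A` are as many as the elements. -/
theorem card_lift (hodd : Odd (Fintype.card F)) :
    Nat.card {p : SL2 F × SL2 F // tr2 p.1 = 0 ∧ Inverts p.2 p.1} = Nat.card (SL2 F) := by
  classical
  have h2 := two_ne_zero_of_odd hodd
  have hA₀ : tr2 (PSL2Tri.Wm : SL2 F) = 0 := by simp [tr2, PSL2Tri.Wm]
  have hγ : ∀ A : SL2 F, tr2 A = 0 → ∃ g : SL2 F, g * PSL2Tri.Wm * g⁻¹ = A := fun A hA =>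
    exists_conj_of_tr2_eq_zero hodd PSL2Tri.Wm A hA₀ hA
  have hw : ∀ A : SL2 F, tr2 A = 0 → ∃ w : SL2 F, Inverts w A := fun A hA =>
    exists_inverts hodd A (nonScalar_of_tr2_eq_zero h2 A hA) (by
      rw [hA]
      intro h
      have : (2 : F) * 2 = 0 := by linear_combination -h
      rcases mul_eq_zero.mp this with h | h <;> exact h2 h)
  choose! γ hγ' using hγ
  choose! w hw' using hw
  have htr : ∀ g : SL2 F, tr2 (g * PSL2Tri.Wm * g⁻¹) = 0 := fun g => by rw [tr2_conj, hA₀]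
  have hinv : ∀ g : SL2 F, Inverts (w (g * PSL2Tri.Wm * g⁻¹) * g * (γ (g * PSL2Tri.Wm * g⁻¹))⁻¹)
      (g * PSL2Tri.Wm * g⁻¹) := by
    intro g
    have h3 := hγ' _ (htr g)
    have h4 := hw' _ (htr g)
    set A := g * PSL2Tri.Wm * g⁻¹ with hAdef
    have h5 : (γ A)⁻¹ * A * γ A = PSL2Tri.Wm := by
      calc (γ A)⁻¹ * A * γ A = (γ A)⁻¹ * (γ A * PSL2Tri.Wm * (γ A)⁻¹) * γ A := by rw [h3]
        _ = PSL2Tri.Wm := by group
    have h6 : (g * (γ A)⁻¹) * A * (g * (γ A)⁻¹)⁻¹ = A := by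
      calc (g * (γ A)⁻¹) * A * (g * (γ A)⁻¹)⁻¹ = g * ((γ A)⁻¹ * A * γ A) * g⁻¹ := by group
        _ = A := by rw [h5]
    unfold Inverts at h4 ⊢
    calc w A * g * (γ A)⁻¹ * A * (w A * g * (γ A)⁻¹)⁻¹
        = w A * ((g * (γ A)⁻¹) * A * (g * (γ A)⁻¹)⁻¹) * (w A)⁻¹ := by group
      _ = A⁻¹ := by rw [h6, h4]
  symm
  apply Nat.card_eq_of_bijective (fun g : SL2 F =>
    (⟨(g * PSL2Tri.Wm * g⁻¹, w (g * PSL2Tri.Wm * g⁻¹) * g * (γ (g * PSL2Tri.Wm * g⁻¹))⁻¹),
      htr g, hinv g⟩ : {p : SL2 F × SL2 F // tr2 p.1 = 0 ∧ Inverts p.2 p.1}))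
  constructor
  · intro g g' e
    have e1 : g * PSL2Tri.Wm * g⁻¹ = g' * PSL2Tri.Wm * g'⁻¹ :=
      congrArg (fun p : {p : SL2 F × SL2 F // tr2 p.1 = 0 ∧ Inverts p.2 p.1} => p.1.1) e
    have e2 : w (g * PSL2Tri.Wm * g⁻¹) * g * (γ (g * PSL2Tri.Wm * g⁻¹))⁻¹ =
        w (g' * PSL2Tri.Wm * g'⁻¹) * g' * (γ (g' * PSL2Tri.Wm * g'⁻¹))⁻¹ :=
      congrArg (fun p : {p : SL2 F × SL2 F // tr2 p.1 = 0 ∧ Inverts p.2 p.1} => p.1.2) e
    rw [← e1] at e2
    exact mul_left_cancel (mul_right_cancel e2)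
  · rintro ⟨⟨A, B⟩, hA, hB⟩
    have h3 : γ A * PSL2Tri.Wm * (γ A)⁻¹ = A := hγ' A hA
    have h4 : w A * A * (w A)⁻¹ = A⁻¹ := hw' A hA
    have hB' : B * A * B⁻¹ = A⁻¹ := hB
    have h1 : ((w A)⁻¹ * B * γ A) * PSL2Tri.Wm * ((w A)⁻¹ * B * γ A)⁻¹ = A := by
      calc ((w A)⁻¹ * B * γ A) * PSL2Tri.Wm * ((w A)⁻¹ * B * γ A)⁻¹
          = (w A)⁻¹ * (B * (γ A * PSL2Tri.Wm * (γ A)⁻¹) * B⁻¹) * w A := by group
        _ = (w A)⁻¹ * (w A * A * (w A)⁻¹) * w A := by rw [h3, hB', h4]
        _ = A := by group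
    refine ⟨(w A)⁻¹ * B * γ A, ?_⟩
    apply Subtype.ext
    apply Prod.ext
    · exact h1
    · show w (((w A)⁻¹ * B * γ A) * PSL2Tri.Wm * ((w A)⁻¹ * B * γ A)⁻¹) * ((w A)⁻¹ * B * γ A) *
        (γ (((w A)⁻¹ * B * γ A) * PSL2Tri.Wm * ((w A)⁻¹ * B * γ A)⁻¹))⁻¹ = B
      rw [h1]
      group

/-- `12 · #{Klein four-subgroups of PSL₂(q)} = |PSL₂(q)|` for `q` odd. -/
theorem twelve_mul_card_klein (hodd : Odd (Fintype.card F)) :
    12 * Nat.card {V : Subgroup (PSL2 F) // IsKleinFour V} = Nat.card (PSL2 F) := by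
  have h2 := two_ne_zero_of_odd hodd
  have hL := card_lift hodd
  have hP := card_pairs_preimage (pr (F := F)) pr_surjective
    {p : PSL2 F × PSL2 F | KPair p.1 p.2}
  have hK := card_KPair (P := PSL2 F)
  have hker : Nat.card (pr (F := F)).ker = 2 := by
    have h3 : (pr (F := F)).ker = Subgroup.center (SL2 F) := QuotientGroup.ker_mk' _
    rw [h3]
    exact Cfsg.Agent.Helper5.card_center_SL2 h2
  have hc := Cfsg.Agent.Helper5.card_PSL2_mul (F := F)
  rw [Cfsg.Agent.Helper5.card_center_SL2 h2, ← Cfsg.Agent.Helper5.card_SL2] at hc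
  have e : {p : SL2 F × SL2 F // tr2 p.1 = 0 ∧ Inverts p.2 p.1} ≃
      {p : SL2 F × SL2 F // (pr p.1, pr p.2) ∈ {p : PSL2 F × PSL2 F | KPair p.1 p.2}} :=
    Equiv.subtypeEquivRight (fun p => kpair_iff h2 p.1 p.2)
  rw [Nat.card_congr e, hP, hker] at hL
  have hK' : Nat.card ({p : PSL2 F × PSL2 F | KPair p.1 p.2} : Set (PSL2 F × PSL2 F)) =
      6 * Nat.card {V : Subgroup (PSL2 F) // IsKleinFour V} := hK
  rw [hK'] at hL
  have hc' : Nat.card (PSL2 F) * 2 = Nat.card (SL2 F) := hc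
  have hL' : 6 * Nat.card {V : Subgroup (PSL2 F) // IsKleinFour V} * (2 * 2) =
      Nat.card (SL2 F) := hL
  clear hL hc hP hK hK' e hker
  omega

end sl2

end Cfsg.Agent.Helper40.PSL2Klein
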