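import Mathlib
import Cfsg.Agent.Helper40.PSL2Sub
import Cfsg.Agent.Helper44.FieldExt

/-!
# Maximality of `SL₂(q)` in `SL₂(q^r)`, characteristic two (helper40)

`F` a finite field of characteristic two, `φ : K →+* F` with `|F| = |K|^r`, `r` prime, `|K| > 2`:
every subgroup of `SL₂(F)` properly containing the subfield subgroup `SL₂(K)` is `SL₂(F)`.
-/

set_option autoImplicit false
set_option linter.unusedSimpArgs false
set_option linter.unusedSectionVars false

namespace Cfsg.Agent.Helper40.SL2Max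

open Matrix Cfsg.Agent.Helper44 Cfsg.Agent.Helper40 Cfsg.Agent.Helper42.SL2

universe u v

section basic

variable {F : Type u} [Field F]

/-- The matrix `(a b; c d)` of determinant one. -/
def mk (a b c d : F) (h : a * d - b * c = 1) : SL2 F :=
  ⟨!![a, b; c, d], by rw [Matrix.det_fin_two_of]; exact h⟩

@[simp] theorem mk00 (a b c d : F) (h : a * d - b * c = 1) : (mk a b c d h).1 0 0 = a := rfl
@[simp] theorem mk01 (a b c d : F) (h : a * d - b * c = 1) : (mk a b c d h).1 0 1 = b := rfl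
@[simp] theorem mk10 (a b c d : F) (h : a * d - b * c = 1) : (mk a b c d h).1 1 0 = c := rfl
@[simp] theorem mk11 (a b c d : F) (h : a * d - b * c = 1) : (mk a b c d h).1 1 1 = d := rfl

theorem mul00 (g h : SL2 F) : (g * h).1 0 0 = g.1 0 0 * h.1 0 0 + g.1 0 1 * h.1 1 0 := by
  rw [Matrix.SpecialLinearGroup.coe_mul, Matrix.mul_apply, Fin.sum_univ_two]
theorem mul01 (g h : SL2 F) : (g * h).1 0 1 = g.1 0 0 * h.1 0 1 + g.1 0 1 * h.1 1 1 := by
  rw [Matrix.SpecialLinearGroup.coe_mul, Matrix.mul_apply, Fin.sum_univ_two]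
theorem mul10 (g h : SL2 F) : (g * h).1 1 0 = g.1 1 0 * h.1 0 0 + g.1 1 1 * h.1 1 0 := by
  rw [Matrix.SpecialLinearGroup.coe_mul, Matrix.mul_apply, Fin.sum_univ_two]
theorem mul11 (g h : SL2 F) : (g * h).1 1 1 = g.1 1 0 * h.1 0 1 + g.1 1 1 * h.1 1 1 := by
  rw [Matrix.SpecialLinearGroup.coe_mul, Matrix.mul_apply, Fin.sum_univ_two]

theorem inv00 (g : SL2 F) : (g⁻¹).1 0 0 = g.1 1 1 := by rw [sl2_coe_inv]; rfl
theorem inv01 (g : SL2 F) : (g⁻¹).1 0 1 = -g.1 0 1 := by rw [sl2_coe_inv]; rfl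
theorem inv10 (g : SL2 F) : (g⁻¹).1 1 0 = -g.1 1 0 := by rw [sl2_coe_inv]; rfl
theorem inv11 (g : SL2 F) : (g⁻¹).1 1 1 = g.1 0 0 := by rw [sl2_coe_inv]; rfl

theorem one00 : (1 : SL2 F).1 0 0 = 1 := by simp
theorem one01 : (1 : SL2 F).1 0 1 = 0 := by simp
theorem one10 : (1 : SL2 F).1 1 0 = 0 := by simp
theorem one11 : (1 : SL2 F).1 1 1 = 1 := by simp

theorem det1 (g : SL2 F) : g.1 0 0 * g.1 1 1 - g.1 0 1 * g.1 1 0 = 1 := det_eq g

/-- Upper unitriangular. -/
def u (t : F) : SL2 F := mk 1 t 0 1 (by ring)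

/-- Lower unitriangular. -/
def l (s : F) : SL2 F := mk 1 0 s 1 (by ring)

/-- Diagonal. -/
def dg (a : F) (ha : a ≠ 0) : SL2 F := mk a 0 0 a⁻¹ (by rw [mul_inv_cancel₀ ha]; ring)

/-- The Weyl element. -/
def w : SL2 F := mk 0 1 (-1) 0 (by ring)

end basic

section group

variable {G : Type u} [Group G]

theorem conj_pow_inv (x z : G) (hx : x * x = 1) (h : x * z * x = z⁻¹) (m : ℕ) :
    x * z ^ m * x = (z ^ m)⁻¹ := by
  have hxi : x⁻¹ = x := inv_eq_of_mul_eq_one_right hx
  have h1 : x * z ^ m * x⁻¹ = (x * z * x⁻¹) ^ m := (conj_pow (a := x) (b := z) (i := m)).symm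
  rw [hxi, h, inv_pow] at h1
  exact h1

/-- Two involutions of a finite group are conjugate by a power of their product, or commute with
an involution which is a power of their product. -/
theorem involution_pair [Finite G] (x y : G) (hx : x * x = 1) (hy : y * y = 1) :
    ∃ m : ℕ, (x * y) ^ m * x * ((x * y) ^ m)⁻¹ = y ∨
      ((x * y) ^ m ≠ 1 ∧ (x * y) ^ m * (x * y) ^ m = 1 ∧ (x * y) ^ m * x = x * (x * y) ^ m ∧
        (x * y) ^ m * y = y * (x * y) ^ m) := by
  have hxi : x⁻¹ = x := inv_eq_of_mul_eq_one_right hx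
  have hyi : y⁻¹ = y := inv_eq_of_mul_eq_one_right hy
  have hxz : x * (x * y) * x = (x * y)⁻¹ := by
    rw [_root_.mul_inv_rev, hxi, hyi, ← mul_assoc x x y, hx, one_mul]
  have hyz : y * (x * y) * y = (x * y)⁻¹ := by
    rw [_root_.mul_inv_rev, hxi, hyi, ← mul_assoc y x y, mul_assoc (y * x) y y, hy, mul_one]
  have hn : 0 < orderOf (x * y) := orderOf_pos (x * y)
  rcases Nat.even_or_odd' (orderOf (x * y)) with ⟨m, hm | hm⟩
  · refine ⟨m, Or.inr ⟨?_, ?_, ?_, ?_⟩⟩
    · exact pow_ne_one_of_lt_orderOf (by omega) (by omega)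
    · rw [← pow_add, ← two_mul, ← hm, pow_orderOf_eq_one]
    · have h1 := conj_pow_inv x (x * y) hx hxz m
      have h2 : (x * y) ^ m * (x * y) ^ m = 1 := by
        rw [← pow_add, ← two_mul, ← hm, pow_orderOf_eq_one]
      have h3 : ((x * y) ^ m)⁻¹ = (x * y) ^ m := inv_eq_of_mul_eq_one_right h2
      rw [h3] at h1
      calc (x * y) ^ m * x = x * (x * (x * y) ^ m * x) := by
            rw [mul_assoc x ((x * y) ^ m) x, ← mul_assoc x x, hx, one_mul]
        _ = x * (x * y) ^ m := by rw [h1]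
    · have h1 := conj_pow_inv y (x * y) hy hyz m
      have h2 : (x * y) ^ m * (x * y) ^ m = 1 := by
        rw [← pow_add, ← two_mul, ← hm, pow_orderOf_eq_one]
      have h3 : ((x * y) ^ m)⁻¹ = (x * y) ^ m := inv_eq_of_mul_eq_one_right h2
      rw [h3] at h1
      calc (x * y) ^ m * y = y * (y * (x * y) ^ m * y) := by
            rw [mul_assoc y ((x * y) ^ m) y, ← mul_assoc y y, hy, one_mul]
        _ = y * (x * y) ^ m := by rw [h1]
  · refine ⟨m, Or.inl ?_⟩
    have h1 := conj_pow_inv x (x * y) hx hxz m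
    have h2 : (x * y) ^ m * (x * y) ^ m * (x * y) = 1 := by
      rw [← pow_add, ← pow_succ, ← two_mul, ← hm, pow_orderOf_eq_one]
    have h3 : x * ((x * y) ^ m)⁻¹ = (x * y) ^ m * x := by
      calc x * ((x * y) ^ m)⁻¹ = x * (x * (x * y) ^ m * x) := by rw [h1]
        _ = (x * y) ^ m * x := by rw [mul_assoc x ((x * y) ^ m) x, ← mul_assoc x x, hx, one_mul]
    calc (x * y) ^ m * x * ((x * y) ^ m)⁻¹ = (x * y) ^ m * (x * ((x * y) ^ m)⁻¹) := by
          rw [mul_assoc]
      _ = (x * y) ^ m * (x * y) ^ m * x := by rw [h3, mul_assoc]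
      _ = ((x * y) ^ m * (x * y) ^ m * (x * y)) * y := by
          rw [mul_assoc ((x * y) ^ m * (x * y) ^ m) (x * y) y, mul_assoc x y y, hy, mul_one]
      _ = y := by rw [h2, one_mul]

end group

section gen

variable {F : Type u} [Field F]

/-- `SL₂` is generated by the elementary matrices. -/
theorem eq_top_of_u_l (M : Subgroup (SL2 F)) (hu : ∀ t : F, u t ∈ M) (hl : ∀ t : F, l t ∈ M) :
    M = ⊤ := by
  have key : ∀ g : SL2 F, g.1 1 0 ≠ 0 → g ∈ M := by
    intro g hc
    have hd := det1 g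
    have : g = u ((g.1 0 0 - 1) / g.1 1 0) * l (g.1 1 0) * u ((g.1 1 1 - 1) / g.1 1 0) := by
      apply sl_ext
      · simp only [mul00, mul01, mul10, mul11, u, l, mk00, mk01, mk10, mk11]
        field_simp
        ring
      · simp only [mul00, mul01, mul10, mul11, u, l, mk00, mk01, mk10, mk11]
        field_simp
        linear_combination -hd
      · simp only [mul00, mul01, mul10, mul11, u, l, mk00, mk01, mk10, mk11]
        ring
      · simp only [mul00, mul01, mul10, mul11, u, l, mk00, mk01, mk10, mk11]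
        field_simp
        ring
    rw [this]
    exact M.mul_mem (M.mul_mem (hu _) (hl _)) (hu _)
  rw [eq_top_iff]
  intro g _
  by_cases hc : g.1 1 0 = 0
  · have hd := det1 g
    have ha : g.1 0 0 ≠ 0 := by
      intro h0
      rw [h0, hc] at hd
      simp at hd
    have h1 : l 1 * g ∈ M := by
      apply key
      simp only [mul10, l, mk10, mk11]
      rw [hc]
      simpa using ha
    have h2 : g = (l 1)⁻¹ * (l 1 * g) := by group
    rw [h2]
    exact M.mul_mem (M.inv_mem (hl 1)) h1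
  · exact key g hc

end gen

section core

variable {F : Type u} [Field F] {K : Type v} [Field K] (φ : K →+* F)

/-- The subfield subgroup. -/
def kS : Subgroup (SL2 F) := (Matrix.SpecialLinearGroup.map φ).range

theorem mem_kS (g : SL2 F) : g ∈ kS φ ↔ (g.1 0 0 ∈ Set.range φ ∧ g.1 0 1 ∈ Set.range φ ∧
    g.1 1 0 ∈ Set.range φ ∧ g.1 1 1 ∈ Set.range φ) := by
  constructor
  · rintro ⟨g', rfl⟩
    exact ⟨⟨g'.1 0 0, rfl⟩, ⟨g'.1 0 1, rfl⟩, ⟨g'.1 1 0, rfl⟩, ⟨g'.1 1 1, rfl⟩⟩
  · rintro ⟨⟨a, ha⟩, ⟨b, hb⟩, ⟨c, hc⟩, ⟨d, hd⟩⟩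
    have hdet : a * d - b * c = 1 := by
      apply φ.injective
      rw [map_sub, map_mul, map_mul, map_one, ha, hb, hc, hd]
      exact det1 g
    refine ⟨mk a b c d hdet, ?_⟩
    apply sl_ext
    · exact ha
    · exact hb
    · exact hc
    · exact hd

theorem u_mem_kS (c : K) : u (φ c) ∈ kS φ := by
  rw [mem_kS]
  exact ⟨⟨1, map_one φ⟩, ⟨c, rfl⟩, ⟨0, map_zero φ⟩, ⟨1, map_one φ⟩⟩

theorem l_mem_kS (c : K) : l (φ c) ∈ kS φ := by
  rw [mem_kS]
  exact ⟨⟨1, map_one φ⟩, ⟨0, map_zero φ⟩, ⟨c, rfl⟩, ⟨1, map_one φ⟩⟩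

theorem w_mem_kS : (w : SL2 F) ∈ kS φ := by
  rw [mem_kS]
  exact ⟨⟨0, map_zero φ⟩, ⟨1, map_one φ⟩, ⟨-1, by rw [map_neg, map_one]; rfl⟩, ⟨0, map_zero φ⟩⟩

theorem dg_mem_kS (c : K) (hc : φ c ≠ 0) : dg (φ c) hc ∈ kS φ := by
  rw [mem_kS]
  exact ⟨⟨c, rfl⟩, ⟨0, map_zero φ⟩, ⟨0, map_zero φ⟩, ⟨c⁻¹, map_inv₀ φ c⟩⟩

theorem u_zero : u (0 : F) = 1 := by
  apply sl_ext <;> simp [u]

theorem u_add (s t : F) : u (s + t) = u s * u t := by
  apply sl_ext <;> simp [u, mul00, mul01, mul10, mul11]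
  ring

theorem u_mul_self (h2 : (2 : F) = 0) (t : F) : u t * u t = 1 := by
  rw [← u_add, ← u_zero]
  congr 1
  linear_combination t * h2

theorem l_mul_self (h2 : (2 : F) = 0) (t : F) : l t * l t = 1 := by
  apply sl_ext <;> simp [l, mul00, mul01, mul10, mul11]
  linear_combination t * h2

theorem conj_u (g : SL2 F) (hg : g.1 1 0 = 0) (t : F) : g * u t * g⁻¹ = u (g.1 0 0 ^ 2 * t) := by
  have hd := det1 g
  rw [hg] at hd
  apply sl_ext
  · simp only [mul00, mul01, mul10, mul11, inv00, inv01, inv10, inv11, u, mk00, mk01, mk10, mk11]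
    rw [hg]
    linear_combination hd
  · simp only [mul00, mul01, mul10, mul11, inv00, inv01, inv10, inv11, u, mk00, mk01, mk10, mk11]
    ring
  · simp only [mul00, mul01, mul10, mul11, inv00, inv01, inv10, inv11, u, mk00, mk01, mk10, mk11]
    rw [hg]
    ring
  · simp only [mul00, mul01, mul10, mul11, inv00, inv01, inv10, inv11, u, mk00, mk01, mk10, mk11]
    rw [hg]
    linear_combination hd

theorem l_eq_conj (t : F) : l t = w * u (-t) * w⁻¹ := by
  apply sl_ext <;>
    simp only [mul00, mul01, mul10, mul11, inv00, inv01, inv10, inv11, u, l, w, mk00, mk01, mk10,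
      mk11] <;> ring

theorem eq_one_of_sq (h2 : (2 : F) = 0) (a : F) (ha : a * a = 1) : a = 1 := by
  have h3 : (a - 1) ^ 2 = 0 := by linear_combination ha + (1 - a) * h2
  exact sub_eq_zero.mp ((pow_eq_zero_iff two_ne_zero).mp h3)

end core

section steps

variable {F : Type u} [Field F] {K : Type v} [Field K] (φ : K →+* F)

include φ in
theorem two_eq_zero_K (h2 : (2 : F) = 0) : (2 : K) = 0 := by
  apply φ.injective
  rw [map_ofNat, map_zero]
  exact h2

/-- Step 2: a triangular element of `M` with diagonal entry outside `K` forces `M = SL₂(F)`. -/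
theorem top_of_torus [Fintype K] [Fintype F] (h2 : (2 : F) = 0) (r : ℕ) (hr : r.Prime)
    (hF : Fintype.card F = Fintype.card K ^ r) (M : Subgroup (SL2 F)) (hS : kS φ ≤ M)
    (g : SL2 F) (hg : g ∈ M) (hg10 : g.1 1 0 = 0) (ha : g.1 0 0 ∉ Set.range φ) : M = ⊤ := by
  classical
  let _ : Algebra K F := φ.toAlgebra
  have hfr : Module.finrank K F = r := by
    have h3 := Module.card_eq_pow_finrank (K := K) (V := F)
    rw [hF] at h3
    exact (Nat.pow_right_injective (Fintype.one_lt_card (α := K))) h3.symm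
  have : IsSimpleOrder (IntermediateField K F) :=
    IntermediateField.isSimpleOrder_of_finrank_prime K F (hfr ▸ hr)
  have hchar : ringChar K = 2 :=
    CharP.ringChar_of_prime_eq_zero Nat.prime_two (by exact_mod_cast two_eq_zero_K φ h2)
  have hE0 : u (0 : F) ∈ M := by rw [u_zero]; exact M.one_mem
  have hEadd : ∀ s t : F, u s ∈ M → u t ∈ M → u (s + t) ∈ M := by
    intro s t hs ht
    rw [u_add]
    exact M.mul_mem hs ht
  have hEa : ∀ t : F, u t ∈ M → u (g.1 0 0 ^ 2 * t) ∈ M := by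
    intro t ht
    rw [← conj_u g hg10 t]
    exact M.mul_mem (M.mul_mem hg ht) (M.inv_mem hg)
  have hEk : ∀ (c : K) (t : F), u t ∈ M → u (φ c * t) ∈ M := by
    intro c t ht
    by_cases hc : c = 0
    · rw [hc, map_zero, zero_mul]
      exact hE0
    · obtain ⟨d, hd⟩ := FiniteField.isSquare_of_char_two hchar c
      have hd0 : φ d ≠ 0 := by
        intro h0
        apply hc
        have : d = 0 := φ.injective (by rw [h0, map_zero])
        rw [hd, this, mul_zero]
      have h3 := conj_u (dg (φ d) hd0) (by simp [dg]) t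
      have h4 : (dg (φ d) hd0).1 0 0 ^ 2 * t = φ c * t := by
        simp only [dg, mk00]
        rw [hd, map_mul]
        ring
      rw [h4] at h3
      rw [← h3]
      have hdm : dg (φ d) hd0 ∈ M := hS (dg_mem_kS φ d hd0)
      exact M.mul_mem (M.mul_mem hdm ht) (M.inv_mem hdm)
  have hpow : ∀ (x : F) (n : ℕ), (∀ t : F, u t ∈ M → u (x * t) ∈ M) →
      ∀ t : F, u t ∈ M → u (x ^ n * t) ∈ M := by
    intro x n hx
    induction n with
    | zero => intro t ht; rw [pow_zero, one_mul]; exact ht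
    | succ n ih => intro t ht; rw [pow_succ, mul_assoc]; exact ih _ (hx t ht)
  have hP : ∀ x ∈ IntermediateField.adjoin K ({g.1 0 0 ^ 2} : Set F),
      ∀ t : F, u t ∈ M → u (x * t) ∈ M := by
    intro x hx
    induction hx using IntermediateField.adjoin_induction with
    | mem x hx =>
      rw [Set.mem_singleton_iff] at hx
      rw [hx]
      exact hEa
    | algebraMap c => exact hEk c
    | add x y _ _ hx hy =>
      intro t ht
      rw [add_mul]
      exact hEadd _ _ (hx t ht) (hy t ht)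
    | inv x _ hx =>
      intro t ht
      by_cases hx0 : x = 0
      · rw [hx0, _root_.inv_zero, zero_mul]
        exact hE0
      · have h3 : x⁻¹ = x ^ (Fintype.card F - 2) := by
          have h4 : x ^ (Fintype.card F - 1) = 1 := FiniteField.pow_card_sub_one_eq_one x hx0
          have h5 : 2 ≤ Fintype.card F := Fintype.one_lt_card
          have h6 : x ^ (Fintype.card F - 2) * x = 1 := by
            rw [← pow_succ]
            have : Fintype.card F - 2 + 1 = Fintype.card F - 1 := by omega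
            rw [this, h4]
          exact (eq_inv_of_mul_eq_one_left h6).symm
        rw [h3]
        exact hpow x _ hx t ht
    | mul x y _ _ hx hy =>
      intro t ht
      rw [mul_assoc]
      exact hx _ (hy t ht)
  have hadj : IntermediateField.adjoin K ({g.1 0 0 ^ 2} : Set F) = ⊤ := by
    rcases eq_bot_or_eq_top (IntermediateField.adjoin K ({g.1 0 0 ^ 2} : Set F)) with h | h
    · exfalso
      have hmem : g.1 0 0 ^ 2 ∈ IntermediateField.adjoin K ({g.1 0 0 ^ 2} : Set F) :=
        IntermediateField.subset_adjoin K _ (Set.mem_singleton _)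
      rw [h, IntermediateField.mem_bot] at hmem
      obtain ⟨c, hc⟩ := hmem
      obtain ⟨d, hd⟩ := FiniteField.isSquare_of_char_two hchar c
      apply ha
      refine ⟨d, ?_⟩
      have hc' : φ c = g.1 0 0 ^ 2 := hc
      have h3 : (φ d - g.1 0 0) ^ 2 = 0 := by
        rw [hd, map_mul] at hc'
        linear_combination hc' + (g.1 0 0 * (g.1 0 0 - φ d)) * h2
      exact sub_eq_zero.mp ((pow_eq_zero_iff two_ne_zero).mp h3)
    · exact h
  have hall : ∀ t : F, u t ∈ M := by
    intro t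
    have h3 := hP t (by rw [hadj]; exact IntermediateField.mem_top) 1
      (by rw [← map_one φ]; exact hS (u_mem_kS φ 1))
    rwa [mul_one] at h3
  have hw : (w : SL2 F) ∈ M := hS (w_mem_kS φ)
  have hl : ∀ t : F, l t ∈ M := by
    intro t
    rw [l_eq_conj]
    exact M.mul_mem (M.mul_mem hw (hall _)) (M.inv_mem hw)
  exact eq_top_of_u_l M hall hl

/-- Step 3: if the torus of `M` is that of `SL₂(K)`, so is its unipotent subgroup. -/
theorem unip_sub [Finite F] (h2 : (2 : F) = 0) (M : Subgroup (SL2 F)) (hS : kS φ ≤ M)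
    (hD : ∀ g ∈ M, g.1 1 0 = 0 → g.1 0 0 ∈ Set.range φ) (t : F) (ht : u t ∈ M) :
    t ∈ Set.range φ := by
  by_contra hnot
  have ht0 : t ≠ 0 := by
    rintro rfl
    exact hnot ⟨0, map_zero φ⟩
  have hl1 : l (1 : F) ∈ M := by
    rw [← map_one φ]
    exact hS (l_mem_kS φ 1)
  obtain ⟨m, h | ⟨hj1, hjj, hjx, hjy⟩⟩ := involution_pair (u t) (l (1 : F)) (u_mul_self h2 t)
    (l_mul_self h2 1)
  · have hgM : (u t * l (1 : F)) ^ m ∈ M := M.pow_mem (M.mul_mem ht hl1) m
    generalize (u t * l (1 : F)) ^ m = g at h hgM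
    have h3 : g * u t = l 1 * g := by
      rw [← h]
      group
    have e01 := congrArg (fun x : SL2 F => x.1 0 1) h3
    have e11 := congrArg (fun x : SL2 F => x.1 1 1) h3
    simp only [mul00, mul01, mul10, mul11, u, l, mk00, mk01, mk10, mk11] at e01 e11
    have hg00 : g.1 0 0 = 0 := by
      have : g.1 0 0 * t = 0 := by linear_combination e01
      exact (mul_eq_zero.mp this).resolve_right ht0
    have hg01 : g.1 0 1 = g.1 1 0 * t := by linear_combination -e11
    have hd := det1 g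
    rw [hg00, hg01] at hd
    have hwg : w * g ∈ M := M.mul_mem (hS (w_mem_kS φ)) hgM
    have h4 := hD (w * g) hwg (by
      simp only [mul10, w, mk10, mk11]
      rw [hg00]
      ring)
    simp only [mul00, w, mk00, mk01] at h4
    obtain ⟨c, hc⟩ := h4
    have hc' : φ c = g.1 1 0 := by rw [hc]; ring
    apply hnot
    refine ⟨-(c ^ 2)⁻¹, ?_⟩
    rw [map_neg, map_inv₀, map_pow, hc']
    have hne : g.1 1 0 ≠ 0 := by
      intro h0
      rw [h0] at hd
      simp at hd
    field_simp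
    linear_combination hd
  · generalize (u t * l (1 : F)) ^ m = j at hj1 hjj hjx hjy
    have e00 := congrArg (fun x : SL2 F => x.1 0 0) hjx
    have e01 := congrArg (fun x : SL2 F => x.1 0 1) hjx
    have f00 := congrArg (fun x : SL2 F => x.1 0 0) hjy
    simp only [mul00, mul01, mul10, mul11, u, l, mk00, mk01, mk10, mk11] at e00 e01 f00
    have hj10 : j.1 1 0 = 0 := by
      have : t * j.1 1 0 = 0 := by linear_combination -e00
      exact (mul_eq_zero.mp this).resolve_left ht0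
    have hj01 : j.1 0 1 = 0 := by linear_combination f00
    have hj11 : j.1 1 1 = j.1 0 0 := by
      have : t * (j.1 1 1 - j.1 0 0) = 0 := by linear_combination -e01
      exact sub_eq_zero.mp ((mul_eq_zero.mp this).resolve_left ht0)
    have hd := det1 j
    rw [hj10, hj01, hj11] at hd
    have ha : j.1 0 0 = 1 := eq_one_of_sq h2 _ (by linear_combination hd)
    apply hj1
    apply sl_ext
    · rw [ha, one00]
    · rw [hj01, one01]
    · rw [hj10, one10]
    · rw [hj11, ha, one11]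

end steps

section count

variable {F : Type u} [Field F] {K : Type v} [Field K] (φ : K →+* F)

/-- An element of `M` sending `∞` to a `K`-rational point lies in `SL₂(K)`. -/
theorem mem_kS_of_ratio (M : Subgroup (SL2 F)) (hS : kS φ ≤ M)
    (hB : ∀ g ∈ M, g.1 1 0 = 0 → g ∈ kS φ) (g : SL2 F) (hg : g ∈ M) (c : K)
    (hc : g.1 0 0 = φ c * g.1 1 0) : g ∈ kS φ := by
  have hu : u (-φ c) ∈ kS φ := by
    rw [← map_neg]
    exact u_mem_kS φ (-c)
  have h1 : w * (u (-φ c) * g) ∈ M := M.mul_mem (hS (w_mem_kS φ)) (M.mul_mem (hS hu) hg)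
  have h3 := hB _ h1 (by
    simp only [mul00, mul01, mul10, mul11, u, w, mk00, mk01, mk10, mk11]
    rw [hc]
    ring)
  have h4 : g = u (φ c) * (w⁻¹ * (w * (u (-φ c) * g))) := by
    rw [inv_mul_cancel_left, ← mul_assoc, ← u_add, add_neg_cancel, u_zero, one_mul]
  rw [h4]
  exact (kS φ).mul_mem (u_mem_kS φ c) ((kS φ).mul_mem ((kS φ).inv_mem (w_mem_kS φ)) h3)

theorem diag_of_involution (h2 : (2 : F) = 0) (t : SL2 F) (htt : t * t = 1) :
    t.1 1 1 = t.1 0 0 := by
  by_contra hne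
  have e00 := congrArg (fun x : SL2 F => x.1 0 0) htt
  have e01 := congrArg (fun x : SL2 F => x.1 0 1) htt
  have e10 := congrArg (fun x : SL2 F => x.1 1 0) htt
  have e11 := congrArg (fun x : SL2 F => x.1 1 1) htt
  simp only [mul00, mul01, mul10, mul11, one00, one01, one10, one11] at e00 e01 e10 e11
  have hs : t.1 1 1 - t.1 0 0 ≠ 0 := sub_ne_zero.mpr hne
  have h01 : t.1 0 1 = 0 := by
    have : t.1 0 1 * (t.1 1 1 - t.1 0 0) = 0 := by
      linear_combination e01 - t.1 0 0 * t.1 0 1 * h2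
    exact (mul_eq_zero.mp this).resolve_right hs
  rw [h01] at e00 e11
  have ha : t.1 0 0 = 1 := eq_one_of_sq h2 _ (by linear_combination e00)
  have hd : t.1 1 1 = 1 := eq_one_of_sq h2 _ (by linear_combination e11)
  exact hne (by rw [ha, hd])

theorem rel_of_diag (t c : SL2 F) (hc : c.1 1 0 = 0) (ht : t.1 1 1 = t.1 0 0)
    (htc : (t * c).1 1 1 = (t * c).1 0 0) : t.1 1 0 * c.1 0 1 = t.1 0 0 * (c.1 0 0 - c.1 1 1) := by
  simp only [mul00, mul11] at htc
  rw [hc, ht] at htc
  linear_combination htc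

theorem eq_of_rel (c c' : SL2 F) (hc : c.1 1 0 = 0) (hc' : c'.1 1 0 = 0) (γ δ : F) (hγ : γ ≠ 0)
    (h00 : c.1 0 0 = c'.1 0 0) (h : γ * c.1 0 1 = δ * (c.1 0 0 - c.1 1 1))
    (h' : γ * c'.1 0 1 = δ * (c'.1 0 0 - c'.1 1 1)) : c = c' := by
  have hd := det1 c
  have hd' := det1 c'
  rw [hc] at hd
  rw [hc'] at hd'
  have h0 : c.1 0 0 ≠ 0 := by
    intro h0
    rw [h0] at hd
    simp at hd
  have h11 : c.1 1 1 = c'.1 1 1 := by
    have : c.1 0 0 * (c.1 1 1 - c'.1 1 1) = 0 := by
      rw [h00] at hd ⊢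
      linear_combination hd - hd'
    exact sub_eq_zero.mp ((mul_eq_zero.mp this).resolve_left h0)
  have h01 : c.1 0 1 = c'.1 0 1 := by
    have : γ * (c.1 0 1 - c'.1 0 1) = 0 := by
      rw [h00, h11] at h
      linear_combination h - h'
    exact sub_eq_zero.mp ((mul_eq_zero.mp this).resolve_left hγ)
  exact sl_ext _ _ h00 h01 (by rw [hc, hc']) h11

theorem eq_one_of_rel (h2 : (2 : F) = 0) (M : Subgroup (SL2 F)) (hS : kS φ ≤ M)
    (hB : ∀ g ∈ M, g.1 1 0 = 0 → g ∈ kS φ) (t : SL2 F) (ht : t ∈ M) (htS : t ∉ kS φ)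
    (h10 : t.1 1 0 ≠ 0) (c : SL2 F) (hc : c ∈ kS φ) (hc10 : c.1 1 0 = 0)
    (h : t.1 1 0 * c.1 0 1 = t.1 0 0 * (c.1 0 0 - c.1 1 1)) : c = 1 := by
  obtain ⟨⟨a, ha⟩, ⟨b, hb⟩, -, ⟨d, hd⟩⟩ := (mem_kS φ c).mp hc
  have hdet := det1 c
  rw [hc10] at hdet
  have hdiag : c.1 0 0 = c.1 1 1 := by
    by_contra hne
    apply htS
    have hne' : φ (a - d) ≠ 0 := by
      rw [map_sub, ha, hd]
      exact sub_ne_zero.mpr hne
    apply mem_kS_of_ratio φ M hS hB t ht (b / (a - d))
    rw [map_div₀, hb]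
    field_simp
    rw [map_sub, ha, hd]
    linear_combination -h
  have h00 : c.1 0 0 = 1 := eq_one_of_sq h2 _ (by rw [← hdiag] at hdet; linear_combination hdet)
  have h11 : c.1 1 1 = 1 := by rw [← hdiag, h00]
  have h01 : c.1 0 1 = 0 := by
    rw [h00, h11, sub_self, mul_zero] at h
    exact (mul_eq_zero.mp h).resolve_left h10
  apply sl_ext
  · rw [h00, one00]
  · rw [h01, one01]
  · rw [hc10, one10]
  · rw [h11, one11]

end count

section main

variable {F : Type u} [Field F] {K : Type v} [Field K] (φ : K →+* F)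

theorem upper_mul_inv (b b' : SL2 F) (hb : b.1 1 0 = 0) (hb' : b'.1 1 0 = 0) :
    (b * b'⁻¹).1 1 0 = 0 := by
  simp only [mul10, inv00, inv10]
  rw [hb, hb']
  ring

/-- Step 4: if `M ∩ B = B(K)` then `|M| ≤ |SL₂(K)|` (counting involutions). -/
theorem card_le [Fintype K] [Fintype F] (h2 : (2 : F) = 0) (hq : 2 < Fintype.card K)
    (M : Subgroup (SL2 F)) (hS : kS φ ≤ M) (hB : ∀ g ∈ M, g.1 1 0 = 0 → g ∈ kS φ) :
    Nat.card M ≤ Nat.card (kS φ) := by
  classical
  set Mf : Finset (SL2 F) := Finset.univ.filter (fun g => g ∈ M) with hMf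
  set Sf : Finset (SL2 F) := Finset.univ.filter (fun g => g ∈ kS φ) with hSf
  set Bf : Finset (SL2 F) := Finset.univ.filter (fun g => g ∈ M ∧ g.1 1 0 = 0) with hBf
  set If : Finset (SL2 F) := Finset.univ.filter (fun t => t ∈ M ∧ t * t = 1 ∧ t ≠ 1) with hIf
  set Kx : Finset K := Finset.univ.filter (fun c : K => c ≠ 0) with hKx
  set U0 : Finset (SL2 F) := Kx.image (fun c => u (φ c)) with hU0
  have mMf : ∀ g, g ∈ Mf ↔ g ∈ M := fun g => by simp [hMf]
  have mSf : ∀ g, g ∈ Sf ↔ g ∈ kS φ := fun g => by simp [hSf]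
  have mBf : ∀ g, g ∈ Bf ↔ (g ∈ M ∧ g.1 1 0 = 0) := fun g => by simp [hBf]
  have mIf : ∀ g, g ∈ If ↔ (g ∈ M ∧ g * g = 1 ∧ g ≠ 1) := fun g => by simp [hIf]
  have mKx : ∀ c, c ∈ Kx ↔ c ≠ 0 := fun c => by simp [hKx]
  have hn2 : 2 ≤ Kx.card := by
    have h3 : Kx.card = Fintype.card K - 1 := by
      rw [hKx, Finset.filter_ne', Finset.card_erase_of_mem (Finset.mem_univ _), Finset.card_univ]
    omega
  have hcardM : Nat.card M = Mf.card := by
    rw [Nat.card_eq_fintype_card, Fintype.card_subtype]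
  have hcardS : Nat.card (kS φ) = Sf.card := by
    rw [Nat.card_eq_fintype_card, Fintype.card_subtype]
  have hBS : Bf ⊆ Sf := by
    intro g hg
    rw [mBf] at hg
    rw [mSf]
    exact hB g hg.1 hg.2
  have hSM : Sf ⊆ Mf := by
    intro g hg
    rw [mSf] at hg
    rw [mMf]
    exact hS hg
  have hU0card : U0.card = Kx.card := by
    rw [hU0, Finset.card_image_of_injective]
    intro c c' h
    have h3 := congrArg (fun x : SL2 F => x.1 0 1) h
    simp only [u, mk01] at h3
    exact φ.injective h3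
  have hφ0 : ∀ c : K, c ≠ 0 → φ c ≠ 0 := fun c hc h0 => hc (φ.injective (by rw [h0, map_zero]))
  -- involutions of `M` are at least `|M| (q - 1) / |B|`
  have hi : Mf.card * Kx.card ≤ Bf.card * If.card := by
    rw [← hU0card, ← Finset.card_product]
    apply Finset.card_le_mul_card_image_of_maps_to
      (f := fun p : SL2 F × SL2 F => p.1 * p.2 * p.1⁻¹)
    · rintro ⟨g, v⟩ hp
      rw [Finset.mem_product, mMf, hU0, Finset.mem_image] at hp
      obtain ⟨hg, c, hc, rfl⟩ := hp
      rw [mKx] at hc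
      rw [mIf]
      refine ⟨M.mul_mem (M.mul_mem hg (hS (u_mem_kS φ c))) (M.inv_mem hg), ?_, ?_⟩
      · show g * u (φ c) * g⁻¹ * (g * u (φ c) * g⁻¹) = 1
        have : g * u (φ c) * g⁻¹ * (g * u (φ c) * g⁻¹) = g * (u (φ c) * u (φ c)) * g⁻¹ := by group
        rw [this, u_mul_self h2, mul_one, mul_inv_cancel]
      · show g * u (φ c) * g⁻¹ ≠ 1
        intro h3
        have h4 : u (φ c) = 1 := by
          have : u (φ c) = g⁻¹ * (g * u (φ c) * g⁻¹) * g := by group
          rw [this, h3]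
          group
        have h5 := congrArg (fun x : SL2 F => x.1 0 1) h4
        simp only [u, mk01, one01] at h5
        exact hφ0 c hc h5
    · intro t _
      by_cases hne : (Finset.filter (fun p : SL2 F × SL2 F => p.1 * p.2 * p.1⁻¹ = t)
          (Mf ×ˢ U0)).Nonempty
      · obtain ⟨p₀, hp₀⟩ := hne
        rw [Finset.mem_filter, Finset.mem_product, mMf, hU0, Finset.mem_image] at hp₀
        obtain ⟨⟨hg₀, c₀, hc₀, hv₀⟩, hp₀t⟩ := hp₀
        rw [mKx] at hc₀
        apply Finset.card_le_card_of_injOn (fun p : SL2 F × SL2 F => p₀.1⁻¹ * p.1)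
        · intro p hp
          rw [Finset.mem_coe, Finset.mem_filter, Finset.mem_product, mMf, hU0,
            Finset.mem_image] at hp
          obtain ⟨⟨hg, c, hc, hv⟩, hpt⟩ := hp
          rw [Finset.mem_coe, mBf]
          refine ⟨M.mul_mem (M.inv_mem hg₀) hg, ?_⟩
          have h3 : (p₀.1⁻¹ * p.1) * p.2 = p₀.2 * (p₀.1⁻¹ * p.1) := by
            have h4 : p.1 * p.2 * p.1⁻¹ = p₀.1 * p₀.2 * p₀.1⁻¹ := by rw [hpt, hp₀t]
            have h5 : p.1 * p.2 = p₀.1 * p₀.2 * p₀.1⁻¹ * p.1 := by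
              rw [← h4]
              group
            calc (p₀.1⁻¹ * p.1) * p.2 = p₀.1⁻¹ * (p.1 * p.2) := by rw [mul_assoc]
              _ = p₀.1⁻¹ * (p₀.1 * p₀.2 * p₀.1⁻¹ * p.1) := by rw [h5]
              _ = p₀.2 * (p₀.1⁻¹ * p.1) := by group
          rw [← hv, ← hv₀] at h3
          have e00 := congrArg (fun x : SL2 F => x.1 0 0) h3
          simp only [mul00, u, mk00, mk01, mk10] at e00
          have : φ c₀ * (p₀.1⁻¹ * p.1).1 1 0 = 0 := by linear_combination -e00
          exact (mul_eq_zero.mp this).resolve_left (hφ0 c₀ hc₀)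
        · intro p hp p' hp' hpp
          rw [Finset.mem_coe, Finset.mem_filter] at hp hp'
          have h3 : p.1 = p'.1 := mul_left_cancel hpp
          have h4 : p.2 = p'.2 := by
            have e1 : p.2 = p.1⁻¹ * (p.1 * p.2 * p.1⁻¹) * p.1 := by group
            have e2 : p'.2 = p'.1⁻¹ * (p'.1 * p'.2 * p'.1⁻¹) * p'.1 := by group
            rw [e1, e2, hp.2, hp'.2, h3]
          exact Prod.ext h3 h4
      · rw [Finset.not_nonempty_iff_eq_empty] at hne
        rw [hne, Finset.card_empty]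
        exact Nat.zero_le _
  have hB00 : ∀ b ∈ Bf, b.1 0 0 ≠ 0 := by
    intro b hb h0
    rw [mBf] at hb
    have hd := det1 b
    rw [h0, hb.2] at hd
    simp at hd
  have hIB10 : ∀ t ∈ If \ Bf, t.1 1 0 ≠ 0 := by
    intro t ht h0
    rw [Finset.mem_sdiff, mIf, mBf] at ht
    exact ht.2 ⟨ht.1.1, h0⟩
  have hdiag : ∀ t ∈ If \ Bf, t.1 1 1 = t.1 0 0 := by
    intro t ht
    rw [Finset.mem_sdiff, mIf] at ht
    exact diag_of_involution h2 t ht.1.2.1
  have hkey : ∀ p ∈ (If \ Bf) ×ˢ Bf, ∀ p' ∈ (If \ Bf) ×ˢ Bf, p.1 * p.2 = p'.1 * p'.2 →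
      (p.1⁻¹ * p'.1 ∈ kS φ ∧ (p.1⁻¹ * p'.1).1 1 0 = 0 ∧
        p.1.1 1 0 * (p.1⁻¹ * p'.1).1 0 1 =
          p.1.1 0 0 * ((p.1⁻¹ * p'.1).1 0 0 - (p.1⁻¹ * p'.1).1 1 1)) := by
    intro p hp p' hp' h
    rw [Finset.mem_product] at hp hp'
    have hc : p.1⁻¹ * p'.1 = p.2 * p'.2⁻¹ := by
      have h3 : p'.1 = p.1 * p.2 * p'.2⁻¹ := by rw [h]; group
      rw [h3]
      group
    have hb := (mBf _).mp hp.2
    have hb' := (mBf _).mp hp'.2
    have h10 : (p.1⁻¹ * p'.1).1 1 0 = 0 := by
      rw [hc]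
      exact upper_mul_inv _ _ hb.2 hb'.2
    have hmem : p.1⁻¹ * p'.1 ∈ kS φ := by
      rw [hc]
      exact (kS φ).mul_mem (hB _ hb.1 hb.2) ((kS φ).inv_mem (hB _ hb'.1 hb'.2))
    refine ⟨hmem, h10, ?_⟩
    apply rel_of_diag p.1 (p.1⁻¹ * p'.1) h10 (hdiag _ hp.1)
    rw [mul_inv_cancel_left]
    exact hdiag _ hp'.1
  have h1 : (((If \ Bf) ×ˢ Bf).filter (fun p : SL2 F × SL2 F => p.1 * p.2 ∈ kS φ)).card ≤
      Kx.card * (Sf \ Bf).card := by
    apply Finset.card_le_mul_card_image_of_maps_to (f := fun p : SL2 F × SL2 F => p.1 * p.2)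
    · intro p hp
      rw [Finset.mem_filter, Finset.mem_product] at hp
      obtain ⟨⟨ht, hb⟩, hS'⟩ := hp
      rw [Finset.mem_sdiff, mSf, mBf]
      refine ⟨hS', fun h => ?_⟩
      have h3 := h.2
      simp only [mul10] at h3
      rw [((mBf _).mp hb).2, mul_zero, add_zero] at h3
      rcases mul_eq_zero.mp h3 with h4 | h4
      · exact hIB10 _ ht h4
      · exact hB00 _ hb h4
    · intro g _
      by_cases hne : (Finset.filter (fun p : SL2 F × SL2 F => p.1 * p.2 = g)
          (((If \ Bf) ×ˢ Bf).filter (fun p : SL2 F × SL2 F => p.1 * p.2 ∈ kS φ))).Nonempty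
      · obtain ⟨p₀, hp₀⟩ := hne
        rw [Finset.mem_filter, Finset.mem_filter] at hp₀
        obtain ⟨⟨hp₀s, -⟩, hp₀g⟩ := hp₀
        refine le_trans ?_ (Finset.card_image_le (s := Kx) (f := φ))
        apply Finset.card_le_card_of_injOn (fun p : SL2 F × SL2 F => (p₀.1⁻¹ * p.1).1 0 0)
        · intro p hp
          rw [Finset.mem_coe, Finset.mem_filter, Finset.mem_filter] at hp
          obtain ⟨⟨hps, -⟩, hpg⟩ := hp
          obtain ⟨hmem, h10, -⟩ := hkey p₀ hp₀s p hps (by rw [hp₀g, hpg])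
          obtain ⟨⟨a, ha⟩, -⟩ := (mem_kS φ _).mp hmem
          rw [Finset.mem_coe, Finset.mem_image]
          refine ⟨a, ?_, ha⟩
          rw [mKx]
          rintro rfl
          have hd := det1 (p₀.1⁻¹ * p.1)
          rw [← ha, h10, map_zero] at hd
          simp at hd
        · intro p hp p' hp' hpp
          rw [Finset.mem_coe, Finset.mem_filter, Finset.mem_filter] at hp hp'
          obtain ⟨⟨hps, -⟩, hpg⟩ := hp
          obtain ⟨⟨hps', -⟩, hpg'⟩ := hp'
          obtain ⟨-, h10, hrel⟩ := hkey p₀ hp₀s p hps (by rw [hp₀g, hpg])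
          obtain ⟨-, h10', hrel'⟩ := hkey p₀ hp₀s p' hps' (by rw [hp₀g, hpg'])
          have hpp' : (p₀.1⁻¹ * p.1).1 0 0 = (p₀.1⁻¹ * p'.1).1 0 0 := hpp
          have hcc := eq_of_rel _ _ h10 h10' _ _ (hIB10 _ (Finset.mem_product.mp hp₀s).1) hpp'
            hrel hrel'
          have h3 : p.1 = p'.1 := mul_left_cancel hcc
          have h4 : p.2 = p'.2 := by
            have h5 : p.1 * p.2 = p'.1 * p'.2 := by rw [hpg, hpg']
            rw [h3] at h5
            exact mul_left_cancel h5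
          exact Prod.ext h3 h4
      · rw [Finset.not_nonempty_iff_eq_empty] at hne
        rw [hne, Finset.card_empty]
        exact Nat.zero_le _
  have h2' : (((If \ Bf) ×ˢ Bf).filter (fun p : SL2 F × SL2 F => ¬ p.1 * p.2 ∈ kS φ)).card ≤
      1 * (Mf \ Sf).card := by
    apply Finset.card_le_mul_card_image_of_maps_to (f := fun p : SL2 F × SL2 F => p.1 * p.2)
    · intro p hp
      rw [Finset.mem_filter, Finset.mem_product] at hp
      obtain ⟨⟨ht, hb⟩, hS'⟩ := hp
      rw [Finset.mem_sdiff, mSf, mMf]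
      refine ⟨M.mul_mem ?_ ((mBf _).mp hb).1, hS'⟩
      exact ((mIf _).mp (Finset.mem_sdiff.mp ht).1).1
    · intro g _
      rw [Finset.card_le_one]
      intro p hp p' hp'
      rw [Finset.mem_filter, Finset.mem_filter] at hp hp'
      obtain ⟨⟨hps, hpS⟩, hpg⟩ := hp
      obtain ⟨⟨hps', -⟩, hpg'⟩ := hp'
      obtain ⟨hmem, h10, hrel⟩ := hkey p hps p' hps' (by rw [hpg, hpg'])
      have hpM : p.1 ∈ M :=
        ((mIf _).mp (Finset.mem_sdiff.mp (Finset.mem_product.mp hps).1).1).1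
      have hpnS : p.1 ∉ kS φ := by
        intro h
        apply hpS
        have hb := (mBf _).mp (Finset.mem_product.mp hps).2
        exact (kS φ).mul_mem h (hB _ hb.1 hb.2)
      have hc1 := eq_one_of_rel φ h2 M hS hB p.1 hpM hpnS
        (hIB10 _ (Finset.mem_product.mp hps).1) _ hmem h10 hrel
      have h3 : p.1 = p'.1 := by
        have h5 : p'.1 = p.1 * (p.1⁻¹ * p'.1) := by group
        rw [h5, hc1, mul_one]
      have h4 : p.2 = p'.2 := by
        have h5 : p.1 * p.2 = p'.1 * p'.2 := by rw [hpg, hpg']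
        rw [h3] at h5
        exact mul_left_cancel h5
      exact Prod.ext h3 h4
  have hsplit := Finset.card_filter_add_card_filter_not (s := (If \ Bf) ×ˢ Bf)
    (fun p : SL2 F × SL2 F => p.1 * p.2 ∈ kS φ)
  rw [Finset.card_product] at hsplit
  have hsd1 : (Sf \ Bf).card = Sf.card - Bf.card := Finset.card_sdiff_of_subset hBS
  have hsd2 : (Mf \ Sf).card = Mf.card - Sf.card := Finset.card_sdiff_of_subset hSM
  have hle1 : Bf.card ≤ Sf.card := Finset.card_le_card hBS
  have hle2 : Sf.card ≤ Mf.card := Finset.card_le_card hSM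
  have hIB : If.card ≤ (If \ Bf).card + Kx.card := by
    rw [← Finset.card_sdiff_add_card_inter If Bf, ← hU0card]
    apply Nat.add_le_add_left
    apply Finset.card_le_card
    intro t ht
    rw [Finset.mem_inter, mIf, mBf] at ht
    obtain ⟨⟨htM, htt, ht1⟩, -, ht10⟩ := ht
    have hd := diag_of_involution h2 t htt
    have hdet := det1 t
    rw [ht10, hd] at hdet
    have h00 : t.1 0 0 = 1 := eq_one_of_sq h2 _ (by linear_combination hdet)
    obtain ⟨-, ⟨b, hb⟩, -, -⟩ := (mem_kS φ t).mp (hB t htM ht10)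
    rw [hU0, Finset.mem_image]
    refine ⟨b, ?_, ?_⟩
    · rw [mKx]
      rintro rfl
      apply ht1
      apply sl_ext
      · rw [h00, one00]
      · rw [← hb, map_zero, one01]
      · rw [ht10, one10]
      · rw [hd, h00, one11]
    · apply sl_ext
      · simp [u, h00]
      · simp [u, hb]
      · simp [u, ht10]
      · simp [u, hd, h00]
  rw [hcardM, hcardS]
  rw [hsd1] at h1
  rw [hsd2, one_mul] at h2'
  by_contra hlt
  push Not at hlt
  have e1 : Bf.card * If.card ≤ Bf.card * ((If \ Bf).card + Kx.card) :=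
    Nat.mul_le_mul_left _ hIB
  have e2 : Kx.card * (Sf.card - Bf.card) + Bf.card * Kx.card = Kx.card * Sf.card := by
    rw [mul_comm Bf.card Kx.card, ← Nat.mul_add, Nat.sub_add_cancel hle1]
  have e3 : Mf.card * Kx.card ≤ Kx.card * Sf.card + (Mf.card - Sf.card) := by
    calc Mf.card * Kx.card ≤ Bf.card * If.card := hi
      _ ≤ Bf.card * ((If \ Bf).card + Kx.card) := e1
      _ = (If \ Bf).card * Bf.card + Bf.card * Kx.card := by ring
      _ ≤ (Kx.card * (Sf.card - Bf.card) + (Mf.card - Sf.card)) + Bf.card * Kx.card := by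
          rw [← hsplit]
          exact Nat.add_le_add_right (Nat.add_le_add h1 h2') _
      _ = Kx.card * Sf.card + (Mf.card - Sf.card) := by rw [← e2]; ring
  obtain ⟨d, hd⟩ : ∃ d, Mf.card = Sf.card + d := ⟨Mf.card - Sf.card, by omega⟩
  rw [hd] at e3
  have e4 : Sf.card + d - Sf.card = d := by omega
  rw [e4] at e3
  have hd1 : 1 ≤ d := by omega
  nlinarith

end main

section final

variable {F : Type u} [Field F] {K : Type v} [Field K] (φ : K →+* F)

/-- `SL₂(K)` is a maximal subgroup of `SL₂(F)` (characteristic two, `[F : K]` prime,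
`|K| > 2`). -/
theorem maximal [Fintype K] [Fintype F] (h2 : (2 : F) = 0) (hq : 2 < Fintype.card K) (r : ℕ)
    (hr : r.Prime) (hF : Fintype.card F = Fintype.card K ^ r) (M : Subgroup (SL2 F))
    (hS : kS φ ≤ M) (hne : M ≠ kS φ) : M = ⊤ := by
  by_cases hD : ∀ g ∈ M, g.1 1 0 = 0 → g.1 0 0 ∈ Set.range φ
  · exfalso
    apply hne
    have hE : ∀ t, u t ∈ M → t ∈ Set.range φ := unip_sub φ h2 M hS hD
    have hB : ∀ g ∈ M, g.1 1 0 = 0 → g ∈ kS φ := by
      intro g hg hg10
      obtain ⟨a, ha⟩ := hD g hg hg10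
      have hdet := det1 g
      rw [hg10, ← ha] at hdet
      have ha0 : φ a ≠ 0 := by
        intro h0
        rw [h0] at hdet
        simp at hdet
      have hv : g * (dg (φ a) ha0)⁻¹ = u (g.1 0 1 * φ a) := by
        apply sl_ext
        · simp only [mul00, mul01, mul10, mul11, inv00, inv01, inv10, inv11, dg, u, mk00, mk01,
            mk10, mk11]
          rw [← ha]
          field_simp
          ring
        · simp only [mul00, mul01, mul10, mul11, inv00, inv01, inv10, inv11, dg, u, mk00, mk01,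
            mk10, mk11]
          ring
        · simp only [mul00, mul01, mul10, mul11, inv00, inv01, inv10, inv11, dg, u, mk00, mk01,
            mk10, mk11]
          rw [hg10]
          ring
        · simp only [mul00, mul01, mul10, mul11, inv00, inv01, inv10, inv11, dg, u, mk00, mk01,
            mk10, mk11]
          rw [hg10]
          linear_combination hdet
      have hvM : u (g.1 0 1 * φ a) ∈ M := by
        rw [← hv]
        exact M.mul_mem hg (M.inv_mem (hS (dg_mem_kS φ a ha0)))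
      obtain ⟨b, hb⟩ := hE _ hvM
      have h3 : g = u (φ b) * dg (φ a) ha0 := by
        rw [hb, ← hv]
        group
      rw [h3]
      exact (kS φ).mul_mem (u_mem_kS φ b) (dg_mem_kS φ a ha0)
    exact (Subgroup.eq_of_le_of_card_ge hS (card_le φ h2 hq M hS hB)).symm
  · push Not at hD
    obtain ⟨g, hg, hg10, ha⟩ := hD
    exact top_of_torus φ h2 r hr hF M hS g hg hg10 ha

theorem map_injective : Function.Injective (Matrix.SpecialLinearGroup.map (n := Fin 2) φ) := by
  intro g g' h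
  apply sl_ext
  · exact φ.injective (congrArg (fun x : SL2 F => x.1 0 0) h)
  · exact φ.injective (congrArg (fun x : SL2 F => x.1 0 1) h)
  · exact φ.injective (congrArg (fun x : SL2 F => x.1 1 0) h)
  · exact φ.injective (congrArg (fun x : SL2 F => x.1 1 1) h)

end final

/-- For `q ≠ 2` even and `r` prime, `PSL₂(q)` is (isomorphic to) a maximal subgroup of
`PSL₂(q^r)`. -/
theorem exists_coatom {F : Type u} {K : Type v} [Field F] [Fintype F] [Field K] [Fintype K]
    (q r : ℕ) (hK : Fintype.card K = q) (hF : Fintype.card F = q ^ r) (hq : Even q) (hq2 : q ≠ 2)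
    (hr : r.Prime) : ∃ H : Subgroup (PSL2 F), IsCoatom H ∧ Nonempty (H ≃* PSL2 K) := by
  subst hK
  obtain ⟨φ⟩ := exists_ringHom_of_card_pow (F := K) (K := F) rfl hF
  have h2K : (2 : K) = 0 := by
    apply PSL2Sub.two_eq_zero_of_ringChar
    rw [FiniteField.even_card_iff_char_two]
    exact Nat.even_iff.mp hq
  have h2 : (2 : F) = 0 := by
    rw [← map_ofNat φ 2, h2K, map_zero]
  have hq' : 2 < Fintype.card K := by
    obtain ⟨k, hk⟩ := hq
    have h1 : 1 < Fintype.card K := Fintype.one_lt_card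
    omega
  have hinj := PSL2Sub.pr_injective_of_two h2
  have hsurj : Function.Surjective (pr (F := F)) := pr_surjective
  refine ⟨(kS φ).map pr, ⟨?_, ?_⟩, ?_⟩
  · intro htop
    have h3 : kS φ = ⊤ := by
      apply Subgroup.map_injective hinj
      rw [htop, ← MonoidHom.range_eq_map, MonoidHom.range_eq_top.mpr hsurj]
    have h4 : Function.Surjective φ := by
      intro t
      have h5 : u t ∈ kS φ := by rw [h3]; exact Subgroup.mem_top _
      exact ((mem_kS φ _).mp h5).2.1
    have h6 := Fintype.card_le_of_surjective φ h4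
    rw [hF] at h6
    have h7 : Fintype.card K ^ 2 ≤ Fintype.card K ^ r :=
      Nat.pow_le_pow_right (by omega) hr.two_le
    nlinarith
  · intro M hM
    have h3 : kS φ ≤ M.comap pr := by
      intro x hx
      exact hM.le (Subgroup.mem_map_of_mem _ hx)
    have h4 : M.comap pr ≠ kS φ := by
      intro h5
      apply hM.ne
      rw [← h5, Subgroup.map_comap_eq_self_of_surjective hsurj]
    have h5 := maximal φ h2 hq' r hr hF (M.comap pr) h3 h4
    rw [← Subgroup.map_comap_eq_self_of_surjective hsurj M, h5, ← MonoidHom.range_eq_map,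
      MonoidHom.range_eq_top.mpr hsurj]
  · have e1 : kS φ ≃* (kS φ).map pr := (kS φ).equivMapOfInjective pr hinj
    have e2 : SL2 K ≃* kS φ := MonoidHom.ofInjective (map_injective φ)
    have e3 : SL2 K ≃* PSL2 K :=
      MulEquiv.ofBijective (pr (F := K)) ⟨PSL2Sub.pr_injective_of_two h2K, pr_surjective⟩
    exact ⟨(e1.symm.trans e2.symm).trans e3⟩

end Cfsg.Agent.Helper40.SL2Max
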