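import Mathlib
import Cfsg.Agent.Helper40.SL2Max
import Cfsg.Agent.Helper41.DkMax2

/-!
# Subgroups of `SL₂(q)`, `q` even: tori, their normalisers, Borel subgroups (helper40)

Counting lemmas in characteristic two used for the list of maximal subgroups of `PSL₂(q)`,
`q` even.
-/

set_option autoImplicit false
set_option linter.unusedSimpArgs false
set_option linter.unusedSectionVars false

namespace Cfsg.Agent.Helper40.SL2Even

open Matrix Cfsg.Agent.Helper44 Cfsg.Agent.Helper40 Cfsg.Agent.Helper40.SL2Max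

universe u

section count

variable {F : Type u} [Field F]

theorem neg_eq_self (h2 : (2 : F) = 0) (a : F) : -a = a := by
  linear_combination (-a) * h2

theorem add_self_zero (h2 : (2 : F) = 0) (a : F) : a + a = 0 := by
  linear_combination a * h2

theorem quad_aux1 (h2 : (2 : F) = 0) (τ a b : F) (hb : b ≠ 0)
    (h : a ^ 2 + τ * a * b + b ^ 2 = 1) :
    ((a + 1) / b) ^ 2 + τ * ((a + 1) / b) + 1 = τ / b := by
  have e : ((a + 1) / b) ^ 2 + τ * ((a + 1) / b) + 1
      = ((a + 1) ^ 2 + τ * (a + 1) * b + b ^ 2) / b ^ 2 := by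
    field_simp
  rw [e, div_eq_div_iff (pow_ne_zero 2 hb) hb]
  linear_combination b * h + (b + a * b) * h2

theorem quad_aux2 (h2 : (2 : F) = 0) (τ m : F) (hm : m ^ 2 + τ * m + 1 ≠ 0) :
    (1 + m * (τ / (m ^ 2 + τ * m + 1))) ^ 2 + τ * (1 + m * (τ / (m ^ 2 + τ * m + 1))) *
      (τ / (m ^ 2 + τ * m + 1)) + (τ / (m ^ 2 + τ * m + 1)) ^ 2 = 1 := by
  obtain ⟨b, hb⟩ : ∃ b : F, b = τ / (m ^ 2 + τ * m + 1) := ⟨_, rfl⟩
  rw [← hb]
  have hb' : b * (m ^ 2 + τ * m + 1) = τ := by
    rw [hb]; exact div_mul_cancel₀ τ hm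
  linear_combination (b) * hb' + (m * b + τ * b) * h2

/-- The conic `a² + τ a b + b² = 1` in characteristic two, parametrised by the lines through
`(1, 0)`. -/
noncomputable def quadEquiv (h2 : (2 : F) = 0) (τ : F) (hτ : τ ≠ 0) :
    {v : F × F // v.1 ^ 2 + τ * v.1 * v.2 + v.2 ^ 2 = 1} ≃
      Option {m : F // m ^ 2 + τ * m + 1 ≠ 0} := by
  classical
  exact
  { toFun := fun v =>
      if h : v.1.2 = 0 then none
      else some ⟨(v.1.1 + 1) / v.1.2, by
        rw [quad_aux1 h2 τ v.1.1 v.1.2 h v.2]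
        exact div_ne_zero hτ h⟩
    invFun := fun o =>
      match o with
      | none => ⟨(1, 0), by simp⟩
      | some m => ⟨(1 + m.1 * (τ / (m.1 ^ 2 + τ * m.1 + 1)), τ / (m.1 ^ 2 + τ * m.1 + 1)),
          quad_aux2 h2 τ m.1 m.2⟩
    left_inv := by
      rintro ⟨⟨a, b⟩, hv⟩
      by_cases hb : b = 0
      · subst hb
        have ha : a = 1 := by
          apply eq_one_of_sq h2
          simp only at hv
          linear_combination hv
        subst ha
        simp
      · simp only [hb, dite_false]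
        have h1 := quad_aux1 h2 τ a b hb hv
        apply Subtype.ext
        simp only at h1 ⊢
        rw [h1]
        have h3 : τ / (τ / b) = b := by field_simp
        rw [h3]
        apply Prod.ext
        · show 1 + (a + 1) / b * b = a
          rw [div_mul_cancel₀ _ hb]
          linear_combination h2
        · rfl
    right_inv := by
      rintro (_ | ⟨m, hm⟩)
      · simp
      · have hb : τ / (m ^ 2 + τ * m + 1) ≠ 0 := div_ne_zero hτ hm
        simp only [hb, dite_false]
        congr 1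
        apply Subtype.ext
        show (1 + m * (τ / (m ^ 2 + τ * m + 1)) + 1) / (τ / (m ^ 2 + τ * m + 1)) = m
        rw [div_eq_iff hb]
        linear_combination h2 }

end count

section count2

variable {F : Type u} [Field F] [Fintype F]

theorem card_roots (h2 : (2 : F) = 0) (τ : F) (hτ : τ ≠ 0) :
    Nat.card {m : F // m ^ 2 + τ * m + 1 = 0} = 0 ∨
      Nat.card {m : F // m ^ 2 + τ * m + 1 = 0} = 2 := by
  classical
  by_cases h : ∃ lam : F, lam ^ 2 + τ * lam + 1 = 0
  · right
    obtain ⟨lam, hlam⟩ := h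
    rw [Nat.card_eq_fintype_card, Fintype.card_subtype]
    have e : (Finset.univ.filter fun m : F => m ^ 2 + τ * m + 1 = 0) = {lam, lam + τ} := by
      ext m
      simp only [Finset.mem_filter, Finset.mem_univ, true_and, Finset.mem_insert,
        Finset.mem_singleton]
      constructor
      · intro hm
        have h3 : (m - lam) * (m + lam + τ) = 0 := by linear_combination hm - hlam
        rcases mul_eq_zero.mp h3 with h4 | h4
        · left; exact sub_eq_zero.mp h4
        · right; linear_combination h4 - (lam + τ) * h2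
      · rintro (rfl | rfl)
        · exact hlam
        · linear_combination hlam + (lam * τ + τ ^ 2) * h2
    rw [e, Finset.card_pair]
    intro h5
    apply hτ
    linear_combination -h5
  · left
    push Not at h
    rw [Nat.card_eq_zero]
    left
    exact ⟨fun m => h m.1 m.2⟩

/-- The number of points of the conic `a² + τ a b + b² = 1`, `τ ≠ 0`, characteristic two. -/
theorem card_quadric (h2 : (2 : F) = 0) (τ : F) (hτ : τ ≠ 0) :
    Nat.card {v : F × F // v.1 ^ 2 + τ * v.1 * v.2 + v.2 ^ 2 = 1} = Fintype.card F - 1 ∨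
    Nat.card {v : F × F // v.1 ^ 2 + τ * v.1 * v.2 + v.2 ^ 2 = 1} = Fintype.card F + 1 := by
  classical
  rw [Nat.card_congr (quadEquiv h2 τ hτ)]
  have h1 : Nat.card (Option {m : F // m ^ 2 + τ * m + 1 ≠ 0}) =
      Nat.card {m : F // m ^ 2 + τ * m + 1 ≠ 0} + 1 := by
    rw [Nat.card_eq_fintype_card, Nat.card_eq_fintype_card, Fintype.card_option]
  have h3 : Nat.card {m : F // m ^ 2 + τ * m + 1 ≠ 0} =
      Fintype.card F - Nat.card {m : F // m ^ 2 + τ * m + 1 = 0} := by
    rw [Nat.card_eq_fintype_card, Nat.card_eq_fintype_card]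
    exact Fintype.card_subtype_compl _
  have hq : 2 ≤ Fintype.card F := Fintype.one_lt_card
  rw [h1, h3]
  rcases card_roots h2 τ hτ with h | h
  · right; rw [h]; omega
  · left; rw [h]; omega

end count2

section nx

variable {G : Type*} [Group G]

/-- The elements conjugating `x` to `x` or to `x⁻¹`. -/
def Nx (x : G) : Subgroup G where
  carrier := {g | g * x * g⁻¹ = x ∨ g * x * g⁻¹ = x⁻¹}
  mul_mem' := by
    intro g h hg hh
    have e : g * h * x * (g * h)⁻¹ = g * (h * x * h⁻¹) * g⁻¹ := by group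
    show g * h * x * (g * h)⁻¹ = x ∨ g * h * x * (g * h)⁻¹ = x⁻¹
    rw [e]
    rcases hh with hh | hh
    · rw [hh]; exact hg
    · rw [hh]
      have e2 : g * x⁻¹ * g⁻¹ = (g * x * g⁻¹)⁻¹ := by group
      rw [e2]
      rcases hg with hg | hg
      · right; rw [hg]
      · left; rw [hg, inv_inv]
  one_mem' := Or.inl (by group)
  inv_mem' := by
    intro g hg
    show g⁻¹ * x * g⁻¹⁻¹ = x ∨ g⁻¹ * x * g⁻¹⁻¹ = x⁻¹
    rcases hg with hg | hg
    · left
      calc g⁻¹ * x * g⁻¹⁻¹ = g⁻¹ * (g * x * g⁻¹) * g := by rw [hg, inv_inv]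
        _ = x := by group
    · right
      have h1 : x = g⁻¹ * x⁻¹ * g := by rw [← hg]; group
      calc g⁻¹ * x * g⁻¹⁻¹ = (g⁻¹ * x⁻¹ * g)⁻¹ := by group
        _ = x⁻¹ := by rw [← h1]

theorem mem_Nx {x g : G} : g ∈ Nx x ↔ g * x * g⁻¹ = x ∨ g * x * g⁻¹ = x⁻¹ := Iff.rfl

theorem mem_cent_iff {x g : G} : g ∈ Subgroup.centralizer ({x} : Set G) ↔ g * x * g⁻¹ = x := by
  rw [Subgroup.mem_centralizer_iff]
  constructor
  · intro h
    have := h x rfl
    rw [← this]; group
  · rintro h y rfl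
    calc y * g = (g * y * g⁻¹) * g := by rw [h]
      _ = g * y := by group

theorem cent_le_Nx (x : G) : Subgroup.centralizer ({x} : Set G) ≤ Nx x :=
  fun _ hg => Or.inl (mem_cent_iff.mp hg)

/-- `|N(x)| = 2 |C(x)|` when some element inverts `x ≠ x⁻¹`. -/
theorem card_Nx [Finite G] (x t : G) (hx : x ≠ x⁻¹) (ht : t * x * t⁻¹ = x⁻¹) :
    Nat.card (Nx x) = 2 * Nat.card (Subgroup.centralizer ({x} : Set G)) := by
  have hidx : ((Subgroup.centralizer ({x} : Set G)).subgroupOf (Nx x)).index = 2 := by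
    rw [Subgroup.index_eq_two_iff]
    refine ⟨⟨t, Or.inr ht⟩, ?_⟩
    rintro ⟨b, hb⟩
    simp only [Subgroup.mem_subgroupOf, Subgroup.coe_mul, mem_cent_iff]
    have e : b * t * x * (b * t)⁻¹ = (b * x * b⁻¹)⁻¹ := by
      calc b * t * x * (b * t)⁻¹ = b * (t * x * t⁻¹) * b⁻¹ := by group
        _ = b * x⁻¹ * b⁻¹ := by rw [ht]
        _ = (b * x * b⁻¹)⁻¹ := by group
    rw [e]
    rcases hb with hb | hb
    · right
      refine ⟨hb, ?_⟩
      rw [hb]; exact fun h => hx h.symm
    · left
      refine ⟨by rw [hb, inv_inv], ?_⟩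
      rw [hb]; exact fun h => hx h.symm
  rw [← Subgroup.index_mul_card ((Subgroup.centralizer ({x} : Set G)).subgroupOf (Nx x)), hidx,
    Nat.card_congr (Subgroup.subgroupOfEquivOfLe (cent_le_Nx x)).toEquiv]

end nx

section sl2

variable {F : Type u} [Field F]

/-- In characteristic two every element of `SL₂(F)` is inverted by an involution. -/
theorem exists_inverter (h2 : (2 : F) = 0) (x : SL2 F) : ∃ t : SL2 F, t * x * t⁻¹ = x⁻¹ := by
  have key : ∀ t : SL2 F, t * x = x⁻¹ * t → t * x * t⁻¹ = x⁻¹ := by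
    intro t h; rw [h]; group
  by_cases hb : x.1 0 1 = 0
  · by_cases hc : x.1 1 0 = 0
    · refine ⟨w, key _ ?_⟩
      apply Cfsg.Agent.Helper42.SL2.sl_ext
      · simp only [mul00, mul01, mul10, mul11, inv00, inv01, inv10, inv11, w, mk00, mk01, mk10,
          mk11]
        linear_combination hc - hb
      · simp only [mul00, mul01, mul10, mul11, inv00, inv01, inv10, inv11, w, mk00, mk01, mk10,
          mk11]
        ring
      · simp only [mul00, mul01, mul10, mul11, inv00, inv01, inv10, inv11, w, mk00, mk01, mk10,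
          mk11]
        ring
      · simp only [mul00, mul01, mul10, mul11, inv00, inv01, inv10, inv11, w, mk00, mk01, mk10,
          mk11]
        linear_combination hc - hb
    · obtain ⟨s, hs⟩ : ∃ s : F, s * x.1 1 0 = x.1 0 0 + x.1 1 1 :=
        ⟨(x.1 0 0 + x.1 1 1) / x.1 1 0, div_mul_cancel₀ _ hc⟩
      refine ⟨u s, key _ ?_⟩
      apply Cfsg.Agent.Helper42.SL2.sl_ext
      · simp only [mul00, mul01, mul10, mul11, inv00, inv01, inv10, inv11, u, mk00, mk01, mk10,
          mk11]
        linear_combination hs + x.1 0 0 * h2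
      · simp only [mul00, mul01, mul10, mul11, inv00, inv01, inv10, inv11, u, mk00, mk01, mk10,
          mk11]
        linear_combination x.1 0 1 * h2
      · simp only [mul00, mul01, mul10, mul11, inv00, inv01, inv10, inv11, u, mk00, mk01, mk10,
          mk11]
        linear_combination x.1 1 0 * h2
      · simp only [mul00, mul01, mul10, mul11, inv00, inv01, inv10, inv11, u, mk00, mk01, mk10,
          mk11]
        linear_combination hs + x.1 1 1 * h2
  · obtain ⟨s, hs⟩ : ∃ s : F, s * x.1 0 1 = x.1 0 0 + x.1 1 1 :=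
      ⟨(x.1 0 0 + x.1 1 1) / x.1 0 1, div_mul_cancel₀ _ hb⟩
    refine ⟨l s, key _ ?_⟩
    apply Cfsg.Agent.Helper42.SL2.sl_ext
    · simp only [mul00, mul01, mul10, mul11, inv00, inv01, inv10, inv11, l, mk00, mk01, mk10,
        mk11]
      linear_combination hs + x.1 0 0 * h2
    · simp only [mul00, mul01, mul10, mul11, inv00, inv01, inv10, inv11, l, mk00, mk01, mk10,
        mk11]
      linear_combination x.1 0 1 * h2
    · simp only [mul00, mul01, mul10, mul11, inv00, inv01, inv10, inv11, l, mk00, mk01, mk10,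
        mk11]
      linear_combination x.1 1 0 * h2
    · simp only [mul00, mul01, mul10, mul11, inv00, inv01, inv10, inv11, l, mk00, mk01, mk10,
        mk11]
      linear_combination hs + x.1 1 1 * h2

theorem ne_inv_of_tr (h2 : (2 : F) = 0) (x : SL2 F) (htr : x.1 0 0 + x.1 1 1 ≠ 0) : x ≠ x⁻¹ := by
  intro h
  have h1 : x * x = 1 := by
    nth_rewrite 2 [h]
    exact mul_inv_cancel x
  have h3 := diag_of_involution h2 x h1
  apply htr
  rw [h3]
  linear_combination x.1 0 0 * h2

theorem nonScalar_of_tr (h2 : (2 : F) = 0) (x : SL2 F) (htr : x.1 0 0 + x.1 1 1 ≠ 0) :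
    Cfsg.Agent.Helper42.SL2.NonScalar x.1 := by
  rintro ⟨-, -, h⟩
  apply htr
  rw [h]
  linear_combination x.1 1 1 * h2

/-- The order of the normaliser of a torus of `SL₂(q)`, `q` even. -/
theorem card_Nx_sl2 [Fintype F] (h2 : (2 : F) = 0) (x : SL2 F) (htr : x.1 0 0 + x.1 1 1 ≠ 0) :
    Nat.card (Nx x) = 2 * (Fintype.card F - 1) ∨ Nat.card (Nx x) = 2 * (Fintype.card F + 1) := by
  obtain ⟨t, ht⟩ := exists_inverter h2 x
  rw [card_Nx x t (ne_inv_of_tr h2 x htr) ht,
    Cfsg.Agent.Helper42.SL2.card_centralizer x (nonScalar_of_tr h2 x htr)]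
  rcases card_quadric h2 (x.1 0 0 + x.1 1 1) htr with h | h
  · left; rw [h]
  · right; rw [h]

theorem card_sl2_gt [Fintype F] (h4 : 4 ≤ Fintype.card F) :
    2 * (Fintype.card F + 1) < Nat.card (SL2 F) ∧
      Fintype.card F * (Fintype.card F - 1) < Nat.card (SL2 F) := by
  rw [Cfsg.Agent.Helper42.SL2.card_SL2]
  obtain ⟨m, hm⟩ : ∃ m, Fintype.card F = m + 4 := ⟨Fintype.card F - 4, by omega⟩
  rw [hm]
  have e : (m + 4) ^ 2 - 1 = m ^ 2 + 8 * m + 15 := by
    have : (m + 4) ^ 2 = m ^ 2 + 8 * m + 15 + 1 := by ring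
    omega
  have e2 : m + 4 - 1 = m + 3 := by omega
  rw [e, e2]
  constructor <;> nlinarith

/-- A maximal subgroup of `SL₂(q)`, `q ≥ 4` even, normalising a torus has order `2 (q ± 1)`. -/
theorem card_of_torus [Fintype F] (h2 : (2 : F) = 0) (h4 : 4 ≤ Fintype.card F)
    (Mt : Subgroup (SL2 F)) (hM : IsCoatom Mt) (x : SL2 F) (htr : x.1 0 0 + x.1 1 1 ≠ 0)
    (hN : ∀ g ∈ Mt, g * x * g⁻¹ = x ∨ g * x * g⁻¹ = x⁻¹) :
    Nat.card Mt = 2 * (Fintype.card F - 1) ∨ Nat.card Mt = 2 * (Fintype.card F + 1) := by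
  have hle : Mt ≤ Nx x := fun g hg => hN g hg
  have hne : Nx x ≠ ⊤ := by
    intro h
    have h1 : Nat.card (Nx x) = Nat.card (SL2 F) := by rw [h, Subgroup.card_top]
    have h3 := (card_sl2_gt (F := F) h4).1
    rcases card_Nx_sl2 h2 x htr with h5 | h5 <;> omega
  rcases hM.le_iff.mp hle with h | h
  · exact absurd h hne
  · rw [← h]; exact card_Nx_sl2 h2 x htr

/-- A maximal subgroup of `SL₂(q)`, `q ≥ 4`, fixing a line is a Borel subgroup. -/
theorem card_of_borel [Fintype F] (h4 : 4 ≤ Fintype.card F) (Mt : Subgroup (SL2 F))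
    (hM : IsCoatom Mt) (v : Fin 2 → F) (hv : v ≠ 0)
    (hfix : ∀ g ∈ Mt, ∃ c : F, g.1 *ᵥ v = c • v) :
    Nat.card Mt = Fintype.card F * (Fintype.card F - 1) := by
  obtain ⟨Q0, hQ0⟩ := Cfsg.Agent.Helper41.Dk.exists_conj_borel v hv
  have hcard : Nat.card ((Cfsg.Agent.Helper41.Dk.Bor (F := F)).map
      (MulAut.conj Q0).toMonoidHom) = Fintype.card F * (Fintype.card F - 1) := by
    rw [Subgroup.card_map_of_injective (MulAut.conj Q0).injective]
    exact Cfsg.Agent.Helper41.Dk.card_Bor
  have hle : Mt ≤ (Cfsg.Agent.Helper41.Dk.Bor (F := F)).map (MulAut.conj Q0).toMonoidHom := by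
    intro g hg
    refine ⟨Q0⁻¹ * g * Q0, hQ0 g (hfix g hg), ?_⟩
    simp only [MulEquiv.coe_toMonoidHom, MulAut.conj_apply]
    group
  have hne : (Cfsg.Agent.Helper41.Dk.Bor (F := F)).map (MulAut.conj Q0).toMonoidHom ≠ ⊤ := by
    intro h
    rw [h, Subgroup.card_top] at hcard
    have h3 := (card_sl2_gt (F := F) h4).2
    exact absurd hcard (ne_of_gt h3)
  rcases hM.le_iff.mp hle with h | h
  · exact absurd h hne
  · rw [← h]; exact hcard

end sl2

end Cfsg.Agent.Helper40.SL2Even
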