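import Mathlib
import Cfsg.Agent.Helper40.SL2Even

/-!
# Maximal subgroups of `SL₂(q)`, `q ≥ 4` even (helper40)

Every maximal subgroup of `SL₂(q)`, `q = 2^n ≥ 4`, is a Borel subgroup (order `q (q - 1)`), the
normaliser of a torus (dihedral of order `2 (q ± 1)`) or a subfield subgroup `SL₂(q₀)`,
`q = q₀^r`, `r` prime, `q₀ ≠ 2`.  Consumer of the Dickson classification of helper41.
-/

set_option autoImplicit false
set_option linter.unusedSimpArgs false
set_option linter.unusedSectionVars false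

namespace Cfsg.Agent.Helper40.SL2Even

open Matrix Cfsg.Agent.Helper44 Cfsg.Agent.Helper40 Cfsg.Agent.Helper40.SL2Max
open Cfsg.Agent.Helper40.PresSmall Cfsg.Agent.Helper89

universe u

section vec

variable {F : Type u} [Field F]

theorem mulVec_eq_iff (A : Matrix (Fin 2) (Fin 2) F) (v w : Fin 2 → F) :
    A *ᵥ v = w ↔ A 0 0 * v 0 + A 0 1 * v 1 = w 0 ∧ A 1 0 * v 0 + A 1 1 * v 1 = w 1 := by
  constructor
  · intro h
    have e0 := congrFun h 0
    have e1 := congrFun h 1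
    simp only [Matrix.mulVec, dotProduct, Fin.sum_univ_two] at e0 e1
    exact ⟨e0, e1⟩
  · rintro ⟨e0, e1⟩
    funext i
    fin_cases i
    · simpa [Matrix.mulVec, dotProduct, Fin.sum_univ_two] using e0
    · simpa [Matrix.mulVec, dotProduct, Fin.sum_univ_two] using e1

/-- The fixed line of an involution of `SL₂(F)`, characteristic two. -/
theorem inv_fix_line (h2 : (2 : F) = 0) (T : SL2 F) (hTT : T * T = 1) (hT1 : T ≠ 1) :
    ∃ v : Fin 2 → F, v ≠ 0 ∧ T.1 *ᵥ v = v ∧ ∀ w : Fin 2 → F, T.1 *ᵥ w = w → ∃ c : F, w = c • v := by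
  have hd := diag_of_involution h2 T hTT
  have hdet := det1 T
  rw [hd] at hdet
  by_cases hb : T.1 0 1 = 0
  · have ha : T.1 0 0 = 1 := by
      apply eq_one_of_sq h2
      rw [hb] at hdet
      linear_combination hdet
    have hc : T.1 1 0 ≠ 0 := by
      intro hc
      apply hT1
      apply Cfsg.Agent.Helper42.SL2.sl_ext
      · rw [ha, one00]
      · rw [hb, one01]
      · rw [hc, one10]
      · rw [hd, ha, one11]
    refine ⟨![0, 1], ?_, ?_, ?_⟩
    · intro h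
      have := congrFun h 1
      simp at this
    · rw [mulVec_eq_iff]
      simp only [Matrix.cons_val_zero, Matrix.cons_val_one, Matrix.head_cons]
      rw [hb, hd, ha]
      constructor <;> ring
    · intro w hw
      rw [mulVec_eq_iff] at hw
      obtain ⟨-, e1⟩ := hw
      rw [hd, ha] at e1
      have h0 : w 0 = 0 := by
        have : T.1 1 0 * w 0 = 0 := by linear_combination e1
        exact (mul_eq_zero.mp this).resolve_left hc
      refine ⟨w 1, ?_⟩
      funext i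
      fin_cases i
      · simp [h0]
      · simp
  · refine ⟨![T.1 0 1, T.1 0 0 + 1], ?_, ?_, ?_⟩
    · intro h
      have := congrFun h 0
      simp at this
      exact hb this
    · rw [mulVec_eq_iff]
      simp only [Matrix.cons_val_zero, Matrix.cons_val_one, Matrix.head_cons]
      rw [hd]
      constructor
      · linear_combination T.1 0 0 * T.1 0 1 * h2
      · linear_combination hdet + (T.1 0 1 * T.1 1 0) * h2
    · intro w hw
      rw [mulVec_eq_iff] at hw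
      obtain ⟨e0, -⟩ := hw
      refine ⟨w 0 / T.1 0 1, ?_⟩
      funext i
      fin_cases i
      · simp only [Fin.zero_eta, Pi.smul_apply, Matrix.cons_val_zero, smul_eq_mul]
        rw [div_mul_cancel₀ _ hb]
      · show w 1 = w 0 / T.1 0 1 * (T.1 0 0 + 1)
        rw [div_mul_eq_mul_div, eq_div_iff hb]
        linear_combination e0 - (T.1 0 0 * w 0) * h2

theorem coe_mul_mulVec (g h : SL2 F) (v : Fin 2 → F) : (g * h).1 *ᵥ v = g.1 *ᵥ (h.1 *ᵥ v) := by
  rw [Matrix.SpecialLinearGroup.coe_mul, Matrix.mulVec_mulVec]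

/-- A subgroup normalising a four-group of `SL₂(F)`, characteristic two, fixes a line. -/
theorem fix_of_klein (h2 : (2 : F) = 0) (Mt : Subgroup (SL2 F)) (T T' : SL2 F) (hTT : T * T = 1)
    (hT1 : T ≠ 1) (hT'T' : T' * T' = 1) (hcomm : T * T' = T' * T)
    (hconj : ∀ g ∈ Mt, g * T * g⁻¹ = T ∨ g * T * g⁻¹ = T' ∨ g * T * g⁻¹ = T * T') :
    ∃ v : Fin 2 → F, v ≠ 0 ∧ ∀ g ∈ Mt, ∃ c : F, g.1 *ᵥ v = c • v := by
  obtain ⟨v, hv, hTv, huniq⟩ := inv_fix_line h2 T hTT hT1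
  have hT'v : T'.1 *ᵥ v = v := by
    have h1 : T.1 *ᵥ (T'.1 *ᵥ v) = T'.1 *ᵥ v := by
      rw [← coe_mul_mulVec, hcomm, coe_mul_mulVec, hTv]
    obtain ⟨c, hc⟩ := huniq _ h1
    have h3 : T'.1 *ᵥ (T'.1 *ᵥ v) = v := by
      rw [← coe_mul_mulVec, hT'T', Matrix.SpecialLinearGroup.coe_one, Matrix.one_mulVec]
    rw [hc, Matrix.mulVec_smul, hc, smul_smul] at h3
    have h4 : (c * c - 1) • v = 0 := by rw [sub_smul, h3, one_smul, sub_self]
    have h5 : c * c = 1 := by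
      rcases smul_eq_zero.mp h4 with h | h
      · exact sub_eq_zero.mp h
      · exact absurd h hv
    rw [hc, eq_one_of_sq h2 c h5, one_smul]
  refine ⟨v, hv, fun g hg => ?_⟩
  obtain ⟨S, hS⟩ : ∃ S : SL2 F, S = g⁻¹ * T * g⁻¹⁻¹ := ⟨_, rfl⟩
  have hSv : S.1 *ᵥ v = v := by
    rcases hconj g⁻¹ (Mt.inv_mem hg) with h | h | h
    · rw [hS, h]; exact hTv
    · rw [hS, h]; exact hT'v
    · rw [hS, h, coe_mul_mulVec, hT'v, hTv]
  have hTg : T * g = g * S := by rw [hS]; group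
  apply huniq
  rw [← coe_mul_mulVec, hTg, coe_mul_mulVec, hSv]

end vec

section grp

theorem a4_conj : ∀ g : alternatingGroup (Fin 4), g * a4a * g⁻¹ = a4a ∨
    g * a4a * g⁻¹ = a4b * a4a * a4b⁻¹ ∨ g * a4a * g⁻¹ = a4a * (a4b * a4a * a4b⁻¹) := by
  decide

theorem a4_inv2 : (a4b * a4a * a4b⁻¹) * (a4b * a4a * a4b⁻¹) = 1 := by decide

theorem a5_r1 : a5a * a5a = 1 := by decide

theorem a5_r2 : a5a ≠ 1 := by decide

theorem a5_r3 : a5b * a5b = a5b⁻¹ := by decide

theorem a5_r4 : a5b ≠ 1 := by decide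

theorem a5_r5 : (a5a * a5b) * (a5a * a5b) * (a5a * a5b) = (a5a * a5b)⁻¹ * (a5a * a5b)⁻¹ := by
  decide

theorem a5_r6 : a5a * a5b ≠ 1 := by decide

theorem ev_mem {G : Type*} [Group G] (S : Subgroup G) (g : ℕ → G) (hg : ∀ j, g j ∈ S)
    (w : List ℕ) : ev g w ∈ S := by
  induction w with
  | nil => exact S.one_mem
  | cons j w ih => exact S.mul_mem (hg j) ih

/-- Every subgroup containing the images of the two generators contains the image of `A₅`. -/
theorem a5_gen {G : Type*} [Group G] (f : alternatingGroup (Fin 5) →* G) (S : Subgroup G)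
    (ha : f a5a ∈ S) (hb : f a5b ∈ S) (z : alternatingGroup (Fin 5)) : f z ∈ S := by
  obtain ⟨c, -, rfl⟩ := el_cover ![a5a, a5b] wordsA5 60 a5_card a5_nodup z
  unfold el
  rw [map_ev]
  apply ev_mem
  intro j
  rw [map_sym]
  have h1 := sym_mem_closure (fun i => f (![a5a, a5b] i)) j
  have h2 : Subgroup.closure (Set.range fun i => f (![a5a, a5b] i)) ≤ S := by
    rw [Subgroup.closure_le]
    rintro _ ⟨i, rfl⟩
    fin_cases i
    · exact ha
    · exact hb
  exact h2 h1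

/-- A group of order six has an element of order three which every element centralises or
inverts. -/
theorem order_six {G : Type*} [Group G] (h : Nat.card G = 6) :
    ∃ x : G, orderOf x = 3 ∧ ∀ g : G, g * x * g⁻¹ = x ∨ g * x * g⁻¹ = x⁻¹ := by
  have : Finite G := Nat.finite_of_card_ne_zero (by rw [h]; norm_num)
  have : Fintype G := Fintype.ofFinite G
  have : Fact (Nat.Prime 3) := ⟨Nat.prime_three⟩
  obtain ⟨x, hx⟩ := exists_prime_orderOf_dvd_card (G := G) 3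
    (by rw [← Nat.card_eq_fintype_card, h]; norm_num)
  refine ⟨x, hx, fun g => ?_⟩
  have hcard : Nat.card (Subgroup.zpowers x) = 3 := by rw [Nat.card_zpowers, hx]
  have hidx : (Subgroup.zpowers x).index = 2 := by
    have := Subgroup.card_mul_index (Subgroup.zpowers x)
    rw [hcard, h] at this
    omega
  have hn : (Subgroup.zpowers x).Normal := Subgroup.normal_of_index_eq_two hidx
  have hmem : g * x * g⁻¹ ∈ Subgroup.zpowers x := hn.conj_mem x (Subgroup.mem_zpowers x) g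
  have hx3 : x ^ 3 = 1 := by rw [← hx]; exact pow_orderOf_eq_one x
  rw [← mem_powers_iff_mem_zpowers, Submonoid.mem_powers_iff] at hmem
  obtain ⟨n, hn'⟩ := hmem
  rw [← pow_mod_orderOf, hx] at hn'
  have hlt : n % 3 < 3 := Nat.mod_lt _ (by norm_num)
  interval_cases hk : n % 3
  · exfalso
    rw [pow_zero] at hn'
    have h1 : x = 1 := by
      have : g * x * g⁻¹ = g * 1 * g⁻¹ := by rw [← hn']; group
      exact mul_left_cancel (mul_right_cancel this)
    rw [h1, orderOf_one] at hx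
    omega
  · left; rw [← hn', pow_one]
  · right
    rw [← hn']
    apply eq_inv_of_mul_eq_one_left
    rw [← pow_succ, hx3]

end grp

section traces

variable {F : Type u} [Field F]

/-- An element of order three of `SL₂` has trace `-1`. -/
theorem tr_of_cube (Y : SL2 F) (hY : Y * Y = Y⁻¹) (hY1 : Y ≠ 1) : tr2 Y + 1 = 0 := by
  have hA : Y.1 * Y.1 = tr2 Y • Y.1 - 1 := sl2_sq Y
  have hB : (Y⁻¹).1 = tr2 Y • (1 : Matrix (Fin 2) (Fin 2) F) - Y.1 :=
    eq_sub_of_add_eq' (sl2_add_inv Y)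
  have h3 : Y.1 * Y.1 = (Y⁻¹).1 := by
    rw [← Matrix.SpecialLinearGroup.coe_mul, hY]
  have key : (tr2 Y + 1) • (Y.1 - 1) = 0 := by
    have e : (tr2 Y + 1) • (Y.1 - 1) =
        (tr2 Y • Y.1 - 1) - (tr2 Y • (1 : Matrix (Fin 2) (Fin 2) F) - Y.1) := by
      module
    rw [e, ← hA, ← hB, h3, sub_self]
  rcases smul_eq_zero.mp key with h | h
  · exact h
  · exfalso
    apply hY1
    apply Subtype.ext
    rw [Matrix.SpecialLinearGroup.coe_one]
    exact sub_eq_zero.mp h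

/-- An element of order five of `SL₂` has trace `σ` with `σ² + σ - 1 = 0`. -/
theorem tr_of_fifth (Z : SL2 F) (hZ : Z * Z * Z = Z⁻¹ * Z⁻¹) (hZ1 : Z ≠ 1) :
    tr2 Z * tr2 Z + tr2 Z - 1 = 0 := by
  have hA : Z.1 * Z.1 = tr2 Z • Z.1 - 1 := sl2_sq Z
  have hB : (Z⁻¹).1 = tr2 Z • (1 : Matrix (Fin 2) (Fin 2) F) - Z.1 :=
    eq_sub_of_add_eq' (sl2_add_inv Z)
  have ht : tr2 Z⁻¹ = tr2 Z := by
    unfold tr2
    rw [inv00, inv11, add_comm]
  have hBB : (Z⁻¹).1 * (Z⁻¹).1 = tr2 Z • (Z⁻¹).1 - 1 := by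
    rw [← ht]; exact sl2_sq Z⁻¹
  have hA3 : Z.1 * Z.1 * Z.1 = (tr2 Z * tr2 Z) • Z.1 - tr2 Z • (1 : Matrix (Fin 2) (Fin 2) F)
      - Z.1 := by
    rw [hA, Matrix.sub_mul, Matrix.smul_mul, hA, Matrix.one_mul, smul_sub, smul_smul]
  have h5 : Z.1 * Z.1 * Z.1 = (Z⁻¹).1 * (Z⁻¹).1 := by
    rw [← Matrix.SpecialLinearGroup.coe_mul, ← Matrix.SpecialLinearGroup.coe_mul,
      ← Matrix.SpecialLinearGroup.coe_mul, hZ]
  have key : (tr2 Z * tr2 Z + tr2 Z - 1) • (Z.1 - 1) = 0 := by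
    have e : (tr2 Z * tr2 Z + tr2 Z - 1) • (Z.1 - 1) =
        ((tr2 Z * tr2 Z) • Z.1 - tr2 Z • (1 : Matrix (Fin 2) (Fin 2) F) - Z.1) -
          (tr2 Z • (tr2 Z • (1 : Matrix (Fin 2) (Fin 2) F) - Z.1) - 1) := by
      module
    rw [e, ← hA3, ← hB, ← hBB, h5, sub_self]
  rcases smul_eq_zero.mp key with h | h
  · exact h
  · exfalso
    apply hZ1
    apply Subtype.ext
    rw [Matrix.SpecialLinearGroup.coe_one]
    exact sub_eq_zero.mp h

/-- Involutions of `SL₂(q)`, `q` even, are conjugate to `u 1`. -/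
theorem inv_conj_u [Finite F] (h2 : (2 : F) = 0) (X : SL2 F) (hX : X * X = 1) (hX1 : X ≠ 1) :
    ∃ g : SL2 F, g * X * g⁻¹ = u 1 := by
  obtain ⟨v, hv, hXv, -⟩ := inv_fix_line h2 X hX hX1
  obtain ⟨Q0, hQ0⟩ := Cfsg.Agent.Helper41.Dk.exists_conj_borel v hv
  have h10 : (Q0⁻¹ * X * Q0).1 1 0 = 0 := hQ0 X ⟨1, by rw [hXv, one_smul]⟩
  obtain ⟨X1, hX1def⟩ : ∃ X1 : SL2 F, X1 = Q0⁻¹ * X * Q0 := ⟨_, rfl⟩
  rw [← hX1def] at h10
  have hX1X1 : X1 * X1 = 1 := by
    rw [hX1def]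
    calc Q0⁻¹ * X * Q0 * (Q0⁻¹ * X * Q0) = Q0⁻¹ * (X * X) * Q0 := by group
      _ = 1 := by rw [hX]; group
  have hX1ne : X1 ≠ 1 := by
    intro h
    apply hX1
    have : X = Q0 * X1 * Q0⁻¹ := by rw [hX1def]; group
    rw [this, h]; group
  have hd := diag_of_involution h2 X1 hX1X1
  have hdet := det1 X1
  rw [hd, h10] at hdet
  have h00 : X1.1 0 0 = 1 := eq_one_of_sq h2 _ (by linear_combination hdet)
  have hu : X1 = u (X1.1 0 1) := by
    apply Cfsg.Agent.Helper42.SL2.sl_ext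
    · rw [h00]; rfl
    · rfl
    · rw [h10]; rfl
    · rw [hd, h00]; rfl
  have hb : X1.1 0 1 ≠ 0 := by
    intro hb
    apply hX1ne
    rw [hu, hb, u_zero]
  have : CharP F 2 := CharTwo.of_one_ne_zero_of_two_eq_zero one_ne_zero h2
  have : Fintype F := Fintype.ofFinite F
  obtain ⟨s, hs⟩ := FiniteField.isSquare_of_char_two (ringChar.eq F 2) (X1.1 0 1)⁻¹
  have hs0 : s ≠ 0 := by
    rintro rfl
    rw [mul_zero] at hs
    exact inv_ne_zero hb hs
  refine ⟨dg s hs0 * Q0⁻¹, ?_⟩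
  have e : dg s hs0 * Q0⁻¹ * X * (dg s hs0 * Q0⁻¹)⁻¹ = dg s hs0 * X1 * (dg s hs0)⁻¹ := by
    rw [hX1def]; group
  rw [e, hu, conj_u _ (by simp [dg]) ]
  congr 1
  simp only [dg, mk00]
  rw [pow_two, ← hs, inv_mul_cancel₀ hb]

/-- The normal form of a `(2, 3, 5)`-generating pair with first generator `u 1`. -/
theorem a5_aux (h2 : (2 : F) = 0) (Y : SL2 F) (hY : Y * Y = Y⁻¹) (hY1 : Y ≠ 1)
    (hZ : (u 1 * Y) * (u 1 * Y) * (u 1 * Y) = (u 1 * Y)⁻¹ * (u 1 * Y)⁻¹) (hZ1 : u 1 * Y ≠ 1) :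
    ∃ s : F, ∀ i j, ((u s * Y * (u s)⁻¹).1 i j) ^ 4 = (u s * Y * (u s)⁻¹).1 i j := by
  have htY := tr_of_cube Y hY hY1
  have htZ := tr_of_fifth (u 1 * Y) hZ hZ1
  have hdet := det1 Y
  unfold tr2 at htY htZ
  simp only [mul00, mul01, mul10, mul11, u, mk00, mk01, mk10, mk11] at htZ
  obtain ⟨a, ha⟩ : ∃ a : F, a = Y.1 0 0 := ⟨_, rfl⟩
  obtain ⟨b, hb⟩ : ∃ b : F, b = Y.1 0 1 := ⟨_, rfl⟩
  obtain ⟨c, hc⟩ : ∃ c : F, c = Y.1 1 0 := ⟨_, rfl⟩
  obtain ⟨d, hd⟩ : ∃ d : F, d = Y.1 1 1 := ⟨_, rfl⟩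
  rw [← ha, ← hb, ← hc, ← hd] at htZ hdet
  rw [← ha, ← hd] at htY
  have hcc : c * c + c + 1 = 0 := by
    linear_combination htZ - (2 * c - 1 + (a + d + 1)) * htY + (c + 1) * h2
  have hc0 : c ≠ 0 := by
    rintro rfl
    simp at hcc
  have hc3 : c ^ 3 = 1 := by linear_combination (c - 1) * hcc
  refine ⟨a / c, ?_⟩
  have hsc : a / c * c = a := div_mul_cancel₀ a hc0
  obtain ⟨s, hs⟩ : ∃ s : F, s = a / c := ⟨_, rfl⟩
  rw [← hs] at hsc ⊢
  have e00 : (u s * Y * (u s)⁻¹).1 0 0 = 0 := by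
    simp only [mul00, mul01, mul10, mul11, inv00, inv01, inv10, inv11, u, mk00, mk01, mk10, mk11]
    rw [← ha, ← hc]
    linear_combination hsc + a * h2
  have e10 : (u s * Y * (u s)⁻¹).1 1 0 = c := by
    simp only [mul00, mul01, mul10, mul11, inv00, inv01, inv10, inv11, u, mk00, mk01, mk10, mk11]
    rw [← hc]
    ring
  have e11 : (u s * Y * (u s)⁻¹).1 1 1 = 1 := by
    simp only [mul00, mul01, mul10, mul11, inv00, inv01, inv10, inv11, u, mk00, mk01, mk10, mk11]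
    rw [← hc, ← hd]
    linear_combination -hsc + htY - (a + 1) * h2
  have e01 : (u s * Y * (u s)⁻¹).1 0 1 = c ^ 2 := by
    have h1 : c * (u s * Y * (u s)⁻¹).1 0 1 = 1 := by
      simp only [mul00, mul01, mul10, mul11, inv00, inv01, inv10, inv11, u, mk00, mk01, mk10,
        mk11]
      rw [← ha, ← hb, ← hc, ← hd]
      linear_combination hdet + (b * c - a * a) * h2 + (d - 2 * a - s * c) * hsc
    calc (u s * Y * (u s)⁻¹).1 0 1 = c ^ 3 * (u s * Y * (u s)⁻¹).1 0 1 := by rw [hc3, one_mul]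
      _ = c ^ 2 * (c * (u s * Y * (u s)⁻¹).1 0 1) := by ring
      _ = c ^ 2 := by rw [h1, mul_one]
  intro i j
  fin_cases i <;> fin_cases j
  · show ((u s * Y * (u s)⁻¹).1 0 0) ^ 4 = (u s * Y * (u s)⁻¹).1 0 0
    rw [e00]; ring
  · show ((u s * Y * (u s)⁻¹).1 0 1) ^ 4 = (u s * Y * (u s)⁻¹).1 0 1
    rw [e01]
    linear_combination (c ^ 5 + c ^ 2) * hc3
  · show ((u s * Y * (u s)⁻¹).1 1 0) ^ 4 = (u s * Y * (u s)⁻¹).1 1 0
    rw [e10]
    linear_combination c * hc3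
  · show ((u s * Y * (u s)⁻¹).1 1 1) ^ 4 = (u s * Y * (u s)⁻¹).1 1 1
    rw [e11]; ring

/-- A `(2, 3, 5)`-generating pair of `SL₂(q)`, `q` even, is conjugate to a pair of matrices over
the field with four elements. -/
theorem a5_conj [Finite F] (h2 : (2 : F) = 0) (X Y : SL2 F) (hX : X * X = 1) (hX1 : X ≠ 1)
    (hY : Y * Y = Y⁻¹) (hY1 : Y ≠ 1)
    (hXY : (X * Y) * (X * Y) * (X * Y) = (X * Y)⁻¹ * (X * Y)⁻¹) (hXY1 : X * Y ≠ 1) :
    ∃ g : SL2 F, (∀ i j, ((g * X * g⁻¹).1 i j) ^ 4 = (g * X * g⁻¹).1 i j) ∧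
      ∀ i j, ((g * Y * g⁻¹).1 i j) ^ 4 = (g * Y * g⁻¹).1 i j := by
  obtain ⟨g1, hg1⟩ := inv_conj_u h2 X hX hX1
  obtain ⟨Y1, hY1def⟩ : ∃ Y1 : SL2 F, Y1 = g1 * Y * g1⁻¹ := ⟨_, rfl⟩
  have hYY : Y1 * Y1 = Y1⁻¹ := by
    rw [hY1def]
    calc g1 * Y * g1⁻¹ * (g1 * Y * g1⁻¹) = g1 * (Y * Y) * g1⁻¹ := by group
      _ = (g1 * Y * g1⁻¹)⁻¹ := by rw [hY]; group
  have hY1ne : Y1 ≠ 1 := by
    intro h
    apply hY1
    have : Y = g1⁻¹ * Y1 * g1 := by rw [hY1def]; group
    rw [this, h]; group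
  have hZdef : u 1 * Y1 = g1 * (X * Y) * g1⁻¹ := by
    rw [← hg1, hY1def]; group
  have hZ : (u 1 * Y1) * (u 1 * Y1) * (u 1 * Y1) = (u 1 * Y1)⁻¹ * (u 1 * Y1)⁻¹ := by
    rw [hZdef]
    calc g1 * (X * Y) * g1⁻¹ * (g1 * (X * Y) * g1⁻¹) * (g1 * (X * Y) * g1⁻¹)
        = g1 * ((X * Y) * (X * Y) * (X * Y)) * g1⁻¹ := by group
      _ = (g1 * (X * Y) * g1⁻¹)⁻¹ * (g1 * (X * Y) * g1⁻¹)⁻¹ := by rw [hXY]; group
  have hZ1 : u 1 * Y1 ≠ 1 := by
    rw [hZdef]
    intro h
    apply hXY1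
    have : X * Y = g1⁻¹ * (g1 * (X * Y) * g1⁻¹) * g1 := by group
    rw [this, h]; group
  obtain ⟨s, hs⟩ := a5_aux h2 Y1 hYY hY1ne hZ hZ1
  refine ⟨u s * g1, ?_, ?_⟩
  · have e : u s * g1 * X * (u s * g1)⁻¹ = u s * u 1 * (u s)⁻¹ := by
      rw [← hg1]; group
    rw [e, conj_u _ (by simp [u])]
    have e2 : (u (s : F)).1 0 0 ^ 2 * 1 = (1 : F) := by simp [u]
    rw [e2]
    intro i j
    fin_cases i <;> fin_cases j
    · show ((u (1 : F)).1 0 0) ^ 4 = (u (1 : F)).1 0 0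
      simp [u]
    · show ((u (1 : F)).1 0 1) ^ 4 = (u (1 : F)).1 0 1
      simp [u]
    · show ((u (1 : F)).1 1 0) ^ 4 = (u (1 : F)).1 1 0
      simp [u]
    · show ((u (1 : F)).1 1 1) ^ 4 = (u (1 : F)).1 1 1
      simp [u]
  · have e : u s * g1 * Y * (u s * g1)⁻¹ = u s * Y1 * (u s)⁻¹ := by
      rw [hY1def]; group
    rw [e]
    exact hs

end traces

section fields

variable {F : Type u} [Field F]

theorem exists_unit_order [Fintype F] : ∃ g : Fˣ, orderOf g = Fintype.card F - 1 := by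
  obtain ⟨g, hg⟩ := IsCyclic.exists_generator (α := Fˣ)
  exact ⟨g, by
    rw [orderOf_eq_card_of_forall_mem_zpowers hg, Nat.card_units, Nat.card_eq_fintype_card]⟩

theorem unit_pow_pred (g : Fˣ) (N : ℕ) (hN : 1 ≤ N) (h : (g : F) ^ N = g) : g ^ (N - 1) = 1 := by
  apply Units.ext
  rw [Units.val_pow_eq_pow_val, Units.val_one]
  have h1 : (g : F) ^ (N - 1) * g = 1 * g := by
    rw [← pow_succ, Nat.sub_add_cancel hN, h, one_mul]
  exact mul_right_cancel₀ g.ne_zero h1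

theorem card_le_of_forall_pow [Fintype F] (N : ℕ) (hN : 2 ≤ N) (h : ∀ x : F, x ^ N = x) :
    Fintype.card F ≤ N := by
  obtain ⟨g, hg⟩ := exists_unit_order (F := F)
  have h1 := orderOf_dvd_of_pow_eq_one (unit_pow_pred g N (by omega) (h g))
  rw [hg] at h1
  have := Nat.le_of_dvd (by omega) h1
  omega

theorem exists_unit_of_dvd [Fintype F] (d : ℕ) (hd : d ∣ Fintype.card F - 1) :
    ∃ y : Fˣ, orderOf y = d := by
  obtain ⟨g, hg⟩ := exists_unit_order (F := F)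
  have hq : 2 ≤ Fintype.card F := Fintype.one_lt_card
  have hpos : Fintype.card F - 1 ≠ 0 := by omega
  obtain ⟨e, he⟩ := hd
  have he0 : e ≠ 0 := by rintro rfl; rw [mul_zero] at he; exact hpos he
  refine ⟨g ^ e, ?_⟩
  rw [orderOf_pow_of_dvd he0 (by rw [hg, he]; exact dvd_mul_left e d), hg, he]
  exact Nat.mul_div_cancel _ (Nat.pos_of_ne_zero he0)

theorem u_mem_SK_iff (K1 : Subfield F) (t : F) :
    u t ∈ Cfsg.Agent.Helper41.Dk.SK K1 ↔ t ∈ K1 := by
  constructor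
  · intro h; exact h 0 1
  · intro h
    rw [Cfsg.Agent.Helper41.Dk.mem_SK, Cfsg.Agent.Helper41.Dk.memK_iff]
    exact ⟨K1.one_mem, h, K1.zero_mem, K1.one_mem⟩

/-- The fixed field of the `k`-th power of the Frobenius map. -/
def Kfix (F : Type u) [Field F] [CharP F 2] (k : ℕ) : Subfield F :=
  RingHom.eqLocusField (iterateFrobenius F 2 k) (RingHom.id F)

theorem mem_Kfix [CharP F 2] {k : ℕ} {x : F} : x ∈ Kfix F k ↔ x ^ 2 ^ k = x := Iff.rfl

theorem Kfix_ne_top [CharP F 2] [Fintype F] (k : ℕ) (hk : 1 ≤ k) (hlt : 2 ^ k < Fintype.card F) :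
    Kfix F k ≠ ⊤ := by
  intro h
  have h1 : ∀ x : F, x ^ 2 ^ k = x := fun x => mem_Kfix.mp (by rw [h]; trivial)
  have h3 : 2 ≤ 2 ^ k := by
    calc 2 = 2 ^ 1 := rfl
      _ ≤ 2 ^ k := Nat.pow_le_pow_right (by norm_num) hk
  have := card_le_of_forall_pow (2 ^ k) h3 h1
  omega

/-- A maximal subgroup of `SL₂(q)`, `q ≥ 4` even, normalising a torus is dihedral of order
`2 (q ± 1)`. -/
theorem torus_final [Fintype F] [CharP F 2] (h4 : 4 ≤ Fintype.card F) (Mt : Subgroup (SL2 F))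
    (hM : IsCoatom Mt) (x : SL2 F) (hxM : x ∈ Mt) (htr : x.1 0 0 + x.1 1 1 ≠ 0)
    (hN : ∀ g ∈ Mt, g * x * g⁻¹ = x ∨ g * x * g⁻¹ = x⁻¹) :
    Nonempty (Mt ≃* DihedralGroup (Fintype.card F - 1)) ∨
      Nonempty (Mt ≃* DihedralGroup (Fintype.card F + 1)) := by
  classical
  have h2 : (2 : F) = 0 := CharTwo.two_eq_zero
  have hcen := Cfsg.Agent.Helper5.center_SL2_eq_bot h2
  have hcard := card_of_torus h2 h4 Mt hM x htr hN
  have hZ : ∀ g : Mt, g ∈ (⊥ : Subgroup Mt) ↔ Mt.subtype g ∈ Subgroup.center (SL2 F) := by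
    intro g
    rw [hcen, Subgroup.mem_bot, Subgroup.mem_bot]
    constructor
    · rintro rfl; rfl
    · intro h; exact Subtype.ext h
  have hxZ : (⟨x, hxM⟩ : Mt) ∉ (⊥ : Subgroup Mt) := by
    rw [Subgroup.mem_bot]
    intro h
    have h1 : x = 1 := congrArg Subtype.val h
    apply htr
    rw [h1, one00, one11]
    linear_combination h2
  have ht : Cfsg.Agent.Helper41.Dk.tr (Mt.subtype ⟨x, hxM⟩) ^ 2 ≠ 4 := by
    rw [Cfsg.Agent.Helper41.Dk.tr_eq]
    intro h
    have h4' : (4 : F) = 0 := by linear_combination 2 * h2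
    rw [h4'] at h
    exact htr (pow_eq_zero_iff two_ne_zero |>.mp h)
  have hx : ∀ g : Mt, g * ⟨x, hxM⟩ * g⁻¹ = ⟨x, hxM⟩ ∨
      g * ⟨x, hxM⟩ * g⁻¹ = (⟨x, hxM⟩ : Mt)⁻¹ := by
    intro g
    rcases hN g.1 g.2 with h | h
    · left; exact Subtype.ext h
    · right; exact Subtype.ext h
  obtain ⟨k, hk, hk2⟩ := Cfsg.Agent.Helper41.Dk.torus_concl Mt.subtype 2 Subtype.val_injective ⊥
    hZ ⟨x, hxM⟩ hxZ ht hx
  rw [Subgroup.card_bot, mul_one] at hk
  rcases hk2 with ⟨-, hc⟩ | ⟨⟨e⟩⟩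
  · exfalso
    rw [Nat.card_congr (QuotientGroup.quotientBot (G := Mt)).toEquiv] at hc
    rcases hk with h | h
    · have := Nat.le_of_dvd (by omega) h
      rcases hcard with h' | h' <;> omega
    · have := Nat.le_of_dvd (by omega) h
      rcases hcard with h' | h' <;> omega
  · have hc : Nat.card Mt = 2 * k := by
      rw [Nat.card_congr ((QuotientGroup.quotientBot (G := Mt)).symm.trans e).toEquiv,
        DihedralGroup.nat_card]
    rcases hcard with h' | h'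
    · left
      have : k = Fintype.card F - 1 := by omega
      rw [← this]; exact ⟨(QuotientGroup.quotientBot (G := Mt)).symm.trans e⟩
    · right
      have : k = Fintype.card F + 1 := by omega
      rw [← this]; exact ⟨(QuotientGroup.quotientBot (G := Mt)).symm.trans e⟩

end fields

section tail

variable {F : Type u} [Field F]

/-- A maximal subgroup of `SL₂(q)`, `q ≥ 4` even, conjugate into a proper subfield subgroup
normalises a torus or is `SL₂(q₀)` with `q = q₀^r`, `r` prime, `q₀ ≠ 2`. -/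
theorem subfield_case [Fintype F] [CharP F 2] (h4 : 4 ≤ Fintype.card F) (Mt : Subgroup (SL2 F))
    (hM : IsCoatom Mt) (c : SL2 F ≃* SL2 F) (K0 : Subfield F) (hK0 : K0 ≠ ⊤)
    (hc : ∀ g ∈ Mt, c g ∈ Cfsg.Agent.Helper41.Dk.SK K0) :
    (∃ x ∈ Mt, x.1 0 0 + x.1 1 1 ≠ 0 ∧ ∀ g ∈ Mt, g * x * g⁻¹ = x ∨ g * x * g⁻¹ = x⁻¹) ∨
    (∃ (F₀ : Type) (_ : Field F₀) (_ : Fintype F₀) (r : ℕ), r.Prime ∧ Fintype.card F₀ ≠ 2 ∧
        Fintype.card F = Fintype.card F₀ ^ r ∧ Nonempty (Mt ≃* PSL2 F₀)) := by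
  classical
  have h2 : (2 : F) = 0 := CharTwo.two_eq_zero
  have hcomap : ∀ K1 : Subfield F, K0 ≤ K1 → K1 ≠ ⊤ →
      (Cfsg.Agent.Helper41.Dk.SK K1).comap c.toMonoidHom = Mt := by
    intro K1 h01 hK1
    have hle : Mt ≤ (Cfsg.Agent.Helper41.Dk.SK K1).comap c.toMonoidHom :=
      fun g hg => fun i j => h01 (hc g hg i j)
    rcases hM.le_iff.mp hle with h | h
    · exfalso
      apply hK1
      rw [eq_top_iff]
      intro t _
      have h1 : c.symm (u t) ∈ (Cfsg.Agent.Helper41.Dk.SK K1).comap c.toMonoidHom := by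
        rw [h]; exact Subgroup.mem_top _
      have h3 : u t ∈ Cfsg.Agent.Helper41.Dk.SK K1 := by
        have h5 := Subgroup.mem_comap.mp h1
        rw [MulEquiv.coe_toMonoidHom, MulEquiv.apply_symm_apply] at h5
        exact h5
      exact (u_mem_SK_iff K1 t).mp h3
    · exact h
  have hS0 := hcomap K0 le_rfl hK0
  obtain ⟨K, hKf, hKfin, m, φ, hcard, hφ⟩ := Cfsg.Agent.Helper41.Dk.exists_small_field 2 K0
  have hcen : Subgroup.center (SL2 F) = ⊥ := Cfsg.Agent.Helper5.center_SL2_eq_bot h2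
  have hZ : ∀ g : Mt, g ∈ (⊥ : Subgroup Mt) ↔
      (c.toMonoidHom.comp Mt.subtype) g ∈ Subgroup.center (SL2 F) := by
    intro g
    rw [hcen, Subgroup.mem_bot, Subgroup.mem_bot]
    constructor
    · rintro rfl
      exact map_one _
    · intro h
      have h1 : c g.1 = c 1 := by rw [map_one]; exact h
      exact Subtype.ext (c.injective h1)
  have hr : ∀ g : SL2 F, g ∈ (c.toMonoidHom.comp Mt.subtype).range ↔
      Cfsg.Agent.Helper41.Dk.MemK K0 g.1 := by
    intro g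
    constructor
    · rintro ⟨m, rfl⟩
      exact hc m.1 m.2
    · intro hg
      have h1 : c.symm g ∈ Mt := by
        rw [← hS0, Subgroup.mem_comap, MulEquiv.coe_toMonoidHom, MulEquiv.apply_symm_apply]
        exact hg
      exact ⟨⟨c.symm g, h1⟩, c.apply_symm_apply g⟩
  obtain ⟨e0⟩ := Cfsg.Agent.Helper41.Dk.sl2K_case φ K0 (c.toMonoidHom.comp Mt.subtype) ⊥ hφ hZ hr
  obtain ⟨e⟩ : Nonempty (Mt ≃* PSL2 K) := ⟨(QuotientGroup.quotientBot (G := Mt)).symm.trans e0⟩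
  have h2K : (2 : K) = 0 := two_eq_zero_K φ h2
  have hQ2 : 2 ≤ Fintype.card K := Fintype.one_lt_card
  by_cases hK2 : Fintype.card K = 2
  · left
    have hcardM : Nat.card Mt = 6 := by
      rw [Nat.card_congr e.toEquiv]
      have h5 := Cfsg.Agent.Helper5.card_PSL2_mul (F := K)
      rw [Cfsg.Agent.Helper5.center_SL2_eq_bot h2K, Subgroup.card_bot, mul_one, hK2] at h5
      exact h5
    obtain ⟨x, hx3, hx⟩ := order_six hcardM
    refine ⟨x.1, x.2, ?_, ?_⟩
    · intro htr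
      have hsq := sl2_sq x.1
      have htr2 : tr2 x.1 = 0 := htr
      rw [htr2, zero_smul, zero_sub] at hsq
      have hchar : (1 : Matrix (Fin 2) (Fin 2) F) + 1 = 0 := by
        rw [← two_smul F (1 : Matrix (Fin 2) (Fin 2) F), h2, zero_smul]
      have h1 : (x.1 * x.1 : SL2 F) = 1 := by
        apply Subtype.ext
        rw [Matrix.SpecialLinearGroup.coe_mul, hsq, Matrix.SpecialLinearGroup.coe_one]
        exact neg_eq_of_add_eq_zero_left hchar
      have h3 : x * x = 1 := Subtype.ext h1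
      have h5 : orderOf x ∣ 2 := orderOf_dvd_of_pow_eq_one (by rw [pow_two]; exact h3)
      rw [hx3] at h5
      norm_num at h5
    · intro g hg
      rcases hx ⟨g, hg⟩ with h | h
      · left; exact congrArg Subtype.val h
      · right; exact congrArg Subtype.val h
  · right
    refine ⟨K, hKf, hKfin, m, ?_, hK2, hcard.symm, ⟨e⟩⟩
    have hm0 : m ≠ 0 := by
      rintro rfl
      rw [pow_zero] at hcard
      omega
    have hcardK0 : Nat.card K0 = Fintype.card K := by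
      rw [← Nat.card_eq_fintype_card]
      symm
      apply Nat.card_congr
      exact Equiv.ofBijective (fun k => (⟨φ k, (hφ _).mpr ⟨k, rfl⟩⟩ : K0))
        ⟨fun a b h => φ.injective (congrArg Subtype.val h), fun ⟨y, hy⟩ => by
          obtain ⟨k, hk⟩ := (hφ y).mp hy
          exact ⟨k, Subtype.ext hk⟩⟩
    have hm1 : m ≠ 1 := by
      rintro rfl
      rw [pow_one] at hcard
      rcases Cfsg.Agent.Helper41.Dk.subfield_cases K0 with h | h
      · exact hK0 h
      · rw [hcardK0, hcard] at h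
        nlinarith
    by_contra hnp
    obtain ⟨s, hsm, hs2, hslt⟩ := Nat.exists_dvd_of_not_prime2 (by omega : 2 ≤ m) hnp
    obtain ⟨t, ht⟩ := hsm
    have ht2 : 2 ≤ t := by
      by_contra h
      push Not at h
      interval_cases t
      · omega
      · omega
    have hKchar : CharP K 2 := CharTwo.of_one_ne_zero_of_two_eq_zero one_ne_zero h2K
    obtain ⟨n, -, hn⟩ := FiniteField.card K 2
    obtain ⟨N, hN⟩ : ∃ N : ℕ, N = Fintype.card K ^ s := ⟨_, rfl⟩
    have hNpow : N = 2 ^ ((n : ℕ) * s) := by rw [hN, hn, pow_mul]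
    have hNQ : Fintype.card K ^ 2 ≤ N := by
      rw [hN]; exact Nat.pow_le_pow_right (by omega) hs2
    have hN4 : 4 ≤ N := by nlinarith
    have hNlt : N < Fintype.card F := by
      rw [← hcard, ht, pow_mul, ← hN]
      calc N = N ^ 1 := (pow_one N).symm
        _ < N ^ t := Nat.pow_lt_pow_right (by omega) (by omega)
    have h01 : K0 ≤ Kfix F ((n : ℕ) * s) := by
      intro x hx
      obtain ⟨k, rfl⟩ := (hφ x).mp hx
      rw [mem_Kfix, ← hNpow, hN, ← map_pow, FiniteField.pow_card_pow]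
    have hns : 1 ≤ (n : ℕ) * s := by
      have := n.pos
      nlinarith
    have hK1 : Kfix F ((n : ℕ) * s) ≠ ⊤ :=
      Kfix_ne_top ((n : ℕ) * s) hns (by rw [← hNpow]; exact hNlt)
    have h5 := hcomap (Kfix F ((n : ℕ) * s)) h01 hK1
    have hdvd : N - 1 ∣ Fintype.card F - 1 := by
      rw [← hcard, ht, pow_mul, ← hN]
      simpa only [one_pow] using Nat.sub_dvd_pow_sub_pow N 1 t
    obtain ⟨y, hy⟩ := exists_unit_of_dvd (N - 1) hdvd
    have hyK1 : (y : F) ∈ Kfix F ((n : ℕ) * s) := by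
      rw [mem_Kfix, ← hNpow]
      have h6 : y ^ (N - 1) = 1 := by rw [← hy]; exact pow_orderOf_eq_one y
      have h7 : (y : F) ^ (N - 1) = 1 := by
        rw [← Units.val_pow_eq_pow_val, h6, Units.val_one]
      calc (y : F) ^ N = (y : F) ^ (N - 1) * y := by
            rw [← pow_succ, Nat.sub_add_cancel (by omega)]
        _ = y := by rw [h7, one_mul]
    have hyK0 : (y : F) ∉ K0 := by
      intro hy0
      obtain ⟨k, hk⟩ := (hφ _).mp hy0
      have h8 : (y : F) ^ Fintype.card K = y := by rw [← hk, ← map_pow, FiniteField.pow_card]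
      have h9 := orderOf_dvd_of_pow_eq_one (unit_pow_pred y _ (by omega) h8)
      rw [hy] at h9
      have h10 := Nat.le_of_dvd (by omega) h9
      have h13 : N ≤ Fintype.card K := by omega
      have h14 : Fintype.card K ^ 2 ≤ Fintype.card K := le_trans hNQ h13
      nlinarith
    apply hyK0
    have h11 : c.symm (u (y : F)) ∈ Mt := by
      rw [← h5, Subgroup.mem_comap, MulEquiv.coe_toMonoidHom, MulEquiv.apply_symm_apply]
      exact (u_mem_SK_iff _ _).mpr hyK1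
    have h12 := hc _ h11
    rw [MulEquiv.apply_symm_apply] at h12
    exact (u_mem_SK_iff K0 _).mp h12

end tail

section final

variable {F : Type u} [Field F]

theorem mem_Kfix_two [CharP F 2] {x : F} : x ∈ Kfix F 2 ↔ x ^ 4 = x := Iff.rfl

/-- **Maximal subgroups of `SL₂(q)`, `q ≥ 4` even**: Borel subgroups, normalisers of tori
(dihedral of order `2 (q ± 1)`), subfield subgroups `SL₂(q₀)` with `q = q₀^r`, `r` prime,
`q₀ ≠ 2`. -/
theorem coatom_list [Fintype F] (h2 : (2 : F) = 0) (h4 : 4 ≤ Fintype.card F)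
    (Mt : Subgroup (SL2 F)) (hM : IsCoatom Mt) :
    Nat.card Mt = Fintype.card F * (Fintype.card F - 1) ∨
    Nonempty (Mt ≃* DihedralGroup (Fintype.card F - 1)) ∨
    Nonempty (Mt ≃* DihedralGroup (Fintype.card F + 1)) ∨
    (∃ (F₀ : Type) (_ : Field F₀) (_ : Fintype F₀) (r : ℕ), r.Prime ∧ Fintype.card F₀ ≠ 2 ∧
        Fintype.card F = Fintype.card F₀ ^ r ∧ Nonempty (Mt ≃* PSL2 F₀)) := by
  classical
  have hchar : CharP F 2 := CharTwo.of_one_ne_zero_of_two_eq_zero one_ne_zero h2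
  have hcen : Subgroup.center (SL2 F) = ⊥ := Cfsg.Agent.Helper5.center_SL2_eq_bot h2
  have hT : (∃ x ∈ Mt, x.1 0 0 + x.1 1 1 ≠ 0 ∧ ∀ g ∈ Mt, g * x * g⁻¹ = x ∨ g * x * g⁻¹ = x⁻¹) →
      (Nat.card Mt = Fintype.card F * (Fintype.card F - 1) ∨
      Nonempty (Mt ≃* DihedralGroup (Fintype.card F - 1)) ∨
      Nonempty (Mt ≃* DihedralGroup (Fintype.card F + 1)) ∨
      (∃ (F₀ : Type) (_ : Field F₀) (_ : Fintype F₀) (r : ℕ), r.Prime ∧ Fintype.card F₀ ≠ 2 ∧
        Fintype.card F = Fintype.card F₀ ^ r ∧ Nonempty (Mt ≃* PSL2 F₀))) := by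
    rintro ⟨x, hxM, htr, hN⟩
    rcases torus_final h4 Mt hM x hxM htr hN with h | h
    · right; left; exact h
    · right; right; left; exact h
  have hSub : ∀ (c : SL2 F ≃* SL2 F) (K0 : Subfield F), K0 ≠ ⊤ →
      (∀ g ∈ Mt, c g ∈ Cfsg.Agent.Helper41.Dk.SK K0) →
      (Nat.card Mt = Fintype.card F * (Fintype.card F - 1) ∨
      Nonempty (Mt ≃* DihedralGroup (Fintype.card F - 1)) ∨
      Nonempty (Mt ≃* DihedralGroup (Fintype.card F + 1)) ∨
      (∃ (F₀ : Type) (_ : Field F₀) (_ : Fintype F₀) (r : ℕ), r.Prime ∧ Fintype.card F₀ ≠ 2 ∧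
        Fintype.card F = Fintype.card F₀ ^ r ∧ Nonempty (Mt ≃* PSL2 F₀))) := by
    intro c K0 hK0 hc
    rcases subfield_case h4 Mt hM c K0 hK0 hc with h | h
    · exact hT h
    · right; right; right; exact h
  have hZbot : (Subgroup.center (SL2 F)).subgroupOf Mt = ⊥ := by
    rw [hcen]; exact Subgroup.bot_subgroupOf Mt
  obtain ⟨eZ⟩ : Nonempty (Mt ⧸ (Subgroup.center (SL2 F)).subgroupOf Mt ≃* Mt) :=
    ⟨(QuotientGroup.quotientMulEquivOfEq hZbot).trans QuotientGroup.quotientBot⟩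
  rcases Cfsg.Agent.Helper41.Dk.dickson_subgroup 2 Mt (by rw [hcen]; exact bot_le) with
    hB | hT' | ⟨-, ⟨e⟩⟩ | ⟨-, ⟨e⟩⟩ | ⟨-, ⟨e⟩⟩ | ⟨Q, hQ, K0, hS⟩
  · obtain ⟨v, hv, hfix⟩ := hB
    left
    exact card_of_borel h4 Mt hM v hv (fun g hg => hfix ⟨g, hg⟩)
  · obtain ⟨x, -, ht, hx⟩ := hT'
    apply hT
    refine ⟨x.1, x.2, ?_, ?_⟩
    · intro h
      apply ht
      rw [Cfsg.Agent.Helper41.Dk.tr_eq]
      show (x.1.1 0 0 + x.1.1 1 1) ^ 2 = 4
      rw [h]
      linear_combination (-2 : F) * h2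
    · intro g hg
      rcases hx ⟨g, hg⟩ with h | h
      · left; exact congrArg Subtype.val h
      · right; exact congrArg Subtype.val h
  · obtain ⟨f⟩ : Nonempty (alternatingGroup (Fin 4) ≃* Mt) := ⟨(eZ.symm.trans e).symm⟩
    have k1 : (f a4a).1 * (f a4a).1 = 1 := by
      rw [← Subgroup.coe_mul, ← map_mul, PSL2Sub.a4_f1, map_one]; rfl
    have k2 : (f a4a).1 ≠ 1 := by
      intro h
      apply PSL2Sub.a4_f2
      apply f.injective
      rw [map_one]
      exact Subtype.ext h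
    have k3 : (f (a4b * a4a * a4b⁻¹)).1 * (f (a4b * a4a * a4b⁻¹)).1 = 1 := by
      rw [← Subgroup.coe_mul, ← map_mul, a4_inv2, map_one]; rfl
    have k4 : (f a4a).1 * (f (a4b * a4a * a4b⁻¹)).1 = (f (a4b * a4a * a4b⁻¹)).1 * (f a4a).1 := by
      rw [← Subgroup.coe_mul, ← Subgroup.coe_mul, ← map_mul, ← map_mul, PSL2Sub.a4_f4]
    have k5 : ∀ g ∈ Mt, g * (f a4a).1 * g⁻¹ = (f a4a).1 ∨
        g * (f a4a).1 * g⁻¹ = (f (a4b * a4a * a4b⁻¹)).1 ∨
        g * (f a4a).1 * g⁻¹ = (f a4a).1 * (f (a4b * a4a * a4b⁻¹)).1 := by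
      intro g hg
      have h := a4_conj (f.symm ⟨g, hg⟩)
      have key : ∀ z : alternatingGroup (Fin 4),
          f.symm ⟨g, hg⟩ * a4a * (f.symm ⟨g, hg⟩)⁻¹ = z → g * (f a4a).1 * g⁻¹ = (f z).1 := by
        intro z h1
        rw [← h1, map_mul, map_mul, map_inv, f.apply_symm_apply]
        rfl
      rcases h with h | h | h
      · left; exact key _ h
      · right; left; exact key _ h
      · right; right
        rw [key _ h, map_mul]; rfl
    obtain ⟨v, hv, hfix⟩ := fix_of_klein h2 Mt (f a4a).1 (f (a4b * a4a * a4b⁻¹)).1 k1 k2 k3 k4 k5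
    left
    exact card_of_borel h4 Mt hM v hv hfix
  · exfalso
    have hinj := PSL2Sub.pr_injective_of_two h2
    exact PSL2Sub.no_S4_of_two h2 (Mt.map pr)
      ((Mt.equivMapOfInjective pr hinj).symm.trans (eZ.symm.trans e))
  · obtain ⟨f⟩ : Nonempty (alternatingGroup (Fin 5) ≃* Mt) := ⟨(eZ.symm.trans e).symm⟩
    have k1 : (f a5a).1 * (f a5a).1 = 1 := by
      rw [← Subgroup.coe_mul, ← map_mul, a5_r1, map_one]; rfl
    have k2 : (f a5a).1 ≠ 1 := by
      intro h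
      apply a5_r2
      apply f.injective
      rw [map_one]
      exact Subtype.ext h
    have k3 : (f a5b).1 * (f a5b).1 = ((f a5b).1)⁻¹ := by
      rw [← Subgroup.coe_mul, ← map_mul, a5_r3, map_inv]; rfl
    have k4 : (f a5b).1 ≠ 1 := by
      intro h
      apply a5_r4
      apply f.injective
      rw [map_one]
      exact Subtype.ext h
    have hxy : (f a5a).1 * (f a5b).1 = (f (a5a * a5b)).1 := by rw [map_mul]; rfl
    have k5 : ((f a5a).1 * (f a5b).1) * ((f a5a).1 * (f a5b).1) * ((f a5a).1 * (f a5b).1) =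
        ((f a5a).1 * (f a5b).1)⁻¹ * ((f a5a).1 * (f a5b).1)⁻¹ := by
      rw [hxy, ← Subgroup.coe_mul, ← Subgroup.coe_mul, ← map_mul, ← map_mul, a5_r5, map_mul,
        map_inv]
      rfl
    have k6 : (f a5a).1 * (f a5b).1 ≠ 1 := by
      rw [hxy]
      intro h
      apply a5_r6
      apply f.injective
      rw [map_one]
      exact Subtype.ext h
    obtain ⟨g, hgX, hgY⟩ := a5_conj h2 (f a5a).1 (f a5b).1 k1 k2 k3 k4 k5 k6
    apply hSub (MulAut.conj g) (Kfix F 2)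
    · intro htop
      have h1 : ∀ x : F, x ^ 4 = x := fun x => by
        have : x ∈ Kfix F 2 := by rw [htop]; trivial
        exact mem_Kfix_two.mp this
      have h5 := card_le_of_forall_pow 4 (by norm_num) h1
      have h6 : Fintype.card F = 4 := by omega
      apply hM.1
      apply Subgroup.eq_top_of_card_eq
      rw [Nat.card_congr f.symm.toEquiv, a5_card, Cfsg.Agent.Helper42.SL2.card_SL2, h6]
      norm_num
    · intro m hm
      have h1 : ∀ z : alternatingGroup (Fin 5),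
          ((MulAut.conj g).toMonoidHom.comp (Mt.subtype.comp f.toMonoidHom)) z ∈
            Cfsg.Agent.Helper41.Dk.SK (Kfix F 2) := by
        apply a5_gen
        · intro i j
          exact mem_Kfix_two.mpr (hgX i j)
        · intro i j
          exact mem_Kfix_two.mpr (hgY i j)
      have h3 := h1 (f.symm ⟨m, hm⟩)
      simpa using h3
  · rcases hS with h1 | ⟨lam, hlam, hlam2, -⟩
    · have hcinj := Cfsg.Agent.Helper41.conjGL_injective Q hQ
      obtain ⟨c, hcdef⟩ : ∃ c : SL2 F ≃* SL2 F, ∀ g, c g = Cfsg.Agent.Helper41.conjGL Q hQ g :=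
        ⟨MulEquiv.ofBijective (Cfsg.Agent.Helper41.conjGL Q hQ)
          ⟨hcinj, Finite.injective_iff_surjective.mp hcinj⟩, fun g => rfl⟩
      apply hSub c K0
      · rintro rfl
        apply hM.1
        apply Cfsg.Agent.Helper41.Dk.eq_top_of_range_top Mt Q hQ
        intro g
        rw [h1]
        intro i j
        trivial
      · intro g hg
        rw [hcdef]
        exact (h1 _).mp ⟨⟨g, hg⟩, rfl⟩
    · exact absurd (Cfsg.Agent.Helper41.Dk.mem_of_sq_mem_char_two h2 K0 lam hlam2) hlam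

end final

end Cfsg.Agent.Helper40.SL2Even
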