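import Mathlib
import Cfsg.Agent.Helper21.SPDefs

set_option autoImplicit false

/-!
Definitions for CALL S2086 (helper40): central extensions of `SL_n(K)`, `n ≥ 3`, split
(Steinberg / Milnor), hence the Schur multiplier of `PSL_n(q)`.
`tv i j t` (the elementary matrix `1 + t E_ij`) and `StN` (the Steinberg relations) are those of
`Cfsg.Agent.Helper21.SP`.
-/

namespace Cfsg.Agent.Helper40.SM

open Cfsg.Agent.Helper21.SP
open scoped commutatorElement

variable {n : ℕ} {K : Type*} [Field K]

/-- lifts of commuting elementary matrices commute -/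
def LiftComm {Γ : Type*} [Group Γ] (σ : Γ →* Matrix.SpecialLinearGroup (Fin n) K) : Prop :=
  ∀ i j k l : Fin n, i ≠ j → k ≠ l → i ≠ l → j ≠ k → ∀ (t u : K) (a b : Γ),
    σ a = tv i j t → σ b = tv k l u → a * b = b * a

theorem liftComm_iff {Γ : Type*} [Group Γ] (σ : Γ →* Matrix.SpecialLinearGroup (Fin n) K) :
    LiftComm σ ↔ ∀ i j k l : Fin n, i ≠ j → k ≠ l → i ≠ l → j ≠ k → ∀ (t u : K) (a b : Γ),
      σ a = tv i j t → σ b = tv k l u → a * b = b * a := Iff.rfl

/-- the diagonal matrix with entries `δ` (of determinant one) -/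
def dg (δ : Fin n → K) (h : ∏ a, δ a = 1) : Matrix.SpecialLinearGroup (Fin n) K :=
  ⟨Matrix.diagonal δ, by rw [Matrix.det_diagonal]; exact h⟩

theorem dg_coe (δ : Fin n → K) (h : ∏ a, δ a = 1) :
    ((dg δ h : Matrix.SpecialLinearGroup (Fin n) K) : Matrix (Fin n) (Fin n) K) =
      Matrix.diagonal δ := rfl

/-- `c` at `i`, `c⁻¹` at `j`, `1` elsewhere -/
def d2 (i j : Fin n) (c : K) : Fin n → K :=
  fun a => if a = i then c else if a = j then c⁻¹ else 1

theorem d2_apply (i j : Fin n) (c : K) (a : Fin n) :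
    d2 i j c a = if a = i then c else if a = j then c⁻¹ else 1 := rfl

/-- `c` at `i` and at `l`, `(c²)⁻¹` at `j`, `1` elsewhere -/
def d3 (i j l : Fin n) (c : K) : Fin n → K :=
  fun a => if a = i then c else if a = l then c else if a = j then (c ^ 2)⁻¹ else 1

theorem d3_apply (i j l : Fin n) (c : K) (a : Fin n) :
    d3 i j l c a = if a = i then c else if a = l then c else if a = j then (c ^ 2)⁻¹ else 1 := rfl

theorem exists_third (hn : 3 ≤ n) (i j : Fin n) : ∃ h : Fin n, h ≠ i ∧ h ≠ j := by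
  by_cases h0 : i.val ≠ 0 ∧ j.val ≠ 0
  · refine ⟨⟨0, by omega⟩, ?_, ?_⟩
    · intro h; exact h0.1 (congrArg Fin.val h).symm
    · intro h; exact h0.2 (congrArg Fin.val h).symm
  · by_cases h1 : i.val ≠ 1 ∧ j.val ≠ 1
    · refine ⟨⟨1, by omega⟩, ?_, ?_⟩
      · intro h; exact h1.1 (congrArg Fin.val h).symm
      · intro h; exact h1.2 (congrArg Fin.val h).symm
    · refine ⟨⟨2, by omega⟩, ?_, ?_⟩
      · intro h
        have := congrArg Fin.val h
        simp only at this
        omega
      · intro h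
        have := congrArg Fin.val h
        simp only at this
        omega

/-- a chosen index different from `i` and `j` -/
noncomputable def hidx (hn : 3 ≤ n) (i j : Fin n) : Fin n := Classical.choose (exists_third hn i j)

theorem hidx_ne_left (hn : 3 ≤ n) (i j : Fin n) : hidx hn i j ≠ i :=
  (Classical.choose_spec (exists_third hn i j)).1

theorem hidx_ne_right (hn : 3 ≤ n) (i j : Fin n) : hidx hn i j ≠ j :=
  (Classical.choose_spec (exists_third hn i j)).2

/-- the lifted generators `y_ij(t) = [x̃_ih(t), x̃_hj(1)]`, `h = hidx i j` -/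
noncomputable def ylift {Γ : Type*} [Group Γ] (σ : Γ →* Matrix.SpecialLinearGroup (Fin n) K)
    (hσ : Function.Surjective σ) (hn : 3 ≤ n) (i j : Fin n) (t : K) : Γ :=
  ⁅Function.surjInv hσ (tv i (hidx hn i j) t), Function.surjInv hσ (tv (hidx hn i j) j 1)⁆

theorem ylift_eq {Γ : Type*} [Group Γ] (σ : Γ →* Matrix.SpecialLinearGroup (Fin n) K)
    (hσ : Function.Surjective σ) (hn : 3 ≤ n) (i j : Fin n) (t : K) :
    ylift σ hσ hn i j t =
      ⁅Function.surjInv hσ (tv i (hidx hn i j) t), Function.surjInv hσ (tv (hidx hn i j) j 1)⁆ :=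
  rfl

/-- forces the equation lemmas of the definitions to live in this file -/
theorem defs_eqns_here {Γ : Type*} [Group Γ] (σ : Γ →* Matrix.SpecialLinearGroup (Fin n) K)
    (hσ : Function.Surjective σ) (hn : 3 ≤ n) (i j l : Fin n) (c t : K) (δ : Fin n → K)
    (h : ∏ a, δ a = 1) : True := by
  have _h1 := LiftComm.eq_1 σ
  have _h2 := dg.eq_1 δ h
  have _h3 := d2.eq_1 i j c
  have _h4 := d3.eq_1 i j l c
  have _h5 := hidx.eq_1 hn i j
  have _h6 := ylift.eq_1 σ hσ hn i j t
  trivial

end Cfsg.Agent.Helper40.SM
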