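import Mathlib
import Cfsg.Prelude.Def_ChevG2
import Cfsg.Prelude.Def_ChevB2
import Cfsg.Prelude.Def_ChevD4
import Cfsg.Prelude.Def_ChevF4
import Cfsg.Prelude.Def_ChevE6
import Cfsg.Prelude.Def_ChevE7
import Cfsg.Prelude.Def_ChevE8
import Cfsg.Agent.Helper40.SteinbergPerfect

/-!
# Certificates for the perfectness of the Steinberg covers (helper40)

Generated lists of root pairs, checked by kernel evaluation.
-/

set_option autoImplicit false
set_option maxRecDepth 100000

namespace Cfsg.Agent.Helper40

open Cfsg.Lie

def perfCertG2 : List (Bool × ℕ × ℕ) :=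
  [(false, 0, 6), (false, 0, 10), (false, 1, 5), (false, 1, 11), (false, 5, 11), (false, 6, 10),
   (true, 0, 8), (false, 2, 11), (false, 4, 5), (false, 4, 10), (false, 5, 8)]

theorem perfCertG2_ok : perfOK chevG2 perfCertG2 = true := by decide +kernel

def perfCertB2 : List (Bool × ℕ × ℕ) :=
  [(true, 0, 5), (false, 1, 7), (true, 0, 6), (false, 2, 7), (true, 1, 4), (true, 3, 6)]

theorem perfCertB2_ok : perfOK chevB2 perfCertB2 = true := by decide +kernel

def perfCertD4 : List (Bool × ℕ × ℕ) :=
  [(false, 0, 14), (false, 0, 15), (false, 0, 16), (false, 0, 17), (false, 0, 19), (false, 0, 20),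
   (false, 0, 21), (false, 0, 22), (false, 1, 9), (false, 1, 17), (false, 1, 20), (false, 1, 21),
   (false, 1, 23), (false, 2, 22), (false, 2, 23), (false, 3, 22), (false, 3, 23), (false, 4, 23),
   (false, 6, 22), (false, 6, 23), (false, 7, 23), (false, 8, 23), (false, 9, 23), (false, 14, 22)]

theorem perfCertD4_ok : perfOK chevD4 perfCertD4 = true := by decide +kernel

theorem perfCertD4_noB : perfUsesB perfCertD4 = false := by decide +kernel

def perfCertF4 : List (Bool × ℕ × ℕ) :=
  [(false, 0, 24), (false, 0, 26), (false, 0, 31), (false, 0, 32), (false, 0, 42), (false, 0, 43),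
   (false, 0, 45), (false, 0, 46), (false, 1, 23), (false, 1, 28), (false, 1, 32), (false, 1, 35),
   (false, 1, 37), (false, 1, 43), (false, 1, 45), (false, 1, 47), (false, 2, 37), (false, 2, 38),
   (false, 2, 46), (false, 2, 47), (false, 3, 37), (false, 3, 38), (false, 3, 39), (false, 3, 40),
   (false, 3, 41), (false, 3, 42), (false, 3, 43), (false, 3, 45), (false, 3, 46), (false, 3, 47),
   (false, 4, 46), (false, 4, 47), (false, 5, 47), (false, 7, 44), (false, 7, 45), (false, 7, 46),
   (false, 7, 47), (false, 8, 46), (false, 8, 47), (false, 9, 47), (false, 11, 47), (false, 15, 46),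
   (false, 15, 47), (false, 16, 47), (false, 18, 47), (false, 21, 47), (false, 23, 47), (false, 24, 46)]

theorem perfCertF4_ok : perfOK chevF4 perfCertF4 = true := by decide +kernel

theorem perfCertF4_noB : perfUsesB perfCertF4 = false := by decide +kernel

def perfCertE6 : List (Bool × ℕ × ℕ) :=
  [(false, 0, 46), (false, 0, 47), (false, 0, 48), (false, 0, 49), (false, 0, 50), (false, 0, 51),
   (false, 0, 52), (false, 0, 53), (false, 0, 54), (false, 0, 55), (false, 0, 61), (false, 0, 62),
   (false, 0, 63), (false, 0, 64), (false, 0, 65), (false, 0, 66), (false, 0, 67), (false, 0, 68),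
   (false, 0, 69), (false, 0, 70), (false, 1, 25), (false, 1, 53), (false, 1, 54), (false, 1, 55),
   (false, 1, 64), (false, 1, 65), (false, 1, 66), (false, 1, 67), (false, 1, 68), (false, 1, 69),
   (false, 1, 71), (false, 2, 55), (false, 2, 66), (false, 2, 67), (false, 2, 68), (false, 2, 70),
   (false, 2, 71), (false, 3, 67), (false, 3, 69), (false, 3, 70), (false, 3, 71), (false, 4, 68),
   (false, 4, 69), (false, 4, 70), (false, 4, 71), (false, 5, 55), (false, 5, 69), (false, 5, 70),
   (false, 5, 71), (false, 6, 70), (false, 6, 71), (false, 7, 70), (false, 7, 71), (false, 8, 71),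
   (false, 9, 71), (false, 10, 71), (false, 16, 66), (false, 16, 69), (false, 16, 70),
   (false, 16, 71), (false, 17, 70), (false, 17, 71), (false, 18, 70), (false, 18, 71),
   (false, 19, 71), (false, 20, 71), (false, 21, 71), (false, 22, 71), (false, 23, 71),
   (false, 24, 71), (false, 25, 71), (false, 46, 70)]

theorem perfCertE6_ok : perfOK chevE6 perfCertE6 = true := by decide +kernel

theorem perfCertE6_noB : perfUsesB perfCertE6 = false := by decide +kernel

def perfCertE7 : List (Bool × ℕ × ℕ) :=
  [(false, 0, 93), (false, 0, 94), (false, 0, 95), (false, 0, 96), (false, 0, 97), (false, 0, 98),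
   (false, 0, 99), (false, 0, 100), (false, 0, 101), (false, 0, 102), (false, 0, 103),
   (false, 0, 104), (false, 0, 105), (false, 0, 106), (false, 0, 107), (false, 0, 108),
   (false, 0, 109), (false, 0, 110), (false, 0, 111), (false, 0, 112), (false, 0, 113),
   (false, 0, 114), (false, 0, 115), (false, 0, 116), (false, 0, 117), (false, 0, 118),
   (false, 0, 119), (false, 0, 120), (false, 0, 121), (false, 0, 122), (false, 0, 123),
   (false, 0, 124), (false, 1, 32), (false, 1, 109), (false, 1, 110), (false, 1, 111),
   (false, 1, 112), (false, 1, 113), (false, 1, 114), (false, 1, 115), (false, 1, 116),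
   (false, 1, 117), (false, 1, 118), (false, 1, 119), (false, 1, 120), (false, 1, 121),
   (false, 1, 122), (false, 1, 123), (false, 1, 125), (false, 2, 115), (false, 2, 116),
   (false, 2, 117), (false, 2, 118), (false, 2, 119), (false, 2, 120), (false, 2, 121),
   (false, 2, 122), (false, 2, 124), (false, 2, 125), (false, 3, 118), (false, 3, 119),
   (false, 3, 120), (false, 3, 121), (false, 3, 123), (false, 3, 124), (false, 3, 125),
   (false, 4, 119), (false, 4, 120), (false, 4, 122), (false, 4, 123), (false, 4, 124),
   (false, 4, 125), (false, 5, 119), (false, 5, 121), (false, 5, 122), (false, 5, 123),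
   (false, 5, 124), (false, 5, 125), (false, 6, 120), (false, 6, 121), (false, 6, 122),
   (false, 6, 123), (false, 6, 124), (false, 6, 125), (false, 7, 122), (false, 7, 123),
   (false, 7, 124), (false, 7, 125), (false, 8, 123), (false, 8, 124), (false, 8, 125),
   (false, 9, 123), (false, 9, 124), (false, 9, 125), (false, 10, 123), (false, 10, 124),
   (false, 10, 125), (false, 11, 124), (false, 11, 125), (false, 12, 124), (false, 12, 125),
   (false, 13, 124), (false, 13, 125), (false, 14, 124), (false, 14, 125), (false, 15, 124),
   (false, 15, 125), (false, 16, 124), (false, 16, 125), (false, 17, 125), (false, 18, 125),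
   (false, 19, 125), (false, 20, 125), (false, 21, 125), (false, 22, 125), (false, 23, 125),
   (false, 24, 125), (false, 25, 125), (false, 26, 125), (false, 27, 125), (false, 28, 125),
   (false, 29, 125), (false, 30, 125), (false, 31, 125), (false, 32, 125), (false, 93, 124)]

theorem perfCertE7_ok : perfOK chevE7 perfCertE7 = true := by decide +kernel

theorem perfCertE7_noB : perfUsesB perfCertE7 = false := by decide +kernel

def perfCertE8 : List (Bool × ℕ × ℕ) :=
  [(false, 0, 120), (false, 0, 122), (false, 0, 125), (false, 0, 129), (false, 0, 134),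
   (false, 0, 140), (false, 0, 146), (false, 0, 151), (false, 0, 155), (false, 0, 158),
   (false, 0, 160), (false, 0, 161), (false, 0, 168), (false, 0, 173), (false, 0, 177),
   (false, 0, 180), (false, 0, 182), (false, 0, 183), (false, 0, 187), (false, 0, 190),
   (false, 0, 192), (false, 0, 193), (false, 0, 196), (false, 0, 198), (false, 0, 199),
   (false, 0, 201), (false, 0, 202), (false, 0, 203), (false, 0, 206), (false, 0, 208),
   (false, 0, 209), (false, 0, 211), (false, 0, 212), (false, 0, 213), (false, 0, 215),
   (false, 0, 216), (false, 0, 217), (false, 0, 218), (false, 0, 220), (false, 0, 221),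
   (false, 0, 222), (false, 0, 223), (false, 0, 224), (false, 0, 225), (false, 0, 227),
   (false, 0, 228), (false, 0, 229), (false, 0, 230), (false, 0, 231), (false, 0, 232),
   (false, 0, 233), (false, 0, 234), (false, 0, 235), (false, 0, 236), (false, 0, 237),
   (false, 0, 238), (false, 1, 119), (false, 1, 161), (false, 1, 183), (false, 1, 193),
   (false, 1, 199), (false, 1, 202), (false, 1, 203), (false, 1, 209), (false, 1, 212),
   (false, 1, 213), (false, 1, 216), (false, 1, 217), (false, 1, 218), (false, 1, 221),
   (false, 1, 222), (false, 1, 223), (false, 1, 224), (false, 1, 225), (false, 1, 228),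
   (false, 1, 229), (false, 1, 230), (false, 1, 231), (false, 1, 232), (false, 1, 233),
   (false, 1, 234), (false, 1, 235), (false, 1, 236), (false, 1, 237), (false, 1, 239),
   (false, 2, 203), (false, 2, 213), (false, 2, 217), (false, 2, 218), (false, 2, 222),
   (false, 2, 223), (false, 2, 224), (false, 2, 225), (false, 2, 229), (false, 2, 230),
   (false, 2, 231), (false, 2, 232), (false, 2, 233), (false, 2, 234), (false, 2, 235),
   (false, 2, 236), (false, 2, 238), (false, 2, 239), (false, 3, 218), (false, 3, 223),
   (false, 3, 224), (false, 3, 225), (false, 3, 230), (false, 3, 231), (false, 3, 232),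
   (false, 3, 233), (false, 3, 234), (false, 3, 235), (false, 3, 237), (false, 3, 238),
   (false, 3, 239), (false, 4, 224), (false, 4, 225), (false, 4, 231), (false, 4, 232),
   (false, 4, 233), (false, 4, 234), (false, 4, 236), (false, 4, 237), (false, 4, 238),
   (false, 4, 239), (false, 5, 225), (false, 5, 232), (false, 5, 233), (false, 5, 235),
   (false, 5, 236), (false, 5, 237), (false, 5, 238), (false, 5, 239), (false, 6, 225),
   (false, 6, 234), (false, 6, 235), (false, 6, 236), (false, 6, 237), (false, 6, 238),
   (false, 6, 239), (false, 7, 234), (false, 7, 235), (false, 7, 236), (false, 7, 237),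
   (false, 7, 238), (false, 7, 239), (false, 8, 235), (false, 8, 236), (false, 8, 237),
   (false, 8, 238), (false, 8, 239), (false, 9, 236), (false, 9, 237), (false, 9, 238),
   (false, 9, 239), (false, 10, 237), (false, 10, 238), (false, 10, 239), (false, 11, 238),
   (false, 11, 239), (false, 12, 239), (false, 14, 233), (false, 14, 234), (false, 14, 235),
   (false, 14, 236), (false, 14, 237), (false, 14, 238), (false, 14, 239), (false, 15, 235),
   (false, 15, 236), (false, 15, 237), (false, 15, 238), (false, 15, 239), (false, 16, 236),
   (false, 16, 237), (false, 16, 238), (false, 16, 239), (false, 17, 237), (false, 17, 238),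
   (false, 17, 239), (false, 18, 238), (false, 18, 239), (false, 19, 239), (false, 21, 236),
   (false, 21, 237), (false, 21, 238), (false, 21, 239), (false, 22, 237), (false, 22, 238),
   (false, 22, 239), (false, 23, 238), (false, 23, 239), (false, 24, 239), (false, 26, 237),
   (false, 26, 238), (false, 26, 239), (false, 27, 238), (false, 27, 239), (false, 28, 239),
   (false, 30, 238), (false, 30, 239), (false, 31, 239), (false, 33, 239), (false, 36, 237),
   (false, 36, 238), (false, 36, 239), (false, 37, 238), (false, 37, 239), (false, 38, 239),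
   (false, 40, 238), (false, 40, 239), (false, 41, 239), (false, 43, 239), (false, 46, 238),
   (false, 46, 239), (false, 47, 239), (false, 49, 239), (false, 52, 239), (false, 56, 238),
   (false, 56, 239), (false, 57, 239), (false, 59, 239), (false, 62, 239), (false, 66, 239),
   (false, 71, 239), (false, 78, 238), (false, 78, 239), (false, 79, 239), (false, 81, 239),
   (false, 84, 239), (false, 88, 239), (false, 93, 239), (false, 99, 239), (false, 105, 239),
   (false, 110, 239), (false, 114, 239), (false, 117, 239), (false, 119, 239), (false, 120, 238)]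

theorem perfCertE8_ok : perfOK chevE8 perfCertE8 = true := by decide +kernel

theorem perfCertE8_noB : perfUsesB perfCertE8 = false := by decide +kernel

end Cfsg.Agent.Helper40
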